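import Groth.Agent.CMFlat.FiberRing
import Groth.Agent.S2092

/-! A ring finite free over a polynomial ring over a field is Cohen–Macaulay. -/

noncomputable section

namespace Groth.Agent.SMT

universe u

open scoped TensorProduct

theorem isCohenMacaulayLocalRing_of_artinian (T : Type u) [CommRing T] [IsLocalRing T] [IsArtinianRing T] :
    LocCoh.IsCohenMacaulayLocalRing T :=
  Groth.Agent.CMFlat.isCohenMacaulayLocalRing_of_dim_le_depth (d := 0) (by
    haveI : Ring.KrullDimLE 0 T := inferInstance
    exact ringKrullDimZero_iff_ringKrullDim_eq_zero.1 inferInstance) (by simp)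

theorem isCohenMacaulayRing_polynomial (K : Type u) [Field K] (E : ℕ) :
    LocCoh.IsCohenMacaulayRing (MvPolynomial (Fin E) K) :=
  { isCohenMacaulayLocalRing_localization := fun p _ => by
      haveI : IsRegularLocalRing (Localization.AtPrime p) := IsRegularRing.isRegularLocalRing_localization p
      exact Groth.Agent.CMFlat.isCohenMacaulayLocalRing_of_isRegularLocalRing _ }

theorem isCohenMacaulayRing_of_free {K : Type u} [Field K] {E : ℕ} (A : Type u) [CommRing A]
    [Algebra (MvPolynomial (Fin E) K) A] [Module.Free (MvPolynomial (Fin E) K) A]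
    [Module.Finite (MvPolynomial (Fin E) K) A] : LocCoh.IsCohenMacaulayRing A := by
  haveI := isCohenMacaulayRing_polynomial K E
  haveI : IsNoetherianRing A := IsNoetherianRing.of_finite (MvPolynomial (Fin E) K) A
  refine Groth.Agent.CMFlat.isCohenMacaulayRing_of_fibers (A := MvPolynomial (Fin E) K) fun p _ Q _ => ?_
  haveI : Module.Finite p.ResidueField (p.Fiber A) := Module.Finite.base_change _ _ _
  haveI : IsArtinianRing (p.Fiber A) := IsArtinianRing.of_finite p.ResidueField _
  haveI : IsArtinianRing (Localization.AtPrime Q) := inferInstance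
  exact isCohenMacaulayLocalRing_of_artinian _

end Groth.Agent.SMT
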