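import Groth.Agent.LocH.DepthMisc
import Groth.Agent.InvFin.Depth
import Groth.Agent.GLinFree.Dim
import Groth.Agent.S14424
import Mathlib.RingTheory.GradedAlgebra.Radical
import Mathlib.Algebra.Field.Shrink

/-! Gluing two graded Cohen–Macaulay quotients along a Cohen–Macaulay intersection. -/

set_option autoImplicit false

noncomputable section

namespace Groth.Agent.SMT

open CategoryTheory DirectSum

universe u v

/-- A dimension bound along a covering family of closed subsets. -/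
theorem ringKrullDim_le_of_cover {R : Type v} [CommRing R] {n : WithBot ℕ∞}
    (h : ∀ p : Ideal R, p.IsPrime → ∃ K : Ideal R, K ≤ p ∧ ringKrullDim (R ⧸ K) ≤ n) : ringKrullDim R ≤ n := by
  refine iSup_le fun l => ?_
  obtain ⟨K, hK, hn⟩ := h l.head.asIdeal l.head.isPrime
  have hKl : ∀ i, l i ∈ PrimeSpectrum.zeroLocus (RingHom.ker (Ideal.Quotient.mk K) : Set R) := fun i => by
    rw [Ideal.mk_ker, PrimeSpectrum.mem_zeroLocus]
    exact SetLike.coe_subset_coe.2 (hK.trans (l.head_le i))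
  choose q hq using fun i => (range_comap_of_surjective _ (Ideal.Quotient.mk K) Ideal.Quotient.mk_surjective).ge (hKl i)
  refine le_trans ?_ hn
  exact le_iSup (fun p : LTSeries (PrimeSpectrum (R ⧸ K)) => ((p.length : ℕ∞) : WithBot ℕ∞))
    (LTSeries.mk l.length q fun i j hij => by
      have h1 : l i < l j := l.strictMono hij
      rw [← hq i, ← hq j] at h1
      refine lt_of_le_not_ge ?_ fun h2 => h1.not_ge (Ideal.comap_mono h2)
      exact (Ideal.comap_le_comap_iff_of_surjective _ Ideal.Quotient.mk_surjective _ _).1 h1.le)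

/-- The height of a prime of a quotient is at most that of its preimage. -/
theorem height_le_height_comap {R S : Type v} [CommRing R] [CommRing S] (f : R →+* S) (hf : Function.Surjective f)
    (p : Ideal S) [p.IsPrime] : p.height ≤ (p.comap f).height := by
  rw [PrimeSpectrum.height_eq_orderHeight ⟨p, inferInstance⟩,
    PrimeSpectrum.height_eq_orderHeight ⟨p.comap f, inferInstance⟩]
  exact Order.height_le_height_apply_of_strictMono (PrimeSpectrum.comap f) (fun a b hab =>
    lt_of_le_not_ge (Ideal.comap_mono hab.le) fun h =>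
      hab.not_ge ((Ideal.comap_le_comap_iff_of_surjective _ hf _ _).1 h)) ⟨p, inferInstance⟩

variable {K : Type u} [Field K] {A : Type v} [CommRing A] [Algebra K A] (𝒜 : ℕ → Submodule K A) [GradedAlgebra 𝒜]
  (h0 : ∀ a ∈ 𝒜 0, ∃ c : K, algebraMap K A c = a)

include h0 in
theorem finiteType_of_graded [IsNoetherianRing A] : Algebra.FiniteType K A := by
  classical
  obtain ⟨S, hS⟩ := IsNoetherian.noetherian (HomogeneousIdeal.irrelevant 𝒜).toIdeal
  refine ⟨⟨S.biUnion fun s => ((decompose 𝒜 s).support.filter (0 < ·)).image fun i => (decompose 𝒜 s i : A), ?_⟩⟩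
  set E := S.biUnion fun s => ((decompose 𝒜 s).support.filter (0 < ·)).image fun i => (decompose 𝒜 s i : A)
  have hE : ∀ e ∈ E, ∃ d : ℕ, 0 < d ∧ e ∈ 𝒜 d := fun e he => by
    simp only [E, Finset.mem_biUnion, Finset.mem_image, Finset.mem_filter] at he
    obtain ⟨s, -, i, ⟨-, hi⟩, rfl⟩ := he
    exact ⟨i, hi, SetLike.coe_mem _⟩
  have hspan : (HomogeneousIdeal.irrelevant 𝒜).toIdeal ≤ Ideal.span (E : Set A) := by
    rw [← hS]
    refine Ideal.span_le.2 fun s hs => ?_
    have hs' : (decompose 𝒜 s 0 : A) = 0 := by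
      have : s ∈ (HomogeneousIdeal.irrelevant 𝒜).toIdeal := hS ▸ Submodule.subset_span hs
      simpa [HomogeneousIdeal.mem_irrelevant_iff] using this
    rw [SetLike.mem_coe, ← sum_support_decompose 𝒜 s]
    refine sum_mem fun i hi => ?_
    rcases Nat.eq_zero_or_pos i with rfl | hpos
    · rw [hs']; exact zero_mem _
    · refine Ideal.subset_span ?_
      simp only [E, Finset.coe_biUnion, Set.mem_iUnion, Finset.coe_image, Set.mem_image]
      exact ⟨s, hs, i, Finset.mem_filter.2 ⟨hi, hpos⟩, rfl⟩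
  have key : ∀ n, ∀ a ∈ 𝒜 n, a ∈ Algebra.adjoin K (E : Set A) := by
    intro n
    induction n using Nat.strong_induction_on with
    | _ n ih =>
      intro a ha
      rcases Nat.eq_zero_or_pos n with rfl | hn
      · obtain ⟨c, rfl⟩ := h0 a ha
        exact Subalgebra.algebraMap_mem _ c
      · have hmem : a ∈ Submodule.span A (E : Set A) := hspan (HomogeneousIdeal.mem_irrelevant_of_mem 𝒜 hn ha)
        obtain ⟨N, c, g, hcg⟩ := Submodule.mem_span_set'.1 hmem
        have hdec : a = ∑ i, (decompose 𝒜 (c i * (g i : A)) n : A) := by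
          conv_lhs => rw [← decompose_of_mem_same 𝒜 ha, ← hcg]
          simp [decompose_sum, DFinsupp.finsetSum_apply]
        rw [hdec]
        refine sum_mem fun i _ => ?_
        obtain ⟨d, hd, hgd⟩ := hE _ (g i).2
        rw [coe_decompose_mul_of_right_mem 𝒜 n hgd]
        split_ifs with hdn
        · exact mul_mem (ih (n - d) (by omega) _ (SetLike.coe_mem _)) (Algebra.subset_adjoin (g i).2)
        · exact zero_mem _
  rw [eq_top_iff]
  intro a _
  rw [← sum_support_decompose 𝒜 a]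
  exact sum_mem fun i _ => key i _ (SetLike.coe_mem _)

include h0 in
/-- Proper homogeneous ideals lie in the irrelevant ideal. -/
theorem le_irrelevant {I : Ideal A} (hI : I.IsHomogeneous 𝒜) (hne : I ≠ ⊤) :
    I ≤ (HomogeneousIdeal.irrelevant 𝒜).toIdeal := by
  intro x hx
  rw [HomogeneousIdeal.mem_iff, HomogeneousIdeal.mem_irrelevant_iff, GradedRing.proj_apply]
  obtain ⟨c, hc⟩ := h0 _ (SetLike.coe_mem (decompose 𝒜 x 0))
  by_contra h
  have hc0 : c ≠ 0 := fun hc0 => h (by rw [← hc, hc0, map_zero])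
  exact hne (Ideal.eq_top_of_isUnit_mem _ (hI 0 hx) (hc ▸ (isUnit_iff_ne_zero.2 hc0).map _))

include h0 in
theorem isMaximal_irrelevant [Nontrivial A] : (HomogeneousIdeal.irrelevant 𝒜).toIdeal.IsMaximal := by
  refine Ideal.isMaximal_def.2 ⟨fun h => ?_, fun J hJ => ?_⟩
  · have h1 : (1 : A) ∈ (HomogeneousIdeal.irrelevant 𝒜).toIdeal := by rw [h]; trivial
    rw [HomogeneousIdeal.mem_iff, HomogeneousIdeal.mem_irrelevant_iff, GradedRing.proj_apply,
      decompose_of_mem_same 𝒜 SetLike.GradedOne.one_mem] at h1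
    exact one_ne_zero h1
  · obtain ⟨x, hxJ, hx⟩ := SetLike.exists_of_lt hJ
    have hx' : x - (decompose 𝒜 x 0 : A) ∈ (HomogeneousIdeal.irrelevant 𝒜).toIdeal := by
      rw [HomogeneousIdeal.mem_iff, HomogeneousIdeal.mem_irrelevant_iff, map_sub, GradedRing.proj_apply,
        GradedRing.proj_apply, decompose_of_mem_same 𝒜 (SetLike.coe_mem _), sub_self]
    obtain ⟨c, hc⟩ := h0 _ (SetLike.coe_mem (decompose 𝒜 x 0))
    rw [HomogeneousIdeal.mem_iff, HomogeneousIdeal.mem_irrelevant_iff, GradedRing.proj_apply] at hx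
    have hc0 : c ≠ 0 := fun hc0 => hx (by rw [← hc, hc0, map_zero])
    refine Ideal.eq_top_of_isUnit_mem _ (x := (decompose 𝒜 x 0 : A)) ?_ (hc ▸ (isUnit_iff_ne_zero.2 hc0).map _)
    simpa using sub_mem hxJ (hJ.le hx')

include h0 in
/-- The dimension of a graded quotient is the height of the irrelevant ideal. -/
theorem ringKrullDim_le_height_irrelevant [IsNoetherianRing A] [Nontrivial A] {I : Ideal A} (hI : I.IsHomogeneous 𝒜)
    (hne : I ≠ ⊤) :
    ringKrullDim (A ⧸ I) ≤ (((HomogeneousIdeal.irrelevant 𝒜).toIdeal.map (Ideal.Quotient.mk I)).height : WithBot ℕ∞) := by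
  haveI := finiteType_of_graded 𝒜 h0
  haveI := isMaximal_irrelevant 𝒜 h0
  haveI : Small.{v} K := small_of_injective (algebraMap K A).injective
  let eL : Shrink.{v} K ≃+* K := Shrink.ringEquiv K
  letI : Algebra (Shrink.{v} K) A := ((algebraMap K A).comp eL.toRingHom).toAlgebra
  haveI : Algebra.FiniteType (Shrink.{v} K) A := by
    have h1 : (algebraMap K A).FiniteType := RingHom.finiteType_algebraMap.2 inferInstance
    exact RingHom.finiteType_algebraMap.1 (h1.comp (RingHom.FiniteType.of_surjective _ eL.surjective))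
  refine ringKrullDim_le_of_cover fun p hp => ?_
  set c := (Ideal.homogeneousCore 𝒜 (p.comap (Ideal.Quotient.mk I))).toIdeal
  haveI hc : c.IsPrime := (Ideal.IsPrime.comap (Ideal.Quotient.mk I)).homogeneousCore
  have hIc : I ≤ c := by
    rw [← hI.toIdeal_homogeneousCore_eq_self]
    exact Ideal.homogeneousCore_mono 𝒜 (fun x hx => by
      rw [Ideal.mem_comap, Ideal.Quotient.eq_zero_iff_mem.2 hx]; exact zero_mem _)
  have hcA : c ≤ (HomogeneousIdeal.irrelevant 𝒜).toIdeal :=
    le_irrelevant 𝒜 h0 (Ideal.homogeneousCore 𝒜 _).isHomogeneous hc.ne_top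
  haveI : (c.map (Ideal.Quotient.mk I)).IsPrime :=
    Ideal.map_isPrime_of_surjective Ideal.Quotient.mk_surjective (by rwa [Ideal.mk_ker])
  refine ⟨c.map (Ideal.Quotient.mk I), Ideal.map_le_iff_le_comap.2 (Ideal.toIdeal_homogeneousCore_le 𝒜 _), ?_⟩
  haveI : ((HomogeneousIdeal.irrelevant 𝒜).toIdeal.map (Ideal.Quotient.mk I)).IsMaximal :=
    Ideal.IsMaximal.map_of_surjective_of_ker_le Ideal.Quotient.mk_surjective (by rw [Ideal.mk_ker]; exact hIc.trans hcA)
  set m := (HomogeneousIdeal.irrelevant 𝒜).toIdeal.map (Ideal.Quotient.mk I)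
  set c' := c.map (Ideal.Quotient.mk I)
  have hcm : c' ≤ m := Ideal.map_mono hcA
  haveI : (m.map (Ideal.Quotient.mk c')).IsMaximal :=
    Ideal.IsMaximal.map_of_surjective_of_ker_le Ideal.Quotient.mk_surjective (by rw [Ideal.mk_ker]; exact hcm)
  haveI : Algebra.FiniteType (Shrink.{v} K) ((A ⧸ I) ⧸ c') :=
    (Algebra.FiniteType.of_surjective (R := Shrink.{v} K) (Ideal.Quotient.mkₐ (Shrink.{v} K) I) Ideal.Quotient.mk_surjective).of_surjective
      (Ideal.Quotient.mkₐ (Shrink.{v} K) c') Ideal.Quotient.mk_surjective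
  rw [← GLinFree.height_eq_ringKrullDim (K := Shrink.{v} K) (m.map (Ideal.Quotient.mk c')), WithBot.coe_le_coe]
  refine (height_le_height_comap _ Ideal.Quotient.mk_surjective _).trans (le_of_eq ?_)
  rw [Ideal.comap_map_of_surjective _ Ideal.Quotient.mk_surjective, ← RingHom.ker_eq_comap_bot, Ideal.mk_ker,
    sup_eq_left.2 hcm]

/-- Vanishing of local cohomology of a Cohen–Macaulay quotient. -/
theorem subsingleton_H_quot {R M : Type v} [CommRing R] [IsNoetherianRing R] [CommRing M] [IsNoetherianRing M]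
    [LocCoh.IsCohenMacaulayRing M] [Algebra R M] [Module.Finite R M] {m : Ideal R}
    (hm : m.map (algebraMap R M) ≠ ⊤) {n i : ℕ} (hn : (n : ℕ∞) ≤ (m.map (algebraMap R M)).height) (hi : i < n) :
    Subsingleton (LocCoh.H m i M) := by
  refine (LocH.le_idealDepth_iff m M n).1 ?_ i hi
  rw [LocH.idealDepth_map_eq (R' := M) m M, (Groth.Agent.S14424.result M).1 inferInstance _ hm]
  exact hn

theorem eq_zero_of_subsingleton {X : Type v} [Zero X] (h : Subsingleton X) (x : X) : x = 0 := Subsingleton.elim _ _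

/-- Depth of the middle of the gluing sequence. -/
theorem subsingleton_H_glue {R M₁ M₂ M₃ : Type v} [CommRing R] [AddCommGroup M₁] [Module R M₁] [AddCommGroup M₂]
    [Module R M₂] [AddCommGroup M₃] [Module R M₃] (f : R →ₗ[R] M₁ × M₂) (g : M₁ × M₂ →ₗ[R] M₃)
    (hf : Function.Injective f) (hg : Function.Surjective g) (hfg : Function.Exact f g) (m : Ideal R) {e : ℕ}
    (h₁ : ∀ i, i < e → Subsingleton (LocCoh.H m i M₁)) (h₂ : ∀ i, i < e → Subsingleton (LocCoh.H m i M₂))
    (h₃ : ∀ i, i < e - 1 → Subsingleton (LocCoh.H m i M₃)) {i : ℕ} (hi : i < e) : Subsingleton (LocCoh.H m i R) := by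
  let P : ShortComplex (ModuleCat.{v} R) :=
    ShortComplex.mk (X₁ := ModuleCat.of R M₁) (X₂ := ModuleCat.of R (M₁ × M₂)) (X₃ := ModuleCat.of R M₂)
      (ModuleCat.ofHom (LinearMap.inl R M₁ M₂)) (ModuleCat.ofHom (LinearMap.snd R M₁ M₂)) (by ext x; rfl)
  have hP : P.ShortExact :=
    { exact := by
        rw [ShortComplex.moduleCat_exact_iff]
        rintro ⟨a, b⟩ (h : b = 0)
        exact ⟨a, by subst h; rfl⟩
      mono_f := (ModuleCat.mono_iff_injective _).2 LinearMap.inl_injective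
      epi_g := (ModuleCat.epi_iff_surjective _).2 LinearMap.snd_surjective }
  have h12 : ∀ j, j < e → ∀ x : LocCoh.H m j (M₁ × M₂), x = 0 := fun j hj x => by
    obtain ⟨y, hy⟩ := LocH.exact₂ hP j (x := x) (eq_zero_of_subsingleton (h₂ j hj) _)
    rw [← hy, eq_zero_of_subsingleton (h₁ j hj) y, map_zero]
  let Q : ShortComplex (ModuleCat.{v} R) :=
    ShortComplex.mk (X₁ := ModuleCat.of R R) (X₂ := ModuleCat.of R (M₁ × M₂)) (X₃ := ModuleCat.of R M₃)
      (ModuleCat.ofHom f) (ModuleCat.ofHom g) (ModuleCat.hom_ext hfg.linearMap_comp_eq_zero)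
  have hQ : Q.ShortExact :=
    { exact := by
        rw [ShortComplex.moduleCat_exact_iff]
        exact fun y hy => (hfg y).1 hy
      mono_f := (ModuleCat.mono_iff_injective _).2 hf
      epi_g := (ModuleCat.epi_iff_surjective _).2 hg }
  cases i with
  | zero =>
    refine subsingleton_of_forall_eq 0 fun x => ?_
    have e0 := LocH.zeroIso (R := R) m
    let θ := ((e0.app (ModuleCat.of R R)).toLinearEquiv)
    apply θ.injective
    rw [map_zero]
    refine Subtype.ext (hf ?_)
    have hx : ((e0.app (ModuleCat.of R (M₁ × M₂))).toLinearEquiv ((_root_.localCohomology m 0).map Q.f x)) =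
        ((e0.app (ModuleCat.of R (M₁ × M₂))).toLinearEquiv 0) := congrArg _ (h12 0 hi _)
    rw [map_zero] at hx
    have hnat := ConcreteCategory.congr_hom (e0.hom.naturality Q.f) x
    have := congrArg Subtype.val (hnat.symm.trans hx)
    exact this.trans (map_zero f).symm
  | succ k =>
    refine subsingleton_of_forall_eq 0 fun x => ?_
    obtain ⟨y, hy⟩ := LocH.exact₁ hQ (i := k) (x := x) (h12 (k + 1) hi _)
    rw [← hy, eq_zero_of_subsingleton (h₃ k (by omega)) y, map_zero]

/-- Local form: dimension and depth at a maximal ideal. -/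
theorem cm_at_maximal {R : Type v} [CommRing R] [IsNoetherianRing R] (m : Ideal R) [m.IsMaximal] {e : ℕ}
    (hd : ∀ i, i < e → Subsingleton (LocCoh.H m i R)) (hdim : ringKrullDim R ≤ (e : WithBot ℕ∞)) :
    LocCoh.IsCohenMacaulayLocalRing (Localization.AtPrime m) ∧
      ringKrullDim (Localization.AtPrime m) = (e : WithBot ℕ∞) := by
  have h1 : (e : ℕ∞) ≤ LocCoh.depth (Localization.AtPrime m) (Localization.AtPrime m) := by
    have h := (LocH.le_idealDepth_iff_forall_prime m R e).1 ((LocH.le_idealDepth_iff m R e).2 hd) ⟨m, inferInstance⟩ le_rfl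
    unfold LocCoh.depth at h ⊢
    rw [LocH.le_idealDepth_iff] at h ⊢
    exact fun i hi => (LocH.subsingleton_iff_of_iso _ i (LocH.localizedSelf m.primeCompl).toModuleIso).1 (h i hi)
  obtain ⟨b, hb⟩ := ENat.ne_top_iff_exists.1 (Ideal.height_ne_top_of_isPrime (I := m))
  have hL : ringKrullDim (Localization.AtPrime m) = (b : WithBot ℕ∞) := by
    rw [IsLocalization.AtPrime.ringKrullDim_eq_height m, ← hb]; rfl
  have hbe : b ≤ e := by
    have := (Ideal.height_le_ringKrullDim_of_ne_top (Ideal.IsPrime.ne_top (I := m) inferInstance)).trans hdim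
    rw [← hb] at this
    exact_mod_cast this
  have hs : Module.supportDim (Localization.AtPrime m) (Localization.AtPrime m) = (b : WithBot ℕ∞) := by
    rw [Module.supportDim_self_eq_ringKrullDim, hL]
  have h2 := InvFin.depth_le_supportDim (Localization.AtPrime m) hs
  have heb : e = b := le_antisymm (Nat.cast_le.1 (h1.trans h2)) hbe
  subst heb
  refine ⟨⟨?_⟩, hL⟩
  rw [hs, le_antisymm h2 h1]
  rfl

include h0 in
theorem graded_glue [IsNoetherianRing A] (I J : Ideal A) (hI : I.IsHomogeneous 𝒜) (hJ : J.IsHomogeneous 𝒜) (e : ℕ)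
    (hIcm : LocCoh.IsCohenMacaulayRing (A ⧸ I)) (hJcm : LocCoh.IsCohenMacaulayRing (A ⧸ J))
    (hIJcm : LocCoh.IsCohenMacaulayRing (A ⧸ (I ⊔ J)))
    (hIdim : ringKrullDim (A ⧸ I) = (e : WithBot ℕ∞)) (hJdim : ringKrullDim (A ⧸ J) = (e : WithBot ℕ∞))
    (hIJdim : ringKrullDim (A ⧸ (I ⊔ J)) = ((e - 1 : ℕ) : WithBot ℕ∞))
    [hm : ((HomogeneousIdeal.irrelevant 𝒜).toIdeal.map (Ideal.Quotient.mk (I ⊓ J))).IsPrime] :
    LocCoh.IsCohenMacaulayLocalRing (Localization.AtPrime
        ((HomogeneousIdeal.irrelevant 𝒜).toIdeal.map (Ideal.Quotient.mk (I ⊓ J)))) ∧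
      ringKrullDim (Localization.AtPrime
        ((HomogeneousIdeal.irrelevant 𝒜).toIdeal.map (Ideal.Quotient.mk (I ⊓ J)))) = (e : WithBot ℕ∞) := by
  have hne : ∀ {L : Ideal A} {n : ℕ}, ringKrullDim (A ⧸ L) = (n : WithBot ℕ∞) → L ≠ ⊤ := fun {L n} h hL => by
    subst hL
    rw [ringKrullDim_eq_bot_of_subsingleton] at h
    exact WithBot.bot_ne_natCast _ h
  haveI : Nontrivial A := nontrivial_of_ne (1 : A) 0 fun h =>
    hne hIdim ((Ideal.eq_top_iff_one _).2 (h ▸ zero_mem _))
  haveI := isMaximal_irrelevant 𝒜 h0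
  have hIJne := hne hIJdim
  have hIA := le_irrelevant 𝒜 h0 (hI.sup hJ) hIJne
  set R := A ⧸ (I ⊓ J)
  set m := (HomogeneousIdeal.irrelevant 𝒜).toIdeal.map (Ideal.Quotient.mk (I ⊓ J))
  haveI : m.IsMaximal := Ideal.IsMaximal.map_of_surjective_of_ker_le Ideal.Quotient.mk_surjective
    (by rw [Ideal.mk_ker]; exact (inf_le_left.trans le_sup_left).trans hIA)
  letI : Algebra R (A ⧸ I) := (Ideal.Quotient.factor (inf_le_left : I ⊓ J ≤ I)).toAlgebra
  letI : Algebra R (A ⧸ J) := (Ideal.Quotient.factor (inf_le_right : I ⊓ J ≤ J)).toAlgebra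
  letI : Algebra R (A ⧸ (I ⊔ J)) := (Ideal.Quotient.factor (inf_le_left.trans le_sup_left : I ⊓ J ≤ I ⊔ J)).toAlgebra
  haveI : Module.Finite R (A ⧸ I) := Module.Finite.of_surjective (Algebra.linearMap R (A ⧸ I))
    (Ideal.Quotient.factor_surjective (inf_le_left : I ⊓ J ≤ I))
  haveI : Module.Finite R (A ⧸ J) := Module.Finite.of_surjective (Algebra.linearMap R (A ⧸ J))
    (Ideal.Quotient.factor_surjective (inf_le_right : I ⊓ J ≤ J))
  haveI : Module.Finite R (A ⧸ (I ⊔ J)) := Module.Finite.of_surjective (Algebra.linearMap R (A ⧸ (I ⊔ J)))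
    (Ideal.Quotient.factor_surjective (inf_le_left.trans le_sup_left : I ⊓ J ≤ I ⊔ J))
  have hvan : ∀ {L : Ideal A} {n : ℕ} (hLe : I ⊓ J ≤ L), L.IsHomogeneous 𝒜 →
      ringKrullDim (A ⧸ L) = (n : WithBot ℕ∞) →
      (n : ℕ∞) ≤ (m.map (Ideal.Quotient.factor hLe)).height ∧ m.map (Ideal.Quotient.factor hLe) ≠ ⊤ := by
    intro L n hLe hL hdim
    have h1 := ringKrullDim_le_height_irrelevant 𝒜 h0 hL (hne hdim)
    rw [hdim] at h1
    rw [Ideal.map_map, Ideal.Quotient.factor_comp_mk]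
    refine ⟨by exact_mod_cast h1, ?_⟩
    exact (Ideal.IsMaximal.map_of_surjective_of_ker_le Ideal.Quotient.mk_surjective
      (by rw [Ideal.mk_ker]; exact le_irrelevant 𝒜 h0 hL (hne hdim))).ne_top
  obtain ⟨a1, b1⟩ := hvan (inf_le_left : I ⊓ J ≤ I) hI hIdim
  obtain ⟨a2, b2⟩ := hvan (inf_le_right : I ⊓ J ≤ J) hJ hJdim
  obtain ⟨a3, b3⟩ := hvan (inf_le_left.trans le_sup_left : I ⊓ J ≤ I ⊔ J) (hI.sup hJ) hIJdim
  let q₁ : (A ⧸ I) →ₗ[R] (A ⧸ (I ⊔ J)) :=
    { Ideal.Quotient.factor (le_sup_left : I ≤ I ⊔ J) with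
      map_smul' := fun r x => by
        obtain ⟨a, rfl⟩ := Ideal.Quotient.mk_surjective r
        obtain ⟨b, rfl⟩ := Ideal.Quotient.mk_surjective x
        rfl }
  let q₂ : (A ⧸ J) →ₗ[R] (A ⧸ (I ⊔ J)) :=
    { Ideal.Quotient.factor (le_sup_right : J ≤ I ⊔ J) with
      map_smul' := fun r x => by
        obtain ⟨a, rfl⟩ := Ideal.Quotient.mk_surjective r
        obtain ⟨b, rfl⟩ := Ideal.Quotient.mk_surjective x
        rfl }
  refine cm_at_maximal m (fun i hi => subsingleton_H_glue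
    ((Algebra.linearMap R (A ⧸ I)).prod (Algebra.linearMap R (A ⧸ J))) (q₁.coprod (-q₂)) ?_ ?_ ?_ m
    (fun j hj => subsingleton_H_quot b1 a1 hj) (fun j hj => subsingleton_H_quot b2 a2 hj)
    (fun j hj => subsingleton_H_quot b3 a3 hj) hi) ?_
  · rw [injective_iff_map_eq_zero]
    intro x hx
    obtain ⟨a, rfl⟩ := Ideal.Quotient.mk_surjective x
    exact Ideal.Quotient.eq_zero_iff_mem.2
      ⟨Ideal.Quotient.eq_zero_iff_mem.1 (congrArg Prod.fst hx), Ideal.Quotient.eq_zero_iff_mem.1 (congrArg Prod.snd hx)⟩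
  · intro z
    obtain ⟨a, rfl⟩ := Ideal.Quotient.mk_surjective z
    refine ⟨(Ideal.Quotient.mk I a, 0), ?_⟩
    show q₁ (Ideal.Quotient.mk I a) + (-q₂) 0 = Ideal.Quotient.mk (I ⊔ J) a
    rw [map_zero, add_zero]
    rfl
  · rintro ⟨x, y⟩
    obtain ⟨a, rfl⟩ := Ideal.Quotient.mk_surjective x
    obtain ⟨b, rfl⟩ := Ideal.Quotient.mk_surjective y
    constructor
    · intro h
      have h' : a - b ∈ I ⊔ J := by
        rw [← Ideal.Quotient.eq]
        exact add_neg_eq_zero.1 h
      obtain ⟨u, hu, w, hw, huw⟩ := Submodule.mem_sup.1 h'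
      refine ⟨Ideal.Quotient.mk _ (a - u), Prod.ext ?_ ?_⟩
      · show Ideal.Quotient.mk I (a - u) = Ideal.Quotient.mk I a
        rw [Ideal.Quotient.eq, sub_sub_cancel_left]; exact neg_mem hu
      · show Ideal.Quotient.mk J (a - u) = Ideal.Quotient.mk J b
        rw [Ideal.Quotient.eq, show a - u - b = w by linear_combination -huw]; exact hw
    · rintro ⟨z, hz⟩
      obtain ⟨c, rfl⟩ := Ideal.Quotient.mk_surjective z
      rw [← hz]
      exact add_neg_cancel (Ideal.Quotient.mk (I ⊔ J) c)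
  · refine ringKrullDim_le_of_cover fun p hp => ?_
    have hIJp : I.map (Ideal.Quotient.mk (I ⊓ J)) ≤ p ∨ J.map (Ideal.Quotient.mk (I ⊓ J)) ≤ p := by
      refine hp.mul_le.1 ?_
      rw [← Ideal.map_mul]
      refine le_trans (Ideal.map_mono Ideal.mul_le_inf) ?_
      rw [Ideal.map_quotient_self]
      exact bot_le
    rcases hIJp with h | h
    · exact ⟨_, h, ((ringKrullDim_eq_of_ringEquiv (DoubleQuot.quotQuotEquivQuotOfLE inf_le_left)).trans hIdim).le⟩
    · exact ⟨_, h, ((ringKrullDim_eq_of_ringEquiv (DoubleQuot.quotQuotEquivQuotOfLE inf_le_right)).trans hJdim).le⟩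

end Groth.Agent.SMT
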