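import Mathlib.Algebra.MvPolynomial.CommRing
import Mathlib.Algebra.MvPolynomial.Equiv
import Mathlib.LinearAlgebra.FreeModule.Basic
import Mathlib.RingTheory.MvPolynomial.Basic
import Mathlib.RingTheory.Ideal.Quotient.Operations
import Mathlib.Algebra.Polynomial.AlgebraMap
import Mathlib.Algebra.Polynomial.Div
import Mathlib.Data.Finsupp.Weight

/-! Flat degeneration attached to a weighted monomial basis. -/

noncomputable section

namespace Groth.Agent.SMT.Degen

open Polynomial MvPolynomial

universe u

variable {K : Type u} [Field K] {σ : Type} {A : Type u} [CommRing A] [Algebra K A] (p : σ → A) (ω : σ → ℕ)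

/-- The monomial in the generators. -/
abbrev pm (e : σ →₀ ℕ) : A := MvPolynomial.aeval (R := K) p (MvPolynomial.monomial e (1 : K))

/-- The defining map of the family. -/
def fam : MvPolynomial σ K[X] →ₐ[K] A[X] :=
  { MvPolynomial.eval₂Hom (Polynomial.mapRingHom (algebraMap K A))
      (fun s => Polynomial.C (p s) * Polynomial.X ^ ω s) with
    commutes' := fun c => by simp [IsScalarTower.algebraMap_apply K K[X] (MvPolynomial σ K[X])] }

theorem fam_C (f : K[X]) : fam p ω (MvPolynomial.C f) = f.map (algebraMap K A) := by simp [fam]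

theorem fam_X (s : σ) :
    fam (K := K) p ω (MvPolynomial.X s) = Polynomial.C (p s) * Polynomial.X ^ ω s := by simp [fam]

theorem fam_monomial (e : σ →₀ ℕ) :
    fam (K := K) p ω (MvPolynomial.monomial e (1 : K[X])) = Polynomial.C (pm (K := K) p e) * Polynomial.X ^ Finsupp.weight ω e := by
  rw [MvPolynomial.monomial_eq, map_one, one_mul, pm, MvPolynomial.monomial_eq, map_one, one_mul,
    Finsupp.weight_apply]
  simp only [Finsupp.prod, Finsupp.sum, map_prod, ← Finset.prod_pow_eq_pow_sum, ← Finset.prod_mul_distrib]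
  refine Finset.prod_congr rfl fun s _ => ?_
  rw [map_pow, fam_X, mul_pow, ← pow_mul, map_pow, map_pow, MvPolynomial.aeval_X, smul_eq_mul, mul_comm (ω s)]

/-- The ideal of relations of the family. -/
def famKer : Ideal (MvPolynomial σ K[X]) := RingHom.ker (fam (K := K) p ω).toRingHom

/-- The family. -/
def Fam : Type u := MvPolynomial σ K[X] ⧸ famKer (K := K) p ω

instance : CommRing (Fam (K := K) p ω) := inferInstanceAs (CommRing (MvPolynomial σ K[X] ⧸ famKer (K := K) p ω))
instance : Algebra K (Fam (K := K) p ω) := inferInstanceAs (Algebra K (MvPolynomial σ K[X] ⧸ famKer (K := K) p ω))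
instance : Algebra K[X] (Fam (K := K) p ω) :=
  inferInstanceAs (Algebra K[X] (MvPolynomial σ K[X] ⧸ famKer (K := K) p ω))
instance : IsScalarTower K K[X] (Fam (K := K) p ω) :=
  inferInstanceAs (IsScalarTower K K[X] (MvPolynomial σ K[X] ⧸ famKer (K := K) p ω))

/-- The projection to the family. -/
def mkR : MvPolynomial σ K[X] →ₐ[K[X]] Fam (K := K) p ω := Ideal.Quotient.mkₐ K[X] (famKer (K := K) p ω)

theorem mkR_surjective : Function.Surjective (mkR (K := K) p ω) := Ideal.Quotient.mk_surjective

/-- The injective map of the family into `A[t]`. -/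
def famBar : Fam (K := K) p ω →ₐ[K] A[X] := Ideal.Quotient.liftₐ _ (fam p ω) fun _ h => h

theorem famBar_injective : Function.Injective (famBar (K := K) p ω) := by
  rw [injective_iff_map_eq_zero]
  intro x hx
  obtain ⟨x, rfl⟩ := mkR_surjective p ω x
  exact Ideal.Quotient.eq_zero_iff_mem.2 hx

theorem famBar_mkR (x : MvPolynomial σ K[X]) : famBar p ω (mkR p ω x) = fam p ω x := rfl

theorem famBar_smul (f : K[X]) (x : Fam (K := K) p ω) :
    famBar p ω (f • x) = f.map (algebraMap K A) * famBar p ω x := by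
  rw [Algebra.smul_def, map_mul]
  congr 1
  exact fam_C p ω f

/-- The basis vectors. -/
def vec (S : Set (σ →₀ ℕ)) (g : S) : Fam (K := K) p ω :=
  mkR p ω (MvPolynomial.monomial g.1 1)

theorem famBar_vec (S : Set (σ →₀ ℕ)) (g : S) :
    famBar p ω (vec (K := K) p ω S g) =
      Polynomial.C (pm (K := K) p g.1) * Polynomial.X ^ Finsupp.weight ω g.1 := fam_monomial p ω g.1

variable {S : Set (σ →₀ ℕ)}

theorem vec_indep (hindep : LinearIndepOn K (pm (K := K) p) S) :
    LinearIndependent K[X] (vec (K := K) p ω S) := by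
  classical
  rw [linearIndependent_iff']
  intro s f hf i hi
  have h := congrArg (famBar p ω) hf
  rw [map_sum, map_zero] at h
  simp only [famBar_smul, famBar_vec] at h
  ext j
  have hk := congrArg (fun q : A[X] => q.coeff (j + Finsupp.weight ω i.1)) h
  simp only [Polynomial.finsetSum_coeff, Polynomial.coeff_zero, ← mul_assoc, Polynomial.coeff_mul_X_pow',
    Polynomial.coeff_mul_C, Polynomial.coeff_map] at hk
  have := linearIndependent_iff'.1 hindep s
    (fun g => if Finsupp.weight ω g.1 ≤ j + Finsupp.weight ω i.1 then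
      (f g).coeff (j + Finsupp.weight ω i.1 - Finsupp.weight ω g.1) else 0) ?_ i hi
  · simpa using this
  · rw [← hk]
    refine Finset.sum_congr rfl fun g _ => ?_
    split_ifs
    · rw [Algebra.smul_def]
    · rw [zero_smul]

/-- An element of `A` placed in degree `N` inside the span of the basis vectors times `t ^ k`. -/
theorem exists_lift (hk : ℕ) {N : ℕ} {T : Set (σ →₀ ℕ)} (hT : ∀ g ∈ T, g ∈ S ∧ Finsupp.weight ω g + hk ≤ N)
    {a : A} (ha : a ∈ Submodule.span K (pm (K := K) p '' T)) :
    ∃ r ∈ Submodule.span K[X] (Set.range (vec (K := K) p ω S)),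
      famBar p ω ((Polynomial.X : K[X]) ^ hk • r) = Polynomial.C a * Polynomial.X ^ N := by
  induction ha using Submodule.span_induction with
  | mem x hx =>
    obtain ⟨g, hg, rfl⟩ := hx
    refine ⟨(Polynomial.X : K[X]) ^ (N - hk - Finsupp.weight ω g) • vec p ω S ⟨g, (hT g hg).1⟩,
      Submodule.smul_mem _ _ (Submodule.subset_span ⟨_, rfl⟩), ?_⟩
    rw [famBar_smul, famBar_smul, famBar_vec, Polynomial.map_pow, Polynomial.map_pow, Polynomial.map_X]
    have := (hT g hg).2
    rw [show (Polynomial.X : A[X]) ^ N = Polynomial.X ^ hk * Polynomial.X ^ (N - hk - Finsupp.weight ω g) *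
      Polynomial.X ^ Finsupp.weight ω g by rw [← pow_add, ← pow_add]; congr 1; omega]
    ring
  | zero => exact ⟨0, zero_mem _, by simp⟩
  | add x y _ _ hx hy =>
    obtain ⟨r, hr, hr'⟩ := hx
    obtain ⟨r', hr1, hr2⟩ := hy
    exact ⟨r + r', add_mem hr hr1, by rw [smul_add, map_add, hr', hr2, map_add, add_mul]⟩
  | smul c x _ hx =>
    obtain ⟨r, hr, hr'⟩ := hx
    refine ⟨Polynomial.C c • r, Submodule.smul_mem _ _ hr, ?_⟩
    rw [smul_comm, famBar_smul, hr', Polynomial.map_C, Algebra.smul_def, map_mul, mul_assoc]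

theorem vec_span (hspan : ∀ e, pm (K := K) p e ∈
      Submodule.span K (pm (K := K) p '' {g | g ∈ S ∧ Finsupp.weight ω g ≤ Finsupp.weight ω e})) :
    ⊤ ≤ Submodule.span K[X] (Set.range (vec (K := K) p ω S)) := by
  intro x _
  obtain ⟨x, rfl⟩ := mkR_surjective p ω x
  induction x using MvPolynomial.induction_on' with
  | add f g hf hg => rw [map_add]; exact add_mem (hf trivial) (hg trivial)
  | monomial e a =>
    rw [show MvPolynomial.monomial e a = a • MvPolynomial.monomial e (1 : K[X]) by
      rw [MvPolynomial.smul_monomial, smul_eq_mul, mul_one]]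
    rw [map_smul]
    refine Submodule.smul_mem _ _ ?_
    obtain ⟨r, hr, hr'⟩ := exists_lift p ω 0 (fun g hg => ⟨hg.1, by simpa using hg.2⟩) (hspan e)
    rw [pow_zero, one_smul] at hr'
    convert hr using 1
    refine famBar_injective p ω (Eq.trans ?_ hr'.symm)
    exact fam_monomial p ω e

variable (hindep : LinearIndepOn K (pm (K := K) p) S)
  (hspan : ∀ e, pm (K := K) p e ∈
      Submodule.span K (pm (K := K) p '' {g | g ∈ S ∧ Finsupp.weight ω g ≤ Finsupp.weight ω e}))

/-- The basis of the family. -/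
def basis : Module.Basis S K[X] (Fam (K := K) p ω) := .mk (vec_indep p ω hindep) (vec_span p ω hspan)

/-- Evaluation of the family at `t = c`. -/
def evalAt (c : K) : Fam (K := K) p ω →ₐ[K] A :=
  ((Polynomial.aeval (algebraMap K A c)).restrictScalars K).comp (famBar p ω)

theorem evalAt_smul (c : K) (f : K[X]) (x : Fam (K := K) p ω) :
    evalAt p ω c (f • x) = f.eval c • evalAt p ω c x := by
  simp only [evalAt, AlgHom.comp_apply, famBar_smul, map_mul, AlgHom.restrictScalars_apply]
  rw [Polynomial.coe_aeval_eq_eval, Polynomial.eval_map, Polynomial.eval₂_at_apply, Algebra.smul_def]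

theorem evalAt_vec (c : K) (g : S) :
    evalAt p ω c (vec p ω S g) = c ^ Finsupp.weight ω g.1 • pm (K := K) p g.1 := by
  simp only [evalAt, AlgHom.comp_apply, famBar_vec, AlgHom.restrictScalars_apply, map_mul, map_pow,
    Polynomial.aeval_C, Polynomial.aeval_X, Algebra.algebraMap_self, RingHom.id_apply, Algebra.smul_def]
  rw [mul_comm]

include hindep hspan in
theorem generic_fibre (hgen : Function.Surjective (MvPolynomial.aeval (R := K) p)) {c : K} (hc : c ≠ 0) :
    Nonempty ((Fam (K := K) p ω ⧸ Ideal.span {algebraMap K[X] (Fam (K := K) p ω) (Polynomial.X - Polynomial.C c)})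
      ≃ₐ[K] A) := by
  have hsurj : Function.Surjective (evalAt (K := K) p ω c) := by
    rw [← AlgHom.range_eq_top, ← top_le_iff, ← (AlgHom.range_eq_top _).2 hgen,
      ← Algebra.adjoin_range_eq_range_aeval, Algebra.adjoin_le_iff]
    rintro _ ⟨s, rfl⟩
    refine ⟨Polynomial.C (c ^ ω s)⁻¹ • mkR p ω (MvPolynomial.X s), ?_⟩
    show evalAt p ω c _ = _
    rw [evalAt_smul, Polynomial.eval_C,
      show evalAt p ω c (mkR p ω (MvPolynomial.X s)) = c ^ ω s • p s by
        simp only [evalAt, AlgHom.comp_apply, famBar_mkR, fam_X, AlgHom.restrictScalars_apply, map_mul, map_pow,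
          Polynomial.aeval_C, Polynomial.aeval_X, Algebra.algebraMap_self, RingHom.id_apply, Algebra.smul_def]
        exact mul_comm _ _,
      smul_smul, inv_mul_cancel₀ (pow_ne_zero _ hc), one_smul]
  refine ⟨(Ideal.quotientEquivAlgOfEq K (?_ : _ = RingHom.ker (evalAt p ω c))).trans
    (Ideal.quotientKerAlgEquivOfSurjective hsurj)⟩
  apply le_antisymm
  · rw [Ideal.span_le, Set.singleton_subset_iff, SetLike.mem_coe, RingHom.mem_ker,
      Algebra.algebraMap_eq_smul_one, evalAt_smul]
    simp
  · intro r hr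
    have hrep := (basis p ω hindep hspan).linearCombination_repr r
    set l := (basis p ω hindep hspan).repr r with hl
    rw [Finsupp.linearCombination_apply, Finsupp.sum] at hrep
    have hv : ∀ g, basis p ω hindep hspan g = vec (K := K) p ω S g := fun g => Module.Basis.mk_apply _ _ g
    simp only [hv] at hrep
    have h0 : ∀ g ∈ l.support, (l g).eval c = 0 := by
      intro g hg
      have h := RingHom.mem_ker.1 hr
      rw [← hrep, map_sum] at h
      simp only [evalAt_smul, evalAt_vec, smul_smul] at h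
      have := linearIndependent_iff'.1 hindep l.support _ h g hg
      exact (mul_eq_zero.1 this).resolve_right (pow_ne_zero _ hc)
    rw [← hrep]
    refine sum_mem fun g hg => ?_
    obtain ⟨f, hf⟩ := Polynomial.dvd_iff_isRoot.2 (h0 g hg)
    rw [hf, mul_smul, Algebra.smul_def]
    exact Ideal.mul_mem_right _ _ (Ideal.subset_span rfl)

/-- The comparison map at `t = 0`. -/
def emb : MvPolynomial σ K →ₐ[K] Fam (K := K) p ω :=
  MvPolynomial.aeval fun s => mkR p ω (MvPolynomial.X s)

theorem emb_monomial (e : σ →₀ ℕ) :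
    emb p ω (MvPolynomial.monomial e (1 : K)) = mkR p ω (MvPolynomial.monomial e 1) := by
  rw [MvPolynomial.monomial_eq, MvPolynomial.monomial_eq, map_one, map_one, one_mul, one_mul]
  simp only [Finsupp.prod, map_prod, map_pow, emb, MvPolynomial.aeval_X]

theorem basis_apply (g : S) : basis p ω hindep hspan g = mkR p ω (MvPolynomial.monomial g.1 1) :=
  Module.Basis.mk_apply (vec_indep p ω hindep) (vec_span p ω hspan) g

theorem repr_emb (q : MvPolynomial σ K) (hq : q ∈ MvPolynomial.restrictSupport K S) (g : S) :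
    (basis p ω hindep hspan).repr (emb p ω q) g = Polynomial.C (q.coeff g.1) := by
  classical
  rw [MvPolynomial.restrictSupport_eq_span] at hq
  induction hq using Submodule.span_induction with
  | mem x hx =>
    obtain ⟨e, he, rfl⟩ := hx
    rw [emb_monomial, ← basis_apply p ω hindep hspan ⟨e, he⟩, Module.Basis.repr_self, Finsupp.single_apply,
      MvPolynomial.coeff_monomial]
    by_cases h : e = g.1
    · rw [if_pos (Subtype.ext h), if_pos h, map_one]
    · rw [if_neg (fun h' => h (congrArg Subtype.val h')), if_neg h, map_zero]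
  | zero => simp
  | add x y _ _ hx hy => rw [map_add, map_add, Finsupp.add_apply, hx, hy, MvPolynomial.coeff_add, map_add]
  | smul c x _ hx =>
    rw [map_smul, ← algebraMap_smul K[X] c (emb p ω x), map_smul, Finsupp.smul_apply, hx, MvPolynomial.coeff_smul]
    simp [Polynomial.algebraMap_eq]

include hindep hspan in
theorem special_fibre {I : Ideal (MvPolynomial σ K)} {G : Set (MvPolynomial σ K)} (hI : I = Ideal.span G)
    (hG : ∀ f ∈ G, ∃ N, (∀ e ∈ f.support, Finsupp.weight ω e = N) ∧
      MvPolynomial.aeval p f ∈ Submodule.span K (pm (K := K) p '' {g | g ∈ S ∧ Finsupp.weight ω g < N}))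
    (hred : ∀ q : MvPolynomial σ K, ∃ q' ∈ MvPolynomial.restrictSupport K S, q - q' ∈ I) :
    Nonempty ((Fam (K := K) p ω ⧸ Ideal.span {algebraMap K[X] (Fam (K := K) p ω) Polynomial.X}) ≃ₐ[K]
      (MvPolynomial σ K ⧸ I)) := by
  classical
  set T := Ideal.span {algebraMap K[X] (Fam (K := K) p ω) Polynomial.X}
  set ρ : MvPolynomial σ K →ₐ[K] Fam (K := K) p ω ⧸ T := (Ideal.Quotient.mkₐ K T).comp (emb p ω)
  have hsurj : Function.Surjective ρ := by
    intro x
    obtain ⟨x, rfl⟩ := Ideal.Quotient.mk_surjective x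
    obtain ⟨x, rfl⟩ := mkR_surjective p ω x
    induction x using MvPolynomial.induction_on with
    | C f =>
      refine ⟨MvPolynomial.C (f.coeff 0), Ideal.Quotient.eq.2 ?_⟩
      change emb p ω (MvPolynomial.C (f.coeff 0)) - mkR p ω (MvPolynomial.C f) ∈ T
      rw [show emb p ω (MvPolynomial.C (f.coeff 0)) = algebraMap K[X] (Fam (K := K) p ω) (Polynomial.C (f.coeff 0)) by
        simp [emb, IsScalarTower.algebraMap_apply K K[X] (Fam (K := K) p ω)],
        show mkR p ω (MvPolynomial.C f) = algebraMap K[X] (Fam (K := K) p ω) f from rfl, ← map_sub]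
      obtain ⟨g, hg⟩ := Polynomial.X_dvd_iff.2 (show (Polynomial.C (f.coeff 0) - f).coeff 0 = 0 by simp)
      rw [hg, map_mul]
      exact Ideal.mul_mem_right _ _ (Ideal.subset_span rfl)
    | add f g hf hg =>
      obtain ⟨a, ha⟩ := hf
      obtain ⟨b, hb⟩ := hg
      exact ⟨a + b, by rw [map_add, ha, hb, map_add, map_add]⟩
    | mul_X f s hf =>
      obtain ⟨a, ha⟩ := hf
      refine ⟨a * MvPolynomial.X s, ?_⟩
      rw [map_mul, ha, map_mul, map_mul]
      congr 1
      simp [ρ, emb]
  have hle : I ≤ RingHom.ker ρ := by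
    rw [hI, Ideal.span_le]
    intro f hf
    obtain ⟨N, hN, hspan'⟩ := hG f hf
    obtain ⟨r, -, hr⟩ := exists_lift p ω 1 (fun g hg => ⟨hg.1, Nat.succ_le_iff.2 hg.2⟩) hspan'
    have hf' : emb p ω f = (Polynomial.X : K[X]) ^ 1 • r := by
      refine famBar_injective p ω (Eq.trans ?_ hr.symm)
      rw [f.as_sum, map_sum, map_sum, map_sum, map_sum, Finset.sum_mul]
      refine Finset.sum_congr rfl fun e he => ?_
      rw [show MvPolynomial.monomial e (f.coeff e) = f.coeff e • MvPolynomial.monomial e (1 : K) by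
        rw [MvPolynomial.smul_monomial, smul_eq_mul, mul_one], map_smul, map_smul, map_smul, emb_monomial,
        show famBar p ω (mkR p ω (MvPolynomial.monomial e 1)) = fam p ω (MvPolynomial.monomial e 1) from rfl,
        fam_monomial, hN e he, ← Polynomial.smul_C, smul_mul_assoc]
    rw [SetLike.mem_coe, RingHom.mem_ker]
    refine Ideal.Quotient.eq_zero_iff_mem.2 ?_
    change emb p ω f ∈ T
    rw [hf', pow_one, Algebra.smul_def]
    exact Ideal.mul_mem_right _ _ (Ideal.subset_span rfl)
  refine ⟨((Ideal.quotientEquivAlgOfEq K (?_ : I = RingHom.ker ρ)).trans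
    (Ideal.quotientKerAlgEquivOfSurjective hsurj)).symm⟩
  refine le_antisymm hle fun q hq => ?_
  obtain ⟨q', hq', hqq⟩ := hred q
  have hq'0 : emb p ω q' ∈ T := by
    have := hle hqq
    rw [RingHom.mem_ker, map_sub, RingHom.mem_ker.1 hq, zero_sub, neg_eq_zero] at this
    exact Ideal.Quotient.eq_zero_iff_mem.1 this
  obtain ⟨r, hr⟩ := Ideal.mem_span_singleton'.1 hq'0
  set b := basis p ω hindep hspan
  suffices q' = 0 by rwa [this, sub_zero] at hqq
  ext e
  rw [MvPolynomial.coeff_zero]
  by_contra he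
  have heS : e ∈ S := hq' (Finset.mem_coe.2 (MvPolynomial.mem_support_iff.2 he))
  have hrep : b.repr (emb p ω q') ⟨e, heS⟩ = Polynomial.C (q'.coeff e) :=
    repr_emb p ω hindep hspan q' hq' ⟨e, heS⟩
  rw [← hr, mul_comm, ← Algebra.smul_def, map_smul, Finsupp.smul_apply, smul_eq_mul] at hrep
  have := congrArg (fun f : K[X] => f.coeff 0) hrep
  simp at this
  exact he this.symm

include hindep hspan in
theorem exists_degeneration {B : Type u} [CommRing B] [Algebra K B] (eA : A ≃ₐ[K] B)
    (hgen : Function.Surjective (MvPolynomial.aeval (R := K) p))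
    {I : Ideal (MvPolynomial σ K)} {G : Set (MvPolynomial σ K)} (hI : I = Ideal.span G)
    (hG : ∀ f ∈ G, ∃ N, (∀ e ∈ f.support, Finsupp.weight ω e = N) ∧
      MvPolynomial.aeval p f ∈ Submodule.span K (pm (K := K) p '' {g | g ∈ S ∧ Finsupp.weight ω g < N}))
    (hred : ∀ q : MvPolynomial σ K, ∃ q' ∈ MvPolynomial.restrictSupport K S, q - q' ∈ I) :
    ∃ (R : Type u) (_ : CommRing R) (_ : Algebra K R) (_ : Algebra (Polynomial K) R)
      (_ : IsScalarTower K (Polynomial K) R),
      Module.Free (Polynomial K) R ∧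
      Nonempty ((R ⧸ Ideal.span {algebraMap (Polynomial K) R Polynomial.X}) ≃ₐ[K] (MvPolynomial σ K ⧸ I)) ∧
      ∀ c : K, c ≠ 0 →
        Nonempty ((R ⧸ Ideal.span {algebraMap (Polynomial K) R (Polynomial.X - Polynomial.C c)}) ≃ₐ[K] B) :=
  ⟨Fam (K := K) p ω, inferInstance, inferInstance, inferInstance, inferInstance,
    Module.Free.of_basis (basis p ω hindep hspan), special_fibre p ω hindep hspan hI hG hred,
    fun _ hc => (generic_fibre p ω hindep hspan hgen hc).map fun e => e.trans eA⟩

end Groth.Agent.SMT.Degen
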