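import Groth.Agent.SMT.Pair
import Groth.Agent.SMT.Degen

/-! Hibi and Stanley–Reisner degenerations of Schubert cones. -/

noncomputable section

namespace Groth.Agent.SMT

open MvPolynomial W4bk4grassmannian

universe u

attribute [-simp] Fin.val_fin_le Fin.val_fin_lt

variable {d n : ℕ} {K : Type u} [Field K] {w : Idx d n}

/-- Standard exponents on `H(w)`. -/
def stdBelow (w : Idx d n) : Set (Below w →₀ ℕ) := {g | IsStd (g.mapDomain Subtype.val)}

/-- The class of a coordinate in the Schubert cone. -/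
def cls (K : Type u) [Field K] (w : Idx d n) (θ : Below w) : PlRing K d n ⧸ schubertVanishing K d n w :=
  Ideal.Quotient.mk (schubertVanishing K d n w) (X θ.1)

theorem aeval_cls (q : MvPolynomial (Below w) K) :
    aeval (cls K w) q = Ideal.Quotient.mkₐ K (schubertVanishing K d n w) (rename Subtype.val q) := by
  rw [← AlgHom.comp_apply]
  congr 1
  refine MvPolynomial.algHom_ext fun θ => ?_
  simp [cls]

theorem pm_cls (g : Below w →₀ ℕ) :
    Degen.pm (K := K) (cls K w) g =
      Ideal.Quotient.mkₐ K (schubertVanishing K d n w) (monomial (g.mapDomain Subtype.val) 1) := by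
  rw [Degen.pm, aeval_cls, rename_monomial]

theorem support_mapDomain_below (g : Below w →₀ ℕ) :
    ∀ θ ∈ (g.mapDomain Subtype.val).support, θ ≤ w := by
  classical
  intro θ hθ
  obtain ⟨a, -, rfl⟩ := Finset.mem_image.1 (Finsupp.mapDomain_support hθ)
  exact a.2

theorem exists_pull {e : Idx d n →₀ ℕ} (he : ∀ θ ∈ e.support, θ ≤ w) :
    ∃ g : Below w →₀ ℕ, g.mapDomain Subtype.val = e :=
  ⟨e.comapDomain Subtype.val Subtype.val_injective.injOn,
    Finsupp.mapDomain_comapDomain _ Subtype.val_injective _ fun θ hθ => ⟨⟨θ, he θ hθ⟩, rfl⟩⟩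

theorem weight_mapDomain (W : Idx d n → ℕ) (g : Below w →₀ ℕ) :
    Finsupp.weight (fun a : Below w => W a.1) g = Finsupp.weight W (g.mapDomain Subtype.val) := by
  induction g using Finsupp.induction_linear with
  | zero => simp
  | add f g hf hg => rw [map_add, Finsupp.mapDomain_add, map_add, hf, hg]
  | single a b => simp [Finsupp.weight_apply, Finsupp.mapDomain_single]

theorem band_zero_self (w : Idx d n) : w ∈ band (fun _ => 0) w := ⟨le_rfl, fun _ => Nat.zero_le _⟩

theorem pm_cls_indep [Infinite K] (hd : 0 < d) : LinearIndepOn K (Degen.pm (K := K) (cls K w)) (stdBelow w) := by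
  classical
  refine linearIndependent_iff'.2 fun s c h g hg => ?_
  set q : PlRing K d n := ∑ i ∈ s, monomial (i.1.mapDomain Subtype.val) (c i) with hq
  have hqJ : q ∈ schubertVanishing K d n w := by
    rw [← Ideal.Quotient.eq_zero_iff_mem, ← h, hq, map_sum]
    refine Finset.sum_congr rfl fun i _ => ?_
    rw [pm_cls, ← map_smul, Ideal.Quotient.mkₐ_eq_mk, smul_monomial, smul_eq_mul, mul_one]
  have hq0 : q = 0 := by
    rw [schubertVanishing_eq hd, ← band_zero] at hqJ
    refine eq_zero_of_std hd monotone_const (band_zero_self w) (sum_mem fun i _ => ?_) hqJ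
    refine (monomial_mem_restrictSupport K).2 (.inl ⟨i.2, fun θ hθ => ?_⟩)
    exact ⟨support_mapDomain_below _ θ hθ, fun _ => Nat.zero_le _⟩
  have hc := congrArg (coeff (g.1.mapDomain Subtype.val)) hq0
  rw [hq, coeff_sum, Finset.sum_eq_single g, coeff_monomial, if_pos rfl, coeff_zero] at hc
  · exact hc
  · intro b _ hb
    rw [coeff_monomial, if_neg fun he => hb (Subtype.ext (Finsupp.mapDomain_injective Subtype.val_injective he))]
  · exact fun h => absurd hg h

theorem push [Infinite K] (hd : 0 < d) {q : PlRing K d n} {T : Set (Idx d n →₀ ℕ)} (hq : q ∈ restrictSupport K T)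
    (hT : ∀ e ∈ T, IsStd e) :
    Ideal.Quotient.mkₐ K (schubertVanishing K d n w) q ∈ Submodule.span K
      (Degen.pm (K := K) (cls K w) '' {g | g ∈ stdBelow w ∧ g.mapDomain Subtype.val ∈ T}) := by
  rw [restrictSupport_eq_span] at hq
  refine (Submodule.span_le (p := (Submodule.span K (Degen.pm (K := K) (cls K w) ''
    {g | g ∈ stdBelow w ∧ g.mapDomain Subtype.val ∈ T})).comap
      (Ideal.Quotient.mkₐ K (schubertVanishing K d n w)).toLinearMap)).2 ?_ hq
  rintro _ ⟨e, he, rfl⟩
  by_cases hD : ∀ θ ∈ e.support, θ ≤ w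
  · obtain ⟨g, rfl⟩ := exists_pull hD
    exact Submodule.subset_span ⟨g, ⟨hT _ he, he⟩, pm_cls g⟩
  · push Not at hD
    obtain ⟨θ, hθ, hθw⟩ := hD
    suffices Ideal.Quotient.mkₐ K (schubertVanishing K d n w) (monomial e 1) = 0 by
      rw [SetLike.mem_coe, Submodule.mem_comap, AlgHom.toLinearMap_apply, this]
      exact zero_mem _
    rw [Ideal.Quotient.mkₐ_eq_mk, Ideal.Quotient.eq_zero_iff_mem, schubertVanishing_eq hd,
      ← tsub_add_cancel_of_le (Finsupp.single_le_iff.2 (Nat.one_le_iff_ne_zero.2 (Finsupp.mem_support_iff.1 hθ))),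
      monomial_add_single, pow_one]
    exact Ideal.mul_mem_left _ _ (mem_idealOn_of_notMem hθw)

theorem cls_surjective [Infinite K] (hd : 0 < d) : Function.Surjective (aeval (R := K) (cls K w)) := by
  intro x
  obtain ⟨p, rfl⟩ := Ideal.Quotient.mk_surjective x
  obtain ⟨q, hq, hpq⟩ := exists_std_sub_mem {θ : Idx d n | θ ≤ w} p
  rw [← schubertVanishing_eq hd] at hpq
  rw [Ideal.Quotient.eq.2 hpq]
  have := push (w := w) hd hq (fun e he => he.1)
  refine (Submodule.span_le (p := LinearMap.range (aeval (R := K) (cls K w)).toLinearMap)).2 ?_ this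
  rintro _ ⟨g, -, rfl⟩
  exact ⟨_, rfl⟩

/-! ### Stanley–Reisner -/

/-- The weight of the Stanley–Reisner degeneration. -/
def srW (θ : Idx d n) : ℕ := (d * n) ^ 2 - rowSum θ ^ 2

theorem srW_add_phi (e : Idx d n →₀ ℕ) : Finsupp.weight srW e + phi e = e.degree * (d * n) ^ 2 := by
  induction e using Finsupp.induction_linear with
  | zero => simp [phi]
  | add f g hf hg => rw [map_add, phi_add, map_add, add_mul, ← hf, ← hg]; ring
  | single a b =>
    have h1 : phi (Finsupp.single a b) = b * rowSum a ^ 2 := by simp [phi]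
    have h2 : Finsupp.weight srW (Finsupp.single a b) = b * srW a := by simp [Finsupp.weight_apply]
    rw [h1, h2, Finsupp.degree_single, ← mul_add, srW,
      Nat.sub_add_cancel (Nat.pow_le_pow_left (rowSum_le a) 2)]

theorem monomial_mem_std_lt {e : Idx d n →₀ ℕ} (he : ¬ IsStd e) :
    monomial e (1 : K) ∈ Submodule.restrictScalars K (plIdealTop K) ⊔
      restrictSupport K {g : Idx d n →₀ ℕ | IsStd g ∧ g.degree = e.degree ∧ phi e < phi g} := by
  refine SetLike.le_def.1 (_root_.sup_le _root_.le_sup_left ?_) (step_monomial (K := K) he)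
  rw [restrictSupport_eq_span, Submodule.span_le]
  rintro _ ⟨g, ⟨hdeg, hphi⟩, rfl⟩
  refine SetLike.le_def.1 (sup_le_sup le_rfl (restrictSupport_mono K fun h hh => ?_)) (monomial_mem_std (K := K) g)
  exact ⟨hh.1, hh.2.1.trans hdeg, hphi.trans_le hh.2.2⟩

theorem mk_plIdealTop [Infinite K] (hd : 0 < d) {y : PlRing K d n} (hy : y ∈ plIdealTop K) :
    Ideal.Quotient.mkₐ K (schubertVanishing K d n w) y = 0 := by
  rw [Ideal.Quotient.mkₐ_eq_mk, Ideal.Quotient.eq_zero_iff_mem, schubertVanishing_eq hd]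
  exact Ideal.mem_sup_left hy

theorem sr_span [Infinite K] (hd : 0 < d) (g : Below w →₀ ℕ) :
    Degen.pm (K := K) (cls K w) g ∈ Submodule.span K (Degen.pm (K := K) (cls K w) '' {h | h ∈ stdBelow w ∧
      Finsupp.weight (fun a : Below w => srW a.1) h ≤ Finsupp.weight (fun a : Below w => srW a.1) g}) := by
  have h := monomial_mem_std (K := K) (g.mapDomain Subtype.val)
  rw [Submodule.mem_sup] at h
  obtain ⟨y, hy, z, hz, hyz⟩ := h
  rw [pm_cls, ← hyz, map_add, mk_plIdealTop hd hy, zero_add]
  refine Submodule.span_mono (Set.image_mono ?_) (push hd hz (fun e he => he.1))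
  rintro h ⟨h1, -, h2, h3⟩
  refine ⟨h1, ?_⟩
  rw [weight_mapDomain, weight_mapDomain]
  have e1 := srW_add_phi (h.mapDomain Subtype.val)
  have e2 := srW_add_phi (g.mapDomain Subtype.val)
  rw [h2] at e1
  omega

theorem mapDomain_pair (a b : Below w) :
    (Finsupp.single a 1 + Finsupp.single b 1 : Below w →₀ ℕ).mapDomain Subtype.val = pairExp a.1 b.1 := by
  rw [Finsupp.mapDomain_add, Finsupp.mapDomain_single, Finsupp.mapDomain_single]

theorem below_X_mul_X (a b : Below w) :
    (X a * X b : MvPolynomial (Below w) K) = monomial (Finsupp.single a 1 + Finsupp.single b 1) 1 := by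
  simp [X, monomial_mul]

theorem sr_gen [Infinite K] (hd : 0 < d) (f : MvPolynomial (Below w) K)
    (hf : f ∈ {f | ∃ a b : Below w, ¬ a ≤ b ∧ ¬ b ≤ a ∧ f = X a * X b}) :
    ∃ N, (∀ e ∈ f.support, Finsupp.weight (fun a : Below w => srW a.1) e = N) ∧
      aeval (cls K w) f ∈ Submodule.span K (Degen.pm (K := K) (cls K w) '' {g | g ∈ stdBelow w ∧
        Finsupp.weight (fun a : Below w => srW a.1) g < N}) := by
  obtain ⟨a, b, hab, hba, rfl⟩ := hf
  rw [below_X_mul_X]
  refine ⟨_, fun e he => congrArg _ (Finset.mem_singleton.1 (support_monomial_subset he)), ?_⟩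
  have hns : ¬ IsStd (pairExp a.1 b.1) := fun hc => by
    rcases hc.total (left_mem_pair a.1 b.1)
      (by rw [pairExp, add_comm]; exact left_mem_pair b.1 a.1) with h | h
    exacts [hab h, hba h]
  have h := monomial_mem_std_lt (K := K) hns
  rw [Submodule.mem_sup] at h
  obtain ⟨y, hy, z, hz, hyz⟩ := h
  show Degen.pm (K := K) (cls K w) _ ∈ _
  rw [pm_cls, mapDomain_pair, ← hyz, map_add (Ideal.Quotient.mkₐ K _), mk_plIdealTop hd hy, zero_add]
  refine Submodule.span_mono (Set.image_mono ?_) (push hd hz (fun e he => he.1))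
  rintro h ⟨h1, -, h2, h3⟩
  refine ⟨h1, ?_⟩
  rw [weight_mapDomain, weight_mapDomain, mapDomain_pair]
  have e1 := srW_add_phi (h.mapDomain Subtype.val)
  have e2 := srW_add_phi (pairExp a.1 b.1)
  rw [h2] at e1
  omega

theorem skew_below {g : Below w →₀ ℕ} (hg : g ∉ stdBelow w) :
    ∃ a b : Below w, ∃ g', g = Finsupp.single a 1 + Finsupp.single b 1 + g' ∧
      rowSum b.1 ≤ rowSum a.1 ∧ ¬ b ≤ a ∧ ¬ a ≤ b := by
  obtain ⟨i, j, e', he, hs, hji, hij⟩ := skew_of_not_isStd hg
  have hle : ∀ θ, θ = i ∨ θ = j ∨ θ ∈ e'.support → θ ≤ w := fun θ hθ => by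
    refine support_mapDomain_below g θ ?_
    rw [he, Finsupp.mem_support_iff, Finsupp.add_apply, Finsupp.add_apply]
    rcases hθ with rfl | rfl | h
    · simp
    · simp
    · have := Finsupp.mem_support_iff.1 h; omega
  obtain ⟨g', hg'⟩ := exists_pull (w := w) (e := e') fun θ hθ => hle θ (.inr (.inr hθ))
  refine ⟨⟨i, hle i (.inl rfl)⟩, ⟨j, hle j (.inr (.inl rfl))⟩, g', ?_, hs, hji, hij⟩
  apply Finsupp.mapDomain_injective Subtype.val_injective
  rw [he, Finsupp.mapDomain_add, mapDomain_pair, hg']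

theorem sr_red (q : MvPolynomial (Below w) K) :
    ∃ q' ∈ restrictSupport K (stdBelow w), q - q' ∈ srIdeal K w := by
  induction q using MvPolynomial.induction_on' with
  | add f g hf hg =>
    obtain ⟨a, ha, ha'⟩ := hf
    obtain ⟨b, hb, hb'⟩ := hg
    exact ⟨a + b, add_mem ha hb, by rw [add_sub_add_comm]; exact add_mem ha' hb'⟩
  | monomial e c =>
    by_cases he : e ∈ stdBelow w
    · exact ⟨monomial e c, (monomial_mem_restrictSupport K).2 (.inl he), by simp⟩
    obtain ⟨a, b, g', rfl, -, h1, h2⟩ := skew_below he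
    refine ⟨0, zero_mem _, ?_⟩
    rw [sub_zero, show monomial (Finsupp.single a 1 + Finsupp.single b 1 + g') c = X a * X b * monomial g' c by
      simp [X, monomial_mul]]
    exact Ideal.mul_mem_right _ _ (Ideal.subset_span ⟨a, b, h2, h1, rfl⟩)

theorem sr_degeneration [Infinite K] (hd : 0 < d) (w : Idx d n) :
    ∃ (R : Type u) (_ : CommRing R) (_ : Algebra K R) (_ : Algebra (Polynomial K) R)
      (_ : IsScalarTower K (Polynomial K) R),
      Module.Free (Polynomial K) R ∧
      Nonempty ((R ⧸ Ideal.span {algebraMap (Polynomial K) R Polynomial.X}) ≃ₐ[K]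
        (MvPolynomial (Below w) K ⧸ srIdeal K w)) ∧
      ∀ c : K, c ≠ 0 →
        Nonempty ((R ⧸ Ideal.span {algebraMap (Polynomial K) R (Polynomial.X - Polynomial.C c)}) ≃ₐ[K]
          (PlRing K d n ⧸ schubertVanishing K d n w)) :=
  Degen.exists_degeneration (cls K w) (fun a : Below w => srW a.1) (pm_cls_indep hd) (sr_span hd) AlgEquiv.refl
    (cls_surjective hd) rfl (sr_gen hd) sr_red

/-! ### Hibi -/

theorem hibi_span [Infinite K] (hd : 0 < d) (g : Below w →₀ ℕ) :
    Degen.pm (K := K) (cls K w) g ∈ Submodule.span K (Degen.pm (K := K) (cls K w) '' {h | h ∈ stdBelow w ∧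
      Finsupp.weight (fun a : Below w => diagW a.1) h ≤ Finsupp.weight (fun a : Below w => diagW a.1) g}) := by
  set e := g.mapDomain Subtype.val with he
  obtain ⟨q, hq, hpq⟩ := exists_std_sub_mem (band (fun _ => 0) w) (monomial e (1 : K))
  have hesub : (↑e.support : Set (Idx d n)) ⊆ band (fun _ => 0) w := fun θ hθ =>
    ⟨support_mapDomain_below g θ hθ, fun _ => Nat.zero_le _⟩
  have hpsi : psi K (fun _ => 0) w q = psi K (fun _ => 0) w (monomial e 1) := by
    rw [← ker_psi hd monotone_const (band_zero_self w)] at hpq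
    exact (sub_eq_zero.1 (by rw [← map_sub]; exact hpq)).symm
  have hW := weight_le_of_monomial hd hq hesub hpsi
  have hT : q ∈ restrictSupport K {h : Idx d n →₀ ℕ | IsStd h ∧ Finsupp.weight diagW h ≤ Finsupp.weight diagW e} :=
    fun h hh => ⟨(hq hh).1, hW h hh⟩
  rw [pm_cls, ← he, show Ideal.Quotient.mkₐ K (schubertVanishing K d n w) (monomial e 1) =
      Ideal.Quotient.mkₐ K (schubertVanishing K d n w) q from Ideal.Quotient.eq.2 (by
        rw [schubertVanishing_eq hd, ← band_zero]; exact hpq)]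
  refine Submodule.span_mono (Set.image_mono ?_) (push hd hT (fun e he => he.1))
  rintro h ⟨h1, -, h2⟩
  refine ⟨h1, ?_⟩
  rw [weight_mapDomain, weight_mapDomain, ← he]
  exact h2

theorem hibi_gen [Infinite K] (hd : 0 < d) (f : MvPolynomial (Below w) K)
    (hf : f ∈ {f | ∃ a b : Below w, f = X a * X b - X (Below.sup a b) * X (Below.inf a b)}) :
    ∃ N, (∀ e ∈ f.support, Finsupp.weight (fun a : Below w => diagW a.1) e = N) ∧
      aeval (cls K w) f ∈ Submodule.span K (Degen.pm (K := K) (cls K w) '' {g | g ∈ stdBelow w ∧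
        Finsupp.weight (fun a : Below w => diagW a.1) g < N}) := by
  classical
  obtain ⟨a, b, rfl⟩ := hf
  refine ⟨diagW a.1 + diagW b.1, fun e he => ?_, ?_⟩
  · rw [below_X_mul_X, below_X_mul_X] at he
    rcases Finset.mem_union.1 (support_sub _ _ _ he) with h | h <;>
      rw [Finset.mem_singleton.1 (support_monomial_subset h), map_add, Finsupp.weight_apply, Finsupp.weight_apply,
        Finsupp.sum_single_index (by simp), Finsupp.sum_single_index (by simp), one_smul, one_smul]
    exact diagW_sup_add_inf a.1 b.1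
  · set P : PlRing K d n := X a.1 * X b.1 - X (sup a.1 b.1) * X (inf a.1 b.1)
    have hP : aeval (cls K w) (X a * X b - X (Below.sup a b) * X (Below.inf a b) : MvPolynomial (Below w) K) =
        Ideal.Quotient.mkₐ K (schubertVanishing K d n w) P := by
      rw [aeval_cls]; simp [P, Below.sup, Below.inf]
    obtain ⟨q, hq, hpq⟩ := exists_std_sub_mem (band (fun _ => 0) w) P
    have hpsi : psi K (fun _ => 0) w q = psi K (fun _ => 0) w P := by
      rw [← ker_psi hd monotone_const (band_zero_self w)] at hpq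
      exact (sub_eq_zero.1 (by rw [← map_sub]; exact hpq)).symm
    have hW := weight_lt_of_pair hd (show a.1 ∈ band (fun _ => 0) w from ⟨a.2, fun _ => Nat.zero_le _⟩)
      (show b.1 ∈ band (fun _ => 0) w from ⟨b.2, fun _ => Nat.zero_le _⟩) hq hpsi
    have hT : q ∈ restrictSupport K {h : Idx d n →₀ ℕ | IsStd h ∧
        Finsupp.weight diagW h < diagW a.1 + diagW b.1} := fun h hh => ⟨(hq hh).1, hW h hh⟩
    rw [hP, show Ideal.Quotient.mkₐ K (schubertVanishing K d n w) P =
        Ideal.Quotient.mkₐ K (schubertVanishing K d n w) q from Ideal.Quotient.eq.2 (by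
          rw [schubertVanishing_eq hd, ← band_zero]; exact hpq)]
    refine Submodule.span_mono (Set.image_mono ?_) (push hd hT (fun e he => he.1))
    rintro h ⟨h1, -, h2⟩
    refine ⟨h1, ?_⟩
    rw [weight_mapDomain]
    exact h2

theorem hibi_red_monomial : ∀ e : Below w →₀ ℕ,
    ∃ q' ∈ restrictSupport K (stdBelow w), monomial e (1 : K) - q' ∈ hibiIdeal K w := by
  intro e
  induction hk : Finsupp.weight (fun a : Below w => srW a.1) e using Nat.strong_induction_on generalizing e with
  | _ k ih =>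
    by_cases he : e ∈ stdBelow w
    · exact ⟨monomial e 1, (monomial_mem_restrictSupport K).2 (.inl he), by simp⟩
    obtain ⟨a, b, g', rfl, hs, h1, h2⟩ := skew_below he
    obtain ⟨q', hq', hmem⟩ := ih _ (by
      subst hk
      have hlt : a.1 < sup a.1 b.1 :=
        lt_of_le_of_ne (le_sup_left a.1 b.1) fun h => h1 (by
          have := le_sup_right a.1 b.1; rw [← h] at this; exact this)
      have hsum := rowSum_sup_add_inf a.1 b.1
      have hsq := sq_add_sq_lt hsum (rowSum_lt hlt) hs
      rw [map_add, map_add, map_add, map_add]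
      refine Nat.add_lt_add_right ?_ _
      simp only [Finsupp.weight_apply, Finsupp.sum_single_index, zero_smul, one_smul]
      show srW (sup a.1 b.1) + srW (inf a.1 b.1) < srW a.1 + srW b.1
      have e1 : ∀ θ : Idx d n, rowSum θ ^ 2 ≤ (d * n) ^ 2 := fun θ => Nat.pow_le_pow_left (rowSum_le θ) 2
      have := e1 (sup a.1 b.1); have := e1 (inf a.1 b.1); have := e1 a.1; have := e1 b.1
      simp only [srW]
      omega) (Finsupp.single (Below.sup a b) 1 + Finsupp.single (Below.inf a b) 1 + g') rfl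
    refine ⟨q', hq', ?_⟩
    rw [show monomial (Finsupp.single a 1 + Finsupp.single b 1 + g') (1 : K) - q' =
        (X a * X b - X (Below.sup a b) * X (Below.inf a b)) * monomial g' 1 +
          (monomial (Finsupp.single (Below.sup a b) 1 + Finsupp.single (Below.inf a b) 1 + g') 1 - q') by
      simp [X, monomial_mul, sub_mul]]
    exact add_mem (Ideal.mul_mem_right _ _ (Ideal.subset_span ⟨a, b, rfl⟩)) hmem

theorem hibi_red (q : MvPolynomial (Below w) K) :
    ∃ q' ∈ restrictSupport K (stdBelow w), q - q' ∈ hibiIdeal K w := by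
  induction q using MvPolynomial.induction_on' with
  | add f g hf hg =>
    obtain ⟨a, ha, ha'⟩ := hf
    obtain ⟨b, hb, hb'⟩ := hg
    exact ⟨a + b, add_mem ha hb, by rw [add_sub_add_comm]; exact add_mem ha' hb'⟩
  | monomial e c =>
    obtain ⟨q', hq', h⟩ := hibi_red_monomial (K := K) e
    refine ⟨c • q', Submodule.smul_mem _ _ hq', ?_⟩
    rw [show monomial e c = c • monomial e (1 : K) by rw [smul_monomial, smul_eq_mul, mul_one], ← smul_sub,
      smul_eq_C_mul]
    exact Ideal.mul_mem_left _ _ h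

theorem hibi_degeneration [Infinite K] (hd : 0 < d) (w : Idx d n) :
    ∃ (R : Type u) (_ : CommRing R) (_ : Algebra K R) (_ : Algebra (Polynomial K) R)
      (_ : IsScalarTower K (Polynomial K) R),
      Module.Free (Polynomial K) R ∧
      Nonempty ((R ⧸ Ideal.span {algebraMap (Polynomial K) R Polynomial.X}) ≃ₐ[K]
        (MvPolynomial (Below w) K ⧸ hibiIdeal K w)) ∧
      ∀ c : K, c ≠ 0 →
        Nonempty ((R ⧸ Ideal.span {algebraMap (Polynomial K) R (Polynomial.X - Polynomial.C c)}) ≃ₐ[K]
          (PlRing K d n ⧸ schubertVanishing K d n w)) :=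
  Degen.exists_degeneration (cls K w) (fun a : Below w => diagW a.1) (pm_cls_indep hd) (hibi_span hd) AlgEquiv.refl
    (cls_surjective hd) rfl (hibi_gen hd) hibi_red

end Groth.Agent.SMT
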