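import Groth.Agent.SMT.Shelling
import Groth.Agent.SMT.DegenApp
import Groth.Agent.SMT.CMFree

/-! Freeness of cones over the polynomial ring in the rank sums. -/

noncomputable section

namespace Groth.Agent.SMT

open MvPolynomial W4bk4grassmannian

universe u

attribute [-simp] Fin.val_fin_le Fin.val_fin_lt

/-- A family unitriangular with respect to a basis. -/
theorem triangular {K : Type u} [Field K] {M : Type u} [AddCommGroup M] [Module K M] {ι : Type*} (v η : ι → M)
    (μ : ι → ℕ) (hv : LinearIndependent K v) (h : ∀ i, η i - v i ∈ Submodule.span K (v '' {j | μ j < μ i})) :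
    LinearIndependent K η ∧ Submodule.span K (Set.range v) ≤ Submodule.span K (Set.range η) := by
  classical
  constructor
  · rw [linearIndependent_iff']
    intro s g hsum
    by_contra hne
    push Not at hne
    obtain ⟨i₀, hi₀, hg₀⟩ := hne
    obtain ⟨i, hi, hmax⟩ := (s.filter fun j => g j ≠ 0).exists_max_image μ ⟨i₀, Finset.mem_filter.2 ⟨hi₀, hg₀⟩⟩
    obtain ⟨hi', hgi⟩ := Finset.mem_filter.1 hi
    have hmem : ∑ j ∈ s, g j • v j ∈ Submodule.span K (v '' {j | μ j < μ i}) := by
      have e : ∑ j ∈ s, g j • v j = -∑ j ∈ s, g j • (η j - v j) := by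
        simp only [smul_sub, Finset.sum_sub_distrib, hsum, zero_sub, neg_neg]
      rw [e]
      refine neg_mem (sum_mem fun j hj => ?_)
      by_cases hgj : g j = 0
      · rw [hgj, zero_smul]; exact zero_mem _
      · refine Submodule.smul_mem _ _ (Submodule.span_mono (Set.image_mono fun x hx => ?_) (h j))
        exact lt_of_lt_of_le (show μ x < μ j from hx) (hmax j (Finset.mem_filter.2 ⟨hj, hgj⟩))
    rw [Finsupp.mem_span_image_iff_linearCombination] at hmem
    obtain ⟨l, hl, hl'⟩ := hmem
    let L : ι →₀ K := Finsupp.onFinset s (fun j => if j ∈ s then g j else 0) (fun j hj => by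
      by_contra hc; exact hj (if_neg hc))
    have hL : Finsupp.linearCombination K v L = ∑ j ∈ s, g j • v j := by
      rw [Finsupp.linearCombination_apply, Finsupp.onFinset_sum]
      · exact Finset.sum_congr rfl fun j hj => by rw [if_pos hj]
      · intro j; exact zero_smul _ _
    have heq : l = L := hv (hl'.trans hL.symm)
    have : i ∉ l.support := fun hc => lt_irrefl (μ i) ((Finsupp.mem_supported K l).1 hl hc)
    rw [heq, Finsupp.mem_support_iff, not_not] at this
    simp only [L, Finsupp.onFinset_apply, if_pos hi'] at this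
    exact hgi this
  · have key : ∀ k, ∀ i, μ i = k → v i ∈ Submodule.span K (Set.range η) := by
      intro k
      induction k using Nat.strong_induction_on with
      | _ k ih =>
        intro i hi
        rw [show v i = η i - (η i - v i) by abel]
        refine sub_mem (Submodule.subset_span ⟨i, rfl⟩) (Submodule.span_le.2 ?_ (h i))
        rintro _ ⟨j, hj, rfl⟩
        exact ih (μ j) (hi ▸ hj) j rfl
    rw [Submodule.span_le]
    rintro _ ⟨i, rfl⟩
    exact key _ i rfl

variable {d n : ℕ} (K : Type u) [Field K] (τ : Idx d n) (U : Set (Idx d n)) (E : ℕ) (D : Set (Idx d n))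

/-- The hypotheses making a set of indices a pure shellable union. -/
structure ShellData : Prop where
  hU : U ⊆ divisors τ
  hEd : codeg τ ≤ E
  hEu : E ≤ codeg τ + 1
  hD : ∀ θ ∈ D, θ ≤ τ ∧ codeg θ < E
  hAdm : ∀ e ∈ stdIn D, Adm τ U e.support
  hChain : ∀ c : MChain τ, Allowed U c → ∀ i < E, c.at' i ∈ D
  hindep : ∀ q ∈ restrictSupport K (stdIn D), q ∈ idealOn K D → q = 0

open Classical in
/-- The rank sums. -/
def lev (k : ℕ) : PlRing K d n := ∑ φ ∈ Finset.univ.filter (fun φ => φ ∈ D ∧ codeg φ = k), X φ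

/-- The shelling exponent of a chain. -/
def baseExp (c : MChain τ) : Idx d n →₀ ℕ :=
  ∑ k ∈ Finset.univ.filter (fun k : Fin E => k.val ∈ desc U c), Finsupp.single (c.at' k.val) 1

/-- The exponent of a chain and a tuple of powers. -/
def gExp (c : MChain τ) (a : Fin E →₀ ℕ) : Idx d n →₀ ℕ :=
  baseExp τ U E c + a.mapDomain fun k => c.at' k.val

/-- The element of the free basis times a monomial in the rank sums. -/
def etaPoly (c : MChain τ) (a : Fin E →₀ ℕ) : PlRing K d n :=
  (∏ k, lev K D k.val ^ a k) * monomial (baseExp τ U E c) 1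

variable {K τ U E D}

theorem ShellData.at_inj (h : ShellData K τ U E D) (c : MChain τ) :
    Function.Injective fun k : Fin E => c.at' k.val := by
  intro a b hab
  have h1 := c.codeg_at a (by have := a.isLt; have := h.hEu; omega)
  have h2 := c.codeg_at b (by have := b.isLt; have := h.hEu; omega)
  exact Fin.ext (by rw [← h1, ← h2]; exact congrArg codeg hab)

theorem ShellData.support_gExp (h : ShellData K τ U E D) (c : MChain τ) (a : Fin E →₀ ℕ) :
    ∀ θ ∈ (gExp τ U E c a).support, codeg θ < E ∧ θ = c.at' (codeg θ) := by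
  classical
  intro θ hθ
  have key : ∃ k : Fin E, θ = c.at' k.val := by
    rcases Finset.mem_union.1 (Finsupp.support_add hθ) with h' | h'
    · obtain ⟨k, -, hk⟩ := Finset.mem_biUnion.1 (Finsupp.support_finsetSum h')
      exact ⟨k, Finset.mem_singleton.1 (Finsupp.support_single_subset hk)⟩
    · obtain ⟨k, -, rfl⟩ := Finset.mem_image.1 (Finsupp.mapDomain_support h')
      exact ⟨k, rfl⟩
  obtain ⟨k, rfl⟩ := key
  have := c.codeg_at k.val (by have := k.isLt; have := h.hEu; omega)
  exact ⟨this.symm ▸ k.isLt, by rw [this]⟩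

theorem ShellData.desc_mem (h : ShellData K τ U E D) (c : MChain τ) {i : ℕ} (hi : i ∈ desc U c) :
    c.at' i ∈ (baseExp τ U E c).support := by
  classical
  have hie : i < codeg τ := Finset.mem_range.1 (Finset.mem_filter.1 hi).1
  rw [Finsupp.mem_support_iff, baseExp, Finsupp.finsetSum_apply]
  refine (Nat.one_le_iff_ne_zero).1 ?_
  refine le_trans (le_of_eq ?_) (Finset.single_le_sum (fun k _ => Nat.zero_le _)
    (Finset.mem_filter.2 ⟨Finset.mem_univ (⟨i, lt_of_lt_of_le hie h.hEd⟩ : Fin E), hi⟩))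
  simp

theorem ShellData.eq_of_desc (h : ShellData K τ U E D) {c c' : MChain τ} {g : Idx d n →₀ ℕ}
    (hg : baseExp τ U E c ≤ g) (hg' : ∀ θ ∈ g.support, θ = c'.at' (codeg θ)) :
    ∀ i ∈ desc U c, c'.at' i = c.at' i := by
  intro i hi
  have h1 := hg' _ (Finsupp.support_mono hg (h.desc_mem c hi))
  have hie : i < codeg τ := Finset.mem_range.1 (Finset.mem_filter.1 hi).1
  rw [c.codeg_at i hie.le] at h1
  exact h1.symm

theorem ShellData.gExp_inj (h : ShellData K τ U E D) {c c' : MChain τ} {a a' : Fin E →₀ ℕ}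
    (he : gExp τ U E c a = gExp τ U E c' a') : c = c' ∧ a = a' := by
  have hc : c = c' := by
    by_contra hne
    have h1 := word_lt_of_desc hne (h.eq_of_desc (g := gExp τ U E c a) (self_le_add_right _ _)
      fun θ hθ => (h.support_gExp c' a' θ (he ▸ hθ)).2)
    have h2 := word_lt_of_desc (Ne.symm hne) (h.eq_of_desc (g := gExp τ U E c' a') (self_le_add_right _ _)
      fun θ hθ => (h.support_gExp c a θ (he.symm ▸ hθ)).2)
    exact lt_asymm h1 h2
  subst hc
  exact ⟨rfl, Finsupp.mapDomain_injective (h.at_inj c) (add_left_cancel he)⟩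

theorem ShellData.exists_gExp (h : ShellData K τ U E D) {g : Idx d n →₀ ℕ} (hg : g ∈ stdIn D) :
    ∃ c : MChain τ, Allowed U c ∧ (∀ θ ∈ g.support, θ = c.at' (codeg θ)) ∧ ∃ a, gExp τ U E c a = g := by
  classical
  obtain ⟨c, hca, hcS, hdesc⟩ := exists_canonical h.hU (h.hAdm g hg)
  refine ⟨c, hca, hcS, ?_⟩
  have hle : baseExp τ U E c ≤ g := by
    intro θ
    rw [baseExp, Finsupp.finsetSum_apply]
    by_cases hθ : ∃ k : Fin E, k.val ∈ desc U c ∧ c.at' k.val = θ
    · obtain ⟨k, hk, rfl⟩ := hθ
      rw [Finset.sum_eq_single k]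
      · rw [Finsupp.single_eq_same]
        exact Nat.one_le_iff_ne_zero.2 (Finsupp.mem_support_iff.1 (hdesc _ hk))
      · intro k' _ hk'
        exact Finsupp.single_eq_of_ne' fun e => hk' (h.at_inj c e)
      · intro hk'; exact absurd (Finset.mem_filter.2 ⟨Finset.mem_univ k, hk⟩ : k ∈ Finset.univ.filter fun k : Fin E => k.val ∈ desc U c) hk'
    · rw [Finset.sum_eq_zero]
      · exact Nat.zero_le _
      · intro k hk
        exact Finsupp.single_eq_of_ne' fun e => hθ ⟨k, (Finset.mem_filter.1 hk).2, e⟩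
  refine ⟨(g - baseExp τ U E c).comapDomain (fun k : Fin E => c.at' k.val) (h.at_inj c).injOn, ?_⟩
  rw [gExp, Finsupp.mapDomain_comapDomain _ (h.at_inj c), add_tsub_cancel_of_le hle]
  intro θ hθ
  have hθ' := Finsupp.support_mono tsub_le_self hθ
  exact ⟨⟨codeg θ, (h.hD θ (hg.2 hθ')).2⟩, (hcS θ hθ').symm⟩

/-- The profile of an exponent. -/
abbrev prof (e : Idx d n →₀ ℕ) : ℕ →₀ ℕ := Finsupp.weight (fun φ : Idx d n => Finsupp.single (codeg φ) 1) e

theorem srW_prof {e e' : Idx d n →₀ ℕ} (h : prof e = prof e') :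
    Finsupp.weight srW e = Finsupp.weight srW e' := by
  have key : ∀ e : Idx d n →₀ ℕ, Finsupp.weight srW e =
      Finsupp.weight (fun k => (d * n) ^ 2 - (k + ∑ t : Fin d, t.val) ^ 2) (prof e) := by
    intro e
    induction e using Finsupp.induction_linear with
    | zero => simp
    | add f g hf hg => simp only [prof, map_add] at hf hg ⊢; rw [hf, hg]
    | single a b => simp [prof, Finsupp.weight_apply, srW, codeg_add]
  rw [key, key, h]

theorem ShellData.support_eta (h : ShellData K τ U E D) (c : MChain τ) (a : Fin E →₀ ℕ) :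
    ∀ g ∈ (etaPoly K τ U E D c a).support, prof g = prof (gExp τ U E c a) ∧ baseExp τ U E c ≤ g := by
  classical
  intro g hg
  rw [mem_support_iff] at hg
  constructor
  · have hlev : ∀ k : Fin E, IsWeightedHomogeneous (fun φ : Idx d n => Finsupp.single (codeg φ) 1)
        (lev K D k.val) (Finsupp.single k.val 1) := fun k => IsWeightedHomogeneous.sum _ _ _ fun φ hφ => by
      have h0 := isWeightedHomogeneous_X K (fun φ : Idx d n => Finsupp.single (codeg φ) 1) φ
      rwa [(Finset.mem_filter.1 hφ).2.2] at h0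
    have hbase : IsWeightedHomogeneous (fun φ : Idx d n => Finsupp.single (codeg φ) 1)
        (monomial (baseExp τ U E c) (1 : K)) (prof (baseExp τ U E c)) := isWeightedHomogeneous_monomial _ _ _ rfl
    have hprod := (IsWeightedHomogeneous.prod Finset.univ (fun k : Fin E => lev K D k.val ^ a k)
      (fun k => a k • Finsupp.single k.val 1) (fun k _ => (hlev k).pow _)).mul hbase
    refine (hprod hg).trans ?_
    simp only [prof, gExp, map_add]
    rw [add_comm]
    congr 1
    have key : ∀ a : Fin E →₀ ℕ, Finsupp.weight (fun φ : Idx d n => Finsupp.single (codeg φ) 1)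
        (a.mapDomain fun k : Fin E => c.at' k.val) = ∑ k : Fin E, a k • Finsupp.single k.val 1 := by
      intro a
      induction a using Finsupp.induction_linear with
      | zero => simp
      | add f g hf hg => rw [Finsupp.mapDomain_add, map_add, hf, hg, ← Finset.sum_add_distrib]; simp [add_smul]
      | single k b =>
        have hk := c.codeg_at k.val (by have := k.isLt; have := h.hEu; omega)
        rw [Finsupp.mapDomain_single, Finset.sum_eq_single k]
        · simp [Finsupp.weight_apply, hk]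
        · intro k' _ hk'; simp [Finsupp.single_eq_of_ne hk']
        · simp
    rw [key]
  · rw [etaPoly, coeff_mul_monomial'] at hg
    by_contra hc
    exact hg (if_neg hc)

open Classical in
/-- Setting the coordinates off a chain to zero. -/
def onChain (K : Type u) [Field K] (c : MChain τ) : PlRing K d n →ₐ[K] PlRing K d n :=
  aeval fun φ => if φ = c.at' (codeg φ) then X φ else 0

theorem coeff_onChain (c : MChain τ) {g : Idx d n →₀ ℕ} (hg : ∀ θ ∈ g.support, θ = c.at' (codeg θ))
    (p : PlRing K d n) : coeff g (onChain K c p) = coeff g p := by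
  classical
  induction p using MvPolynomial.induction_on' with
  | add p q hp hq => rw [map_add, coeff_add, coeff_add, hp, hq]
  | monomial e a =>
    rw [onChain, aeval_monomial, Finsupp.prod]
    by_cases he : ∀ θ ∈ e.support, θ = c.at' (codeg θ)
    · rw [Finset.prod_congr rfl (g := fun θ => (X θ : PlRing K d n) ^ e θ) (fun θ hθ => by rw [if_pos (he θ hθ)]),
        monomial_eq, Finsupp.prod]
      rfl
    · push Not at he
      obtain ⟨θ, hθ, hne⟩ := he
      rw [Finset.prod_eq_zero hθ (by rw [if_neg hne, zero_pow (Finsupp.mem_support_iff.1 hθ)]), mul_zero, coeff_zero,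
        coeff_monomial, if_neg fun e' => hne (hg θ (by rw [← e']; exact hθ))]

theorem ShellData.onChain_eta (h : ShellData K τ U E D) {c : MChain τ} (hc : Allowed U c) (a : Fin E →₀ ℕ) :
    onChain K c (etaPoly K τ U E D c a) = monomial (gExp τ U E c a) 1 := by
  classical
  have hlev : ∀ k : Fin E, onChain K c (lev K D k.val) = X (c.at' k.val) := by
    intro k
    have hk := c.codeg_at k.val (by have := k.isLt; have := h.hEu; omega)
    rw [lev, map_sum, Finset.sum_eq_single (c.at' k.val)]
    · rw [onChain, aeval_X, if_pos (by rw [hk])]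
    · intro φ hφ hne
      rw [onChain, aeval_X, if_neg fun e => hne (by rw [e, (Finset.mem_filter.1 hφ).2.2])]
    · intro hn
      exact absurd (Finset.mem_filter.2 ⟨Finset.mem_univ _, h.hChain c hc _ k.isLt, hk⟩) hn
  have hbase : onChain K c (monomial (baseExp τ U E c) 1) = monomial (baseExp τ U E c) (1 : K) := by
    rw [monomial_eq, map_one, one_mul, Finsupp.prod, map_prod]
    refine Finset.prod_congr rfl fun θ hθ => ?_
    have hθ' : θ = c.at' (codeg θ) := by
      have := h.support_gExp c 0 θ (by rwa [gExp, Finsupp.mapDomain_zero, add_zero])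
      exact this.2
    rw [map_pow, onChain, aeval_X, if_pos hθ']
  rw [etaPoly, map_mul, map_prod, hbase, gExp, add_comm, ← one_mul (1 : K), ← monomial_mul, one_mul]
  congr 1
  simp only [map_pow, hlev]
  rw [monomial_eq, map_one, one_mul, Finsupp.prod_mapDomain_index_inj (h.at_inj c),
    Finsupp.prod_fintype _ _ (fun _ => pow_zero _)]

/-- The index of the basis over the field. -/
abbrev ShIdx (τ : Idx d n) (U : Set (Idx d n)) (E : ℕ) := {c : MChain τ // Allowed U c} × (Fin E →₀ ℕ)

/-- The standard monomial of an index. -/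
def stdVec (K : Type u) [Field K] (τ : Idx d n) (U : Set (Idx d n)) (E : ℕ) (D : Set (Idx d n))
    (i : ShIdx τ U E) : PlRing K d n ⧸ idealOn K D :=
  Ideal.Quotient.mkₐ K (idealOn K D) (monomial (gExp τ U E i.1.1 i.2) 1)

/-- The shelling element of an index. -/
def etaVec (K : Type u) [Field K] (τ : Idx d n) (U : Set (Idx d n)) (E : ℕ) (D : Set (Idx d n))
    (i : ShIdx τ U E) : PlRing K d n ⧸ idealOn K D :=
  Ideal.Quotient.mkₐ K (idealOn K D) (etaPoly K τ U E D i.1.1 i.2)

theorem mk_monomial_eq_zero {g : Idx d n →₀ ℕ} (hg : ¬ ↑g.support ⊆ D) :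
    Ideal.Quotient.mkₐ K (idealOn K D) (monomial g 1) = 0 := by
  obtain ⟨θ, hθ, hθD⟩ := Set.not_subset.1 hg
  rw [Ideal.Quotient.mkₐ_eq_mk, Ideal.Quotient.eq_zero_iff_mem,
    ← tsub_add_cancel_of_le (Finsupp.single_le_iff.2 (Nat.one_le_iff_ne_zero.2 (Finsupp.mem_support_iff.1 hθ))),
    monomial_add_single, pow_one]
  exact Ideal.mul_mem_left _ _ (mem_idealOn_of_notMem hθD)

theorem ShellData.gExp_mem (h : ShellData K τ U E D) (i : ShIdx τ U E) : gExp τ U E i.1.1 i.2 ∈ stdIn D := by
  refine ⟨fun a ha b hb _ => ?_, fun θ hθ => ?_⟩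
  · rw [(h.support_gExp _ _ a ha).2, (h.support_gExp _ _ b hb).2]
    exact le_total (codeg a) (codeg b) |>.imp (fun e => i.1.1.mono e) (fun e => i.1.1.mono e)
  · obtain ⟨h1, h2⟩ := h.support_gExp _ _ θ hθ
    rw [h2]
    exact h.hChain _ i.1.2 _ h1

theorem ShellData.stdVec_indep (h : ShellData K τ U E D) : LinearIndependent K (stdVec K τ U E D) := by
  classical
  rw [linearIndependent_iff']
  intro s g hs i hi
  set q : PlRing K d n := ∑ x ∈ s, g x • monomial (gExp τ U E x.1.1 x.2) (1 : K)
  have hq0 := h.hindep q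
    (sum_mem fun x _ => Submodule.smul_mem _ _ ((monomial_mem_restrictSupport K).2 (.inl (h.gExp_mem x)))) (by
      rw [← Ideal.Quotient.eq_zero_iff_mem, ← Ideal.Quotient.mkₐ_eq_mk K, map_sum, ← hs]
      exact Finset.sum_congr rfl fun x _ => map_smul _ _ _)
  have hc := congrArg (coeff (gExp τ U E i.1.1 i.2)) hq0
  simp only [q, coeff_sum, coeff_smul, coeff_monomial, coeff_zero, smul_eq_mul, mul_ite, mul_one, mul_zero] at hc
  rwa [Finset.sum_eq_single i (fun x _ hx => if_neg fun e => hx (by
    obtain ⟨e1, e2⟩ := h.gExp_inj e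
    exact Prod.ext (Subtype.ext e1) e2)) (fun hn => absurd hi hn), if_pos rfl] at hc

open Classical in
/-- The well-founded measure. -/
def shMeasure (i : ShIdx τ U E) : ℕ :=
  Finsupp.weight srW (gExp τ U E i.1.1 i.2) * (Nat.card (MChain τ) + 1) +
    {c : MChain τ | word U i.1.1 < word U c}.ncard

theorem measure_lt_of_weight {i j : ShIdx τ U E}
    (hw : Finsupp.weight srW (gExp τ U E j.1.1 j.2) < Finsupp.weight srW (gExp τ U E i.1.1 i.2)) :
    shMeasure j < shMeasure i := by
  unfold shMeasure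
  have h1 : {c : MChain τ | word U j.1.1 < word U c}.ncard ≤ Nat.card (MChain τ) := by
    rw [← Set.ncard_univ]
    exact Set.ncard_le_ncard (Set.subset_univ _) (Set.toFinite _)
  have := Nat.mul_le_mul_right (Nat.card (MChain τ) + 1) hw
  rw [Nat.succ_mul] at this
  omega

theorem measure_lt_of_word {i j : ShIdx τ U E}
    (hw : Finsupp.weight srW (gExp τ U E j.1.1 j.2) = Finsupp.weight srW (gExp τ U E i.1.1 i.2))
    (hlt : word U i.1.1 < word U j.1.1) : shMeasure j < shMeasure i := by
  unfold shMeasure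
  rw [hw, Nat.add_lt_add_iff_left]
  refine Set.ncard_lt_ncard ⟨fun c hc => lt_trans hlt hc, fun hsub => ?_⟩ (Set.toFinite _)
  exact lt_irrefl (word U j.1.1) (hsub hlt)

theorem ShellData.eta_sub_mem (h : ShellData K τ U E D) (i : ShIdx τ U E) :
    etaVec K τ U E D i - stdVec K τ U E D i ∈
      Submodule.span K (stdVec K τ U E D '' {j | shMeasure j < shMeasure i}) := by
  classical
  obtain ⟨⟨c, hc⟩, a⟩ := i
  set g₀ := gExp τ U E c a
  set W := Submodule.span K (stdVec K τ U E D '' {j | shMeasure j < shMeasure (τ := τ) (U := U) (E := E) (⟨c, hc⟩, a)})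
  set p := etaPoly K τ U E D c a - monomial g₀ 1
  show Ideal.Quotient.mkₐ K (idealOn K D) (etaPoly K τ U E D c a) - Ideal.Quotient.mkₐ K (idealOn K D) (monomial g₀ 1) ∈ W
  rw [← map_sub, MvPolynomial.as_sum (etaPoly K τ U E D c a - monomial g₀ 1), map_sum]
  refine sum_mem fun g hg => ?_
  rw [← mul_one (coeff g _), ← smul_eq_mul, ← smul_monomial, map_smul]
  refine Submodule.smul_mem _ _ ?_
  rw [mem_support_iff, coeff_sub] at hg
  have hg0 : g ≠ g₀ := by
    rintro rfl
    rw [← coeff_onChain c (fun θ hθ => (h.support_gExp c a θ hθ).2) (etaPoly K τ U E D c a), h.onChain_eta hc a,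
      sub_self] at hg
    exact hg rfl
  rw [coeff_monomial, if_neg (Ne.symm hg0), sub_zero] at hg
  obtain ⟨hprof, hbase⟩ := h.support_eta c a g (mem_support_iff.2 hg)
  have hoff : ¬ ∀ θ ∈ g.support, θ = c.at' (codeg θ) := fun hon => by
    rw [← coeff_onChain c hon, h.onChain_eta hc a, coeff_monomial, if_neg (Ne.symm hg0)] at hg
    exact hg rfl
  by_cases hstd : IsStd g
  · by_cases hgD : ↑g.support ⊆ D
    swap
    · rw [mk_monomial_eq_zero hgD]; exact zero_mem _
    obtain ⟨c', hc', hon, a', rfl⟩ := h.exists_gExp (g := g) ⟨hstd, hgD⟩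
    refine Submodule.subset_span ⟨(⟨c', hc'⟩, a'), measure_lt_of_word (srW_prof hprof) ?_, rfl⟩
    have hne : c ≠ c' := fun e => hoff (by rw [e]; exact hon)
    exact word_lt_of_desc hne (h.eq_of_desc hbase hon)
  · have hmem := monomial_mem_std_lt (K := K) hstd
    rw [Submodule.mem_sup] at hmem
    obtain ⟨y, hy, z, hz, hyz⟩ := hmem
    have hy0 : Ideal.Quotient.mkₐ K (idealOn K D) y = 0 :=
      Ideal.Quotient.eq_zero_iff_mem.2 (Ideal.mem_sup_left hy)
    rw [← hyz, map_add, hy0, zero_add, z.as_sum, map_sum]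
    refine sum_mem fun h' hh' => ?_
    obtain ⟨hs1, hs2, hs3⟩ := hz (Finset.mem_coe.2 hh')
    rw [← mul_one (coeff h' _), ← smul_eq_mul, ← smul_monomial, map_smul]
    refine Submodule.smul_mem _ _ ?_
    by_cases hhD : ↑h'.support ⊆ D
    swap
    · rw [mk_monomial_eq_zero hhD]; exact zero_mem _
    obtain ⟨c', hc', -, a', rfl⟩ := h.exists_gExp (g := h') ⟨hs1, hhD⟩
    refine Submodule.subset_span ⟨(⟨c', hc'⟩, a'), measure_lt_of_weight ?_, rfl⟩
    simp only
    rw [← srW_prof hprof]
    have e1 := srW_add_phi (gExp τ U E c' a')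
    have e2 := srW_add_phi g
    rw [hs2] at e1
    omega

set_option synthInstance.maxHeartbeats 400000 in
theorem ShellData.isCohenMacaulay (h : ShellData K τ U E D) :
    LocCoh.IsCohenMacaulayRing (PlRing K d n ⧸ idealOn K D) := by
  classical
  let P := MvPolynomial (Fin E) K
  let θf : Fin E → PlRing K d n ⧸ idealOn K D := fun k => Ideal.Quotient.mkₐ K (idealOn K D) (lev K D k.val)
  letI : Algebra P (PlRing K d n ⧸ idealOn K D) := (aeval θf).toRingHom.toAlgebra
  obtain ⟨hη, hspan⟩ := triangular (stdVec K τ U E D) (etaVec K τ U E D) shMeasure h.stdVec_indep h.eta_sub_mem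
  let b : {c : MChain τ // Allowed U c} → PlRing K d n ⧸ idealOn K D :=
    fun c => Ideal.Quotient.mkₐ K (idealOn K D) (monomial (baseExp τ U E c.1) 1)
  have hsm : ∀ (p : P) (x : PlRing K d n ⧸ idealOn K D), p • x = aeval θf p * x := fun p x => rfl
  have hmono : ∀ (c : {c : MChain τ // Allowed U c}) (a : Fin E →₀ ℕ) (r : K),
      monomial a r • b c = r • etaVec K τ U E D (c, a) := by
    intro c a r
    rw [hsm, aeval_monomial, Finsupp.prod_fintype _ _ (fun _ => pow_zero _)]
    simp only [etaVec, etaPoly, θf, b]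
    rw [← map_smul, smul_eq_C_mul]
    simp only [map_mul, map_prod, map_pow]
    rw [mul_assoc]
    rfl
  have hli : LinearIndependent P b := by
    rw [linearIndependent_iff']
    intro s f hf c hc
    ext a
    rw [coeff_zero]
    by_contra hne
    let S : Finset (ShIdx τ U E) := s.biUnion fun c => (f c).support.image fun a => (c, a)
    have h0 : ∑ x ∈ S, coeff x.2 (f x.1) • etaVec K τ U E D x = 0 := by
      refine Eq.trans ?_ hf
      rw [Finset.sum_biUnion]
      · refine Finset.sum_congr rfl fun c _ => ?_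
        rw [Finset.sum_image fun a _ a' _ e => (Prod.ext_iff.1 e).2]
        conv_rhs => rw [(f c).as_sum, Finset.sum_smul]
        exact Finset.sum_congr rfl fun a _ => (hmono c a _).symm
      · intro x _ y _ hxy
        rw [Function.onFun, Finset.disjoint_left]
        intro z hz hz'
        obtain ⟨_, -, rfl⟩ := Finset.mem_image.1 hz
        obtain ⟨_, -, e⟩ := Finset.mem_image.1 hz'
        exact hxy (Prod.ext_iff.1 e).1.symm
    exact hne (linearIndependent_iff'.1 hη S _ h0 (c, a)
      (Finset.mem_biUnion.2 ⟨c, hc, Finset.mem_image.2 ⟨a, mem_support_iff.2 hne, rfl⟩⟩))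
  have hsp : ⊤ ≤ Submodule.span P (Set.range b) := by
    intro x _
    obtain ⟨x, rfl⟩ := Ideal.Quotient.mk_surjective x
    obtain ⟨q, hq, hpq⟩ := exists_std_sub_mem D x
    rw [Ideal.Quotient.eq.2 hpq, ← Ideal.Quotient.mkₐ_eq_mk K]
    have h1 : Ideal.Quotient.mkₐ K (idealOn K D) q ∈ Submodule.span K (Set.range (etaVec K τ U E D)) := by
      refine hspan ?_
      rw [q.as_sum, map_sum]
      refine sum_mem fun g hg => ?_
      rw [← mul_one (coeff g _), ← smul_eq_mul, ← smul_monomial, map_smul]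
      refine Submodule.smul_mem _ _ ?_
      obtain ⟨c', hc', -, a', rfl⟩ := h.exists_gExp (g := g) (hq (Finset.mem_coe.2 hg))
      exact Submodule.subset_span ⟨(⟨c', hc'⟩, a'), rfl⟩
    generalize Ideal.Quotient.mkₐ K (idealOn K D) q = z at h1 ⊢
    induction h1 using Submodule.span_induction with
    | mem y hy =>
      obtain ⟨⟨c, a⟩, rfl⟩ := hy
      rw [← one_smul K (etaVec K τ U E D (c, a)), ← hmono]
      exact Submodule.smul_mem _ _ (Submodule.subset_span ⟨c, rfl⟩)
    | zero => exact zero_mem _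
    | add y z _ _ hy hz => exact add_mem hy hz
    | smul r y _ hy =>
      rw [show r • y = (C r : P) • y by rw [hsm, aeval_C]; exact Algebra.smul_def r y]
      exact Submodule.smul_mem _ _ hy
  let B := Module.Basis.mk hli hsp
  haveI : Module.Free P (PlRing K d n ⧸ idealOn K D) := Module.Free.of_basis B
  haveI : Module.Finite P (PlRing K d n ⧸ idealOn K D) := Module.Finite.of_basis B
  exact isCohenMacaulayRing_of_free (K := K) (E := E) _

theorem isCohenMacaulay_le [Infinite K] (hd : 0 < d) (τ : Idx d n) :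
    LocCoh.IsCohenMacaulayRing (PlRing K d n ⧸ idealOn K {φ | φ ≤ τ}) := by
  refine (?_ : ShellData K τ (divisors τ) (codeg τ + 1) {φ | φ ≤ τ}).isCohenMacaulay
  refine
    { hU := le_rfl
      hEd := Nat.le_succ _
      hEu := le_rfl
      hD := fun θ hθ => ⟨hθ, ?_⟩
      hAdm := fun e he => ⟨he.1, fun θ hθ => he.2 hθ, fun hpos => ?_⟩
      hChain := fun c _ i _ => c.le_top i
      hindep := fun q hq hqI => ?_ }
  · rcases eq_or_lt_of_le (show θ ≤ τ from hθ) with h | h
    · rw [h]; exact Nat.lt_succ_self _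
    · exact Nat.lt_succ_of_lt (codeg_lt h)
  · classical
    have hψ : ∃ ψ, ψ < τ := by
      obtain ⟨c, -⟩ := exists_mchain τ ∅ (by simp [IsChain]) (by simp)
      exact ⟨c.at' (codeg τ - 1), lt_of_lt_of_eq (c.lt_succ _ (by omega)) (c.top _ (by omega))⟩
    rcases (e.support.erase τ).eq_empty_or_nonempty with h | h
    · obtain ⟨ψ, hψ⟩ := hψ
      obtain ⟨φ, hφ, -⟩ := exists_divisor hψ
      exact ⟨φ, hφ, fun θ hθ hne => absurd (Finset.mem_erase.2 ⟨hne, hθ⟩) (by rw [h]; simp)⟩
    · obtain ⟨θ, hθ, hmax⟩ := (e.support.erase τ).exists_maximal h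
      obtain ⟨φ, hφ, hθφ⟩ := exists_divisor
        (lt_of_le_of_ne (he.2 (Finset.mem_of_mem_erase hθ)) (Finset.ne_of_mem_erase hθ))
      refine ⟨φ, hφ, fun x hx hne => ?_⟩
      rcases he.1.total hx (Finset.mem_of_mem_erase hθ) with h' | h'
      · exact h'.trans hθφ
      · exact (hmax (Finset.mem_erase.2 ⟨hne, hx⟩) h').trans hθφ
  · rw [le_setOf_eq] at hq hqI
    exact eq_zero_of_std hd monotone_const (band_zero_self τ) hq hqI

theorem isCohenMacaulay_union [Infinite K] (hd : 0 < d) (τ : Idx d n) {s : ℕ} (φ : Fin s → Idx d n)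
    (hφ : ∀ i, φ i ∈ divisors τ) :
    LocCoh.IsCohenMacaulayRing (PlRing K d n ⧸ ⨅ i, schubertVanishing K d n (φ i)) := by
  rcases Nat.eq_zero_or_pos s with rfl | hs
  · haveI : Subsingleton (PlRing K d n ⧸ ⨅ i, schubertVanishing K d n (φ i)) :=
      Ideal.Quotient.subsingleton_iff.2 (iInf_of_empty _)
    haveI : IsNoetherianRing (PlRing K d n ⧸ ⨅ i, schubertVanishing K d n (φ i)) := inferInstance
    exact { isCohenMacaulayLocalRing_localization := fun p hp =>
      absurd (Subsingleton.elim p ⊤) hp.ne_top }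
  haveI : Nonempty (Fin s) := ⟨⟨0, hs⟩⟩
  rw [iInf_schubertVanishing hd φ]
  have hpos : 0 < codeg τ := by have := (hφ ⟨0, hs⟩).2; omega
  refine (?_ : ShellData K τ (Set.range φ) (codeg τ) (⋃ i, {θ | θ ≤ φ i})).isCohenMacaulay
  refine
    { hU := by rintro _ ⟨i, rfl⟩; exact hφ i
      hEd := le_rfl
      hEu := Nat.le_succ _
      hD := fun θ hθ => ?_
      hAdm := fun e he => ⟨he.1, fun θ hθ => ?_, fun _ => ?_⟩
      hChain := fun c hc i hi => ?_
      hindep := fun q hq hqI => ?_ }
  · obtain ⟨i, hi⟩ := Set.mem_iUnion.1 hθ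
    have h1 : θ ≤ φ i := hi
    refine ⟨h1.trans (hφ i).1.le, ?_⟩
    have := (hφ i).2
    rcases eq_or_lt_of_le h1 with h | h
    · rw [h]; omega
    · have := codeg_lt h; omega
  · obtain ⟨i, hi⟩ := Set.mem_iUnion.1 (he.2 hθ)
    exact (show θ ≤ φ i from hi).trans (hφ i).1.le
  · rcases e.support.eq_empty_or_nonempty with h | h
    · exact ⟨φ ⟨0, hs⟩, ⟨_, rfl⟩, by simp [h]⟩
    · obtain ⟨θ, hθ, hmax⟩ := exists_top he.1 h
      obtain ⟨i, hi⟩ := Set.mem_iUnion.1 (he.2 hθ)
      exact ⟨φ i, ⟨i, rfl⟩, fun x hx _ => (hmax x hx).trans hi⟩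
  · obtain ⟨j, hj⟩ := hc hpos
    exact Set.mem_iUnion.2 ⟨j, show c.at' i ≤ φ j by rw [hj]; exact c.mono (by omega)⟩
  · have hb : (⋃ i, {θ : Idx d n | θ ≤ φ i}) = ⋃ i, band (fun _ => 0) (φ i) := by simp only [band_zero]
    rw [hb] at hq hqI
    rw [← iInf_ker_psi hd monotone_const φ (fun i => band_zero_self (φ i))] at hqI
    exact indep_union hd monotone_const φ (fun i => band_zero_self (φ i)) q hq fun i => (Ideal.mem_iInf.1 hqI) i

end Groth.Agent.SMT
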