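import Groth.Agent.SMT.CellIdeal
import Groth.Agent.SMT.ShellFree
import Mathlib.RingTheory.KrullDimension.Polynomial
import Mathlib.RingTheory.Localization.LocalizationLocalization

/-! Determinantal rings. -/

noncomputable section

namespace Groth.Agent.SMT

open MvPolynomial W4bk4grassmannian

universe u

attribute [-simp] Fin.val_fin_le Fin.val_fin_lt

variable {K : Type u} [Field K]

/-- Birational affine domains have the same dimension. -/
theorem ringKrullDim_eq_of_away {A B : Type u} [CommRing A] [IsDomain A] [Algebra K A] [Algebra.FiniteType K A]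
    [CommRing B] [IsDomain B] [Algebra K B] [Algebra.FiniteType K B] (χ : B →ₐ[K] A) (hχ : Function.Injective χ)
    {P : A} {s : B} (hs : χ s = P) (hP : P ≠ 0) (hrange : ∀ a : A, ∃ m : ℕ, P ^ m * a ∈ χ.range) :
    ringKrullDim A = ringKrullDim B := by
  obtain ⟨a, ha, hadim⟩ := DimFormula.exists_trdeg_eq_ringKrullDim K A
  obtain ⟨b, hb, hbdim⟩ := DimFormula.exists_trdeg_eq_ringKrullDim K B
  letI := χ.toRingHom.toAlgebra
  haveI : IsScalarTower K B A := IsScalarTower.of_algebraMap_eq fun a => (χ.commutes a).symm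
  haveI : FaithfulSMul B A := (faithfulSMul_iff_algebraMap_injective B A).2 hχ
  haveI : Algebra.IsAlgebraic B A := ⟨fun a => by
    obtain ⟨m, b, hb⟩ := hrange a
    refine ⟨Polynomial.C (s ^ m) * Polynomial.X - Polynomial.C b, fun h => ?_, ?_⟩
    · have := congrArg (fun q : Polynomial B => q.coeff 1) h
      simp only [Polynomial.coeff_sub, Polynomial.coeff_C_mul_X, if_pos, Polynomial.coeff_C,
        Polynomial.coeff_zero, one_ne_zero, if_false, sub_zero] at this
      exact hP (by rw [← hs, eq_zero_of_pow_eq_zero this, map_zero])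
    · rw [map_sub, map_mul, Polynomial.aeval_C, Polynomial.aeval_C, Polynomial.aeval_X]
      show χ (s ^ m) * a - χ b = 0
      rw [map_pow, hs, show χ b = P ^ m * a from hb, sub_self]⟩
  have h := lift_trdeg_add_eq K B (A := A)
  rw [trdeg_eq_zero (R := B) (A := A), Cardinal.lift_zero, add_zero, ha, hb] at h
  have h' := congrArg Cardinal.toNat h
  simp only [Cardinal.toNat_lift, Cardinal.toNat_natCast] at h'
  rw [hadim, hbdim, h']

variable {d r : ℕ}

/-- The homogeneous coordinate ring of the Schubert variety. -/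
abbrev SchubertRing (K : Type u) [Field K] (w : Idx d (d + r)) : Type u :=
  PlRing K d (d + r) ⧸ idealOn K {φ | φ ≤ w}

section Laurent

variable {S A : Type u} [CommRing S] [CommRing A]

theorem isLocalization_laurent_of [IsDomain A] (φ : S →+* Polynomial A) (hφ : Function.Injective φ) (b : S)
    (hb : φ b = Polynomial.X) (hsurj : ∀ z, ∃ (M : ℕ) (s : S), φ s = Polynomial.X ^ M * z) :
    @IsLocalization _ _ (Submonoid.powers b) (Localization.Away (Polynomial.X : Polynomial A)) _
      ((algebraMap (Polynomial A) _).comp φ).toAlgebra := by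
  letI := ((algebraMap (Polynomial A) (Localization.Away (Polynomial.X : Polynomial A))).comp φ).toAlgebra
  have hmap : ∀ y, algebraMap S (Localization.Away (Polynomial.X : Polynomial A)) y =
      algebraMap (Polynomial A) _ (φ y) := fun _ => rfl
  have hinj : Function.Injective (algebraMap (Polynomial A) (Localization.Away (Polynomial.X : Polynomial A))) :=
    IsLocalization.injective _ (powers_le_nonZeroDivisors_of_noZeroDivisors Polynomial.X_ne_zero)
  refine ⟨⟨?_, ?_, ?_⟩⟩
  · rintro ⟨_, k, rfl⟩
    rw [hmap, map_pow, hb, map_pow]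
    exact (IsLocalization.Away.algebraMap_isUnit _).pow k
  · intro z
    obtain ⟨⟨a, ⟨_, k, rfl⟩⟩, hz⟩ := IsLocalization.surj (Submonoid.powers (Polynomial.X : Polynomial A)) z
    obtain ⟨M, G, hG⟩ := hsurj a
    refine ⟨⟨G, ⟨_, k + M, rfl⟩⟩, ?_⟩
    show z * algebraMap _ _ (b ^ (k + M)) = algebraMap _ _ G
    rw [hmap, hmap, map_pow, hb, hG, pow_add, map_mul, map_mul, ← mul_assoc, hz, mul_comm]
  · intro x y h
    rw [hmap, hmap] at h
    exact ⟨1, by rw [hφ (hinj h)]⟩

theorem isIntegrallyClosed_of_laurent [IsDomain S] [IsDomain A] [IsIntegrallyClosed S] (φ : S →+* Polynomial A)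
    (hφ : Function.Injective φ) (b : S)
    (hb : φ b = Polynomial.X) (hsurj : ∀ z, ∃ (M : ℕ) (s : S), φ s = Polynomial.X ^ M * z) :
    IsIntegrallyClosed A := by
  let T := Localization.Away (Polynomial.X : Polynomial A)
  letI := ((algebraMap (Polynomial A) T).comp φ).toAlgebra
  haveI := isLocalization_laurent_of φ hφ b hb hsurj
  haveI : IsIntegrallyClosed T :=
    isIntegrallyClosed_of_isLocalization T (Submonoid.powers b)
      (powers_le_nonZeroDivisors_of_noZeroDivisors fun h => Polynomial.X_ne_zero (R := A) (by rw [← hb, h, map_zero]))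
  haveI : IsDomain T :=
    IsLocalization.isDomain_of_le_nonZeroDivisors (R := Polynomial A) (M := Submonoid.powers Polynomial.X) T
      (powers_le_nonZeroDivisors_of_noZeroDivisors Polynomial.X_ne_zero)
  let ι : A →+* T := (algebraMap (Polynomial A) T).comp Polynomial.C
  let π : T →+* A :=
    IsLocalization.Away.lift (g := Polynomial.evalRingHom (1 : A)) (Polynomial.X : Polynomial A) (by simp)
  have hπι : ∀ a, π (ι a) = a := fun a => by
    simp only [π, ι, RingHom.comp_apply, IsLocalization.Away.lift_eq, Polynomial.coe_evalRingHom, Polynomial.eval_C]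
  have hιinj : Function.Injective ι := fun a b h => by rw [← hπι a, h, hπι b]
  let F := FractionRing A
  let L := FractionRing T
  let ψ : F →+* L := IsFractionRing.lift (g := (algebraMap T L).comp ι)
    ((IsFractionRing.injective T L).comp hιinj)
  have hψ : ∀ a, ψ (algebraMap A F a) = algebraMap T L (ι a) := fun a => IsFractionRing.lift_algebraMap _ a
  refine (isIntegrallyClosed_iff F).2 fun {y} hy => ?_
  have hy' : IsIntegral T (ψ y) := by
    obtain ⟨f, hf, hfy⟩ := hy
    refine ⟨f.map ι, hf.map ι, ?_⟩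
    rw [Polynomial.eval₂_map, show (algebraMap T L).comp ι = ψ.comp (algebraMap A F) from
      RingHom.ext fun a => (hψ a).symm, ← Polynomial.hom_eval₂, hfy, map_zero]
  obtain ⟨h, hh⟩ := IsIntegrallyClosed.isIntegral_iff.1 hy'
  obtain ⟨a₁, a₂, ha₂, rfl⟩ := IsFractionRing.div_surjective (A := A) y
  have hne : algebraMap A F a₂ ≠ 0 := IsFractionRing.to_map_ne_zero_of_mem_nonZeroDivisors ha₂
  refine ⟨π h, ?_⟩
  rw [eq_div_iff hne, ← map_mul]
  congr 1
  have e : h * ι a₂ = ι a₁ := IsFractionRing.injective T L (by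
    rw [map_mul, hh, ← hψ, ← hψ, ← map_mul, div_mul_cancel₀ _ hne])
  have := congrArg π e
  rwa [map_mul, hπι, hπι] at this

theorem isCohenMacaulay_of_laurent [IsDomain A] [IsNoetherianRing A] [LocCoh.IsCohenMacaulayRing S]
    (φ : S →+* Polynomial A) (hφ : Function.Injective φ) (b : S)
    (hb : φ b = Polynomial.X) (hsurj : ∀ z, ∃ (M : ℕ) (s : S), φ s = Polynomial.X ^ M * z) :
    LocCoh.IsCohenMacaulayRing A := by
  let T := Localization.Away (Polynomial.X : Polynomial A)
  letI := ((algebraMap (Polynomial A) T).comp φ).toAlgebra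
  haveI := isLocalization_laurent_of φ hφ b hb hsurj
  refine { isCohenMacaulayLocalRing_localization := fun p hp => ?_ }
  haveI : Module.Flat (Polynomial A) T :=
    IsLocalization.flat _ (Submonoid.powers (Polynomial.X : Polynomial A))
  haveI : Module.Flat A T := Module.Flat.trans A (Polynomial A) T
  haveI : IsNoetherianRing T :=
    IsLocalization.isNoetherianRing (Submonoid.powers (Polynomial.X : Polynomial A)) _ inferInstance
  let π : T →+* A :=
    IsLocalization.Away.lift (g := Polynomial.evalRingHom (1 : A)) (Polynomial.X : Polynomial A) (by simp)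
  let P : Ideal T := p.comap π
  haveI : P.IsPrime := Ideal.comap_isPrime π p
  have hP : P.comap (algebraMap A T) = p := by
    ext a
    show π (algebraMap A T a) ∈ p ↔ a ∈ p
    rw [IsScalarTower.algebraMap_apply A (Polynomial A) T, IsLocalization.Away.lift_eq, Polynomial.coe_evalRingHom,
      Polynomial.algebraMap_eq, Polynomial.eval_C]
  have hL : LocCoh.IsCohenMacaulayLocalRing (Localization.AtPrime P) := by
    haveI : IsLocalization.AtPrime (Localization.AtPrime P) (P.comap (algebraMap S T)) :=
      IsLocalization.isLocalization_isLocalization_atPrime_isLocalization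
        (Submonoid.powers b) (Localization.AtPrime P) P
    exact Groth.Agent.CMChart.isCohenMacaulayLocalRing_of_ringEquiv
      (IsLocalization.algEquiv (P.comap (algebraMap S T)).primeCompl
        (Localization.AtPrime (P.comap (algebraMap S T))) (Localization.AtPrime P)).toRingEquiv
      (LocCoh.IsCohenMacaulayRing.isCohenMacaulayLocalRing_localization _)
  obtain ⟨Q, _, hQ⟩ := Groth.Agent.CMFlat.exists_prime_fiber P p hP
  exact ((Groth.Agent.CMFlat.isCohenMacaulay_atPrime_iff P p Q hQ).1 hL).1

end Laurent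

variable {A : Type u} [CommRing A] [Algebra K A]

/-- Homogenization: `X_θ ↦ q_θ T`. -/
def homogMap (π : CellRing K d r →ₐ[K] A) : PlRing K d (d + r) →ₐ[K] Polynomial A :=
  aeval fun θ => Polynomial.C (π (cellMinor K d r θ)) * Polynomial.X

theorem homogMap_of_homogeneous (π : CellRing K d r →ₐ[K] A) {G : PlRing K d (d + r)} {N : ℕ}
    (hG : G.IsHomogeneous N) :
    homogMap π G = Polynomial.C (π (chi K d r G)) * Polynomial.X ^ N := by
  have h1 : homogMap π G = aeval (fun θ => (Polynomial.X : Polynomial A) *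
      Polynomial.C (π (cellMinor K d r θ))) G := by
    rw [homogMap]; congr 2; funext θ; rw [mul_comm]
  rw [h1, aeval_smul_homogeneous hG, mul_comm]
  congr 1
  let g : CellRing K d r →ₐ[K] Polynomial A :=
    (Polynomial.CAlgHom (R := K) (A := A)).comp π
  show _ = g (chi K d r G)
  rw [← AlgHom.comp_apply]
  congr 1
  refine MvPolynomial.algHom_ext fun θ => ?_
  rw [aeval_X, AlgHom.comp_apply, chi_X]
  rfl

theorem homogMap_bot (π : CellRing K d r →ₐ[K] A) : homogMap π (X (bot d r)) = Polynomial.X := by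
  rw [homogMap_of_homogeneous π (isHomogeneous_X K _), chi_bot, map_one, map_one, one_mul, pow_one]

variable {w : Idx d (d + r)} {π : CellRing K d r →ₐ[K] A}

theorem homogMap_idealOn (hker : ∀ c, π c = 0 ↔ c ∈ cellIdeal K {φ | φ ≤ w})
    {p : PlRing K d (d + r)} (hp : p ∈ idealOn K {φ | φ ≤ w}) : homogMap π p = 0 := by
  suffices idealOn K {φ | φ ≤ w} ≤ RingHom.ker (homogMap π).toRingHom from this hp
  refine _root_.sup_le ?_ ?_
  · rw [plIdealTop, Ideal.span_le]
    rintro _ ⟨i, j, s, -, rfl⟩
    rw [SetLike.mem_coe, RingHom.mem_ker]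
    show homogMap π (shuffleRel K i j s) = 0
    have hh : (shuffleRel K i j s).IsHomogeneous 2 := by
      have hc : ∀ a : Fin d → Fin (d + r), (coord K d (d + r) a).IsHomogeneous 1 := by
        intro a
        unfold coord
        split_ifs
        · rw [show ((-1 : PlRing K d (d + r)) ^ invCount d (d + r) a) = C ((-1 : K) ^ invCount d (d + r) a) by simp]
          exact (isHomogeneous_X K _).C_mul _
        · exact isHomogeneous_zero _ _ _
      refine IsHomogeneous.sum _ _ _ fun A _ => ?_
      unfold shuffleTerm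
      split_ifs
      · rw [show ((-1 : PlRing K d (d + r)) ^ shuffleSign s A) = C ((-1 : K) ^ shuffleSign s A) by simp, mul_assoc]
        exact ((hc _).mul (hc _)).C_mul _
      · exact isHomogeneous_zero _ _ _
    rw [homogMap_of_homogeneous π hh, chi, plk_shuffleRel]
    simp
  · rw [Ideal.span_le]
    rintro _ ⟨θ, hθ, rfl⟩
    rw [SetLike.mem_coe, RingHom.mem_ker]
    show homogMap π (X θ) = 0
    rw [homogMap_of_homogeneous π (isHomogeneous_X K θ),
      (hker _).2 (chi_mem_cellIdeal (mem_idealOn_of_notMem hθ))]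
    simp

theorem coeff_homogMap (π : CellRing K d r →ₐ[K] A) (G : PlRing K d (d + r)) (N : ℕ) :
    (homogMap π G).coeff N = π (chi K d r (homogeneousComponent N G)) := by
  conv_lhs => rw [← sum_homogeneousComponent G, map_sum, Polynomial.finsetSum_coeff]
  simp only [homogMap_of_homogeneous π (homogeneousComponent_isHomogeneous _ G), Polynomial.coeff_C_mul_X_pow]
  rw [Finset.sum_ite_eq]
  split_ifs with h
  · rfl
  · rw [Finset.mem_range, not_lt] at h
    rw [homogeneousComponent_eq_zero _ _ (by omega), map_zero, map_zero]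

theorem mem_idealOn_of_homogMap [Infinite K] (hd : 0 < d) (hker : ∀ c, π c = 0 ↔ c ∈ cellIdeal K {φ | φ ≤ w})
    {G : PlRing K d (d + r)} (hG : homogMap π G = 0) : G ∈ idealOn K {φ | φ ≤ w} := by
  rw [← sum_homogeneousComponent G]
  refine sum_mem fun N _ => ?_
  have h1 : π (chi K d r (homogeneousComponent N G)) = 0 := by
    rw [← coeff_homogMap, hG, Polynomial.coeff_zero]
  obtain ⟨m, hm⟩ := pow_mul_mem_idealOn hd (homogeneousComponent_isHomogeneous N G) ((hker _).1 h1)
  exact ((isPrime_idealOn_le (K := K) hd w).mem_or_mem hm).resolve_left fun h =>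
    X_notMem_idealOn hd (botIdx_le _ w) ((isPrime_idealOn_le (K := K) hd w).mem_of_pow_mem _ h)

theorem exists_homog_polynomial (hπ : Function.Surjective π) (z : Polynomial A) :
    ∃ (M : ℕ) (G : PlRing K d (d + r)), homogMap π G = Polynomial.X ^ M * z := by
  induction z using Polynomial.induction_on' with
  | add p q hp hq =>
    obtain ⟨M, G, hG⟩ := hp
    obtain ⟨M', G', hG'⟩ := hq
    refine ⟨M + M', X (bot d r) ^ M' * G + X (bot d r) ^ M * G', ?_⟩
    rw [map_add, map_mul, map_mul, map_pow, map_pow, homogMap_bot, hG, hG', pow_add]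
    ring
  | monomial k a =>
    obtain ⟨c, rfl⟩ := hπ a
    obtain ⟨N0, h0⟩ := exists_homog_lift c
    obtain ⟨G, hG, he⟩ := h0 (N0 + k) (Nat.le_add_right _ _)
    refine ⟨N0, G, ?_⟩
    rw [homogMap_of_homogeneous π hG, he, ← Polynomial.C_mul_X_pow_eq_monomial, pow_add]
    ring

/-- Homogenization on the cone. -/
def homogBar (hker : ∀ c, π c = 0 ↔ c ∈ cellIdeal K {φ | φ ≤ w}) : SchubertRing K w →ₐ[K] Polynomial A :=
  Ideal.Quotient.liftₐ _ (homogMap π) fun _ h => homogMap_idealOn hker h

theorem isPrime_cellIdeal_le [Infinite K] (hd : 0 < d) (w : Idx d (d + r)) :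
    (cellIdeal K {φ : Idx d (d + r) | φ ≤ w}).IsPrime :=
  isPrime_cellIdeal hd (isPrime_idealOn_le hd w) (X_notMem_idealOn hd (botIdx_le _ w))

theorem cell_facts [Infinite K] [IsDomain A] [Algebra.FiniteType K A] (hd : 0 < d) (hπ : Function.Surjective π)
    (hker : ∀ c, π c = 0 ↔ c ∈ cellIdeal K {φ | φ ≤ w}) :
    IsIntegrallyClosed A ∧ LocCoh.IsCohenMacaulayRing A ∧ ringKrullDim A = ((codeg w : ℕ) : WithBot ℕ∞) := by
  haveI := isPrime_idealOn_le (K := K) hd w
  haveI : IsNoetherianRing A := Algebra.FiniteType.isNoetherianRing K A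
  have hinj : Function.Injective (homogBar hker) := by
    rw [injective_iff_map_eq_zero]
    intro x hx
    obtain ⟨G, rfl⟩ := Ideal.Quotient.mk_surjective x
    exact Ideal.Quotient.eq_zero_iff_mem.2 (mem_idealOn_of_homogMap hd hker hx)
  have hsurj : ∀ z, ∃ (M : ℕ) (s : SchubertRing K w), homogBar hker s = Polynomial.X ^ M * z := fun z => by
    obtain ⟨M, G, hG⟩ := exists_homog_polynomial hπ z
    exact ⟨M, Ideal.Quotient.mk _ G, hG⟩
  have hb : homogBar hker (Ideal.Quotient.mk _ (X (bot d r))) = Polynomial.X := homogMap_bot π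
  haveI := isIntegrallyClosed_schubert (K := K) hd w
  haveI := isCohenMacaulay_le (K := K) hd w
  refine ⟨isIntegrallyClosed_of_laurent (homogBar hker).toRingHom hinj _ hb hsurj,
    isCohenMacaulay_of_laurent (homogBar hker).toRingHom hinj _ hb hsurj, ?_⟩
  have h1 := ringKrullDim_eq_of_away (homogBar hker) hinj hb Polynomial.X_ne_zero
    (fun a => by obtain ⟨M, s, hs⟩ := hsurj a; exact ⟨M, s, hs⟩)
  rw [Polynomial.ringKrullDim_of_isNoetherianRing, ringKrullDim_schubert hd w] at h1
  obtain ⟨a, -, ha⟩ := DimFormula.exists_trdeg_eq_ringKrullDim K A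
  rw [ha] at h1 ⊢
  have h3 : ((a + 1 : ℕ) : WithBot ℕ∞) = ((codeg w + 1 : ℕ) : WithBot ℕ∞) := by rw [← h1]; norm_cast
  have h2 : a + 1 = codeg w + 1 := by exact_mod_cast h3
  rw [Nat.add_right_cancel h2]

theorem codeg_rankIdx {c : ℕ} (hcd : c ≤ d) (hcr : c ≤ r) :
    codeg (rankIdx d r c hcd hcr) = c * (d + r - c) := by
  have h : codeg (rankIdx d r c hcd hcr) = ∑ s ∈ Finset.range d, if s < d - c then c else r := by
    rw [codeg, Finset.sum_range]
    refine Finset.sum_congr rfl fun s _ => ?_
    simp only [rankIdx]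
    split_ifs <;> simp only <;> omega
  rw [h, show d = (d - c) + c by omega, Finset.sum_range_add]
  rw [show d - c + c - c = d - c by omega]
  rw [Finset.sum_congr rfl (g := fun _ => c) (fun s hs => if_pos (Finset.mem_range.1 hs)),
    Finset.sum_congr rfl (g := fun _ => r) (fun s _ => if_neg (by omega))]
  simp only [Finset.sum_const, Finset.card_range, smul_eq_mul]
  rw [show d - c + c + r - c = (d - c) + r by omega]
  ring

theorem det_ring [Infinite K] (m n t : ℕ) (hn : 0 < n) (ht : 1 ≤ t) (htm : t ≤ m) (htn : t ≤ n) :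
    IsDomain (MvPolynomial (Fin m × Fin n) K ⧸ CAlgX.minorIdeal (genMatrix K m n) t) ∧
      IsIntegrallyClosed (MvPolynomial (Fin m × Fin n) K ⧸ CAlgX.minorIdeal (genMatrix K m n) t) ∧
      LocCoh.IsCohenMacaulayRing (MvPolynomial (Fin m × Fin n) K ⧸ CAlgX.minorIdeal (genMatrix K m n) t) ∧
      ringKrullDim (MvPolynomial (Fin m × Fin n) K ⧸ CAlgX.minorIdeal (genMatrix K m n) t) =
        (((t - 1) * (m + n - t + 1) : ℕ) : WithBot ℕ∞) := by
  set w := rankIdx n m (t - 1) (by omega) (by omega)
  have hI : CAlgX.minorIdeal (genMatrix K m n) t = cellIdeal K {φ | φ ≤ w} := by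
    rw [← cellIdeal_botCount]
    congr 1
    ext θ
    show botCount θ < t ↔ θ ≤ _
    rw [← botCount_le_iff]
    omega
  rw [hI]
  haveI := isPrime_cellIdeal_le (K := K) hn w
  obtain ⟨h1, h2, h3⟩ := cell_facts (π := Ideal.Quotient.mkₐ K (cellIdeal K {φ | φ ≤ w})) hn
    (Ideal.Quotient.mkₐ_surjective K _) (fun c => Ideal.Quotient.eq_zero_iff_mem)
  refine ⟨inferInstance, h1, h2, ?_⟩
  rw [h3, codeg_rankIdx]
  congr 2
  omega

end Groth.Agent.SMT
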