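import Groth.Agent.DimFormula.Field
import Mathlib.RingTheory.Polynomial.RationalRoot
import Mathlib.RingTheory.Polynomial.UniqueFactorization
import Mathlib.RingTheory.Polynomial.ScaleRoots
import Mathlib.RingTheory.Localization.FractionRing
import Mathlib.RingTheory.IntegralClosure.IntegrallyClosed

/-! A domain which is a polynomial ring after inverting one element with radical ideal. -/

set_option autoImplicit false

namespace Groth.Agent.SMT

open MvPolynomial

universe u v

variable {K : Type u} [Field K] {A : Type u} [CommRing A] [IsDomain A] [Algebra K A] {σ : Type v}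
  (χ : MvPolynomial σ K →ₐ[K] A) (P : A) (s : MvPolynomial σ K)

theorem isIntegrallyClosed_of_away (hχ : Function.Injective χ) (hs : χ s = P) (hP : P ≠ 0)
    (hrad : (Ideal.span {P}).IsRadical) (hrange : ∀ a : A, ∃ m : ℕ, P ^ m * a ∈ χ.range) :
    IsIntegrallyClosed A := by
  classical
  let B := MvPolynomial σ K
  let F := FractionRing A
  refine (isIntegrallyClosed_iff F).2 fun {y} hy => ?_
  obtain ⟨f, hf, hfy⟩ := hy
  have hinj : Function.Injective (algebraMap A F) := IsFractionRing.injective A F
  have hPF : algebraMap A F P ≠ 0 := by rwa [Ne, map_eq_zero_iff _ hinj]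
  -- step 1
  have hstep1 : ∃ (k : ℕ) (a : A), algebraMap A F P ^ k * y = algebraMap A F a := by
    obtain ⟨a, b, hb, rfl⟩ := IsFractionRing.div_surjective (A := A) y
    obtain ⟨m, a', ha'⟩ := hrange a
    obtain ⟨l, b', hb'⟩ := hrange b
    choose M c hc using fun i : ℕ => hrange (f.coeff i)
    set N := (Finset.range f.natDegree).sup M
    letI : Algebra B A := χ.toRingHom.toAlgebra
    letI : Algebra B F := ((algebraMap A F).comp χ.toRingHom).toAlgebra
    have hBF : ∀ x, algebraMap B F x = algebraMap A F (χ x) := fun _ => rfl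
    have hinjB : Function.Injective (algebraMap B F) := hinj.comp hχ
    let E := FractionRing B
    let ι : E →+* F := IsFractionRing.lift hinjB
    have hι : ∀ x, ι (algebraMap B E x) = algebraMap B F x := fun x => IsFractionRing.lift_algebraMap hinjB x
    have hb0 : b ≠ 0 := nonZeroDivisors.ne_zero hb
    have hb'0 : b' ≠ 0 := fun h => by
      rw [h, map_zero] at hb'; exact mul_ne_zero (pow_ne_zero l hP) hb0 hb'.symm
    set z : E := algebraMap B E (s ^ l * s ^ N * a') / algebraMap B E (s ^ m * b')
    have hsE : algebraMap B E (s ^ m * b') ≠ 0 := by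
      rw [Ne, map_eq_zero_iff _ (IsFractionRing.injective B E)]
      exact mul_ne_zero (pow_ne_zero _ fun h => hP (by rw [← hs, h, map_zero])) hb'0
    have hz : ι z = algebraMap A F P ^ N * (algebraMap A F a / algebraMap A F b) := by
      have hbF : algebraMap A F b ≠ 0 := by rwa [Ne, map_eq_zero_iff _ hinj]
      rw [map_div₀, hι, hι, hBF, hBF]
      simp only [map_mul, map_pow, hs, show χ a' = P ^ m * a from ha', show χ b' = P ^ l * b from hb']
      rw [mul_div_assoc' (algebraMap A F P ^ N), div_eq_div_iff (mul_ne_zero (pow_ne_zero _ hPF) (mul_ne_zero (pow_ne_zero _ hPF) hbF)) hbF]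
      ring
    -- integrality of `z`
    set g : Polynomial B := Polynomial.X ^ f.natDegree +
      ∑ i ∈ Finset.range f.natDegree,
        Polynomial.C (s ^ (N * (f.natDegree - i) - M i) * c i) * Polynomial.X ^ i
    have hg : g.Monic := Polynomial.monic_X_pow_add ((Polynomial.degree_sum_le _ _).trans_lt
      ((Finset.sup_lt_iff (WithBot.bot_lt_coe _)).2 fun i hi =>
        (Polynomial.degree_C_mul_X_pow_le _ _).trans_lt (Nat.cast_lt.2 (Finset.mem_range.1 hi))))
    have hint : IsIntegral B z := by
      refine ⟨g, hg, ι.injective ?_⟩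
      rw [map_zero, Polynomial.hom_eval₂, show ι.comp (algebraMap B E) = algebraMap B F from RingHom.ext hι, hz]
      simp only [g, Polynomial.eval₂_add, Polynomial.eval₂_X_pow, Polynomial.eval₂_finsetSum,
        Polynomial.eval₂_mul, Polynomial.eval₂_C]
      set Y := algebraMap A F a / algebraMap A F b
      have h0 : algebraMap A F P ^ (N * f.natDegree) * Polynomial.eval₂ (algebraMap A F) Y f = 0 := by
        rw [hfy, mul_zero]
      rw [Polynomial.eval₂_eq_sum_range, Finset.sum_range_succ, hf.coeff_natDegree, map_one, one_mul,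
        mul_add, Finset.mul_sum, add_comm] at h0
      rw [mul_pow, ← pow_mul]
      refine Eq.trans ?_ h0
      congr 1
      refine Finset.sum_congr rfl fun i hi => ?_
      have hMi : M i ≤ N := Finset.le_sup (f := M) hi
      have hlt : i < f.natDegree := Finset.mem_range.1 hi
      have hN : N ≤ N * (f.natDegree - i) := Nat.le_mul_of_pos_right _ (by omega)
      rw [hBF, map_mul, map_pow, hs, show χ (c i) = P ^ M i * f.coeff i from hc i, ← mul_assoc, ← pow_add,
        Nat.sub_add_cancel (hMi.trans hN), map_mul, map_pow, mul_pow, ← pow_mul,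
        mul_assoc (algebraMap A F P ^ _), mul_left_comm (algebraMap A F (f.coeff i)), ← mul_assoc, ← pow_add,
        ← mul_add, Nat.sub_add_cancel hlt.le]
    obtain ⟨w, hw⟩ := IsIntegrallyClosed.isIntegral_iff.1 hint
    exact ⟨N, χ w, by rw [← hz, ← hw, hι, hBF]⟩
  -- step 2
  obtain ⟨k, a, ha⟩ := hstep1
  induction k generalizing a with
  | zero => exact ⟨a, by rw [← ha, pow_zero, one_mul]⟩
  | succ k ih =>
    set Q := P ^ (k + 1)
    have hmem : a ∈ Ideal.span {P} := by
      refine hrad ⟨f.natDegree, ?_⟩
      set S' := ∑ i ∈ Finset.range f.natDegree, f.coeff i * P ^ ((k + 1) * (f.natDegree - i)) * a ^ i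
      have h1 : S' + a ^ f.natDegree = 0 := by
        refine hinj ?_
        rw [map_add, map_sum, map_zero, map_pow, ← ha]
        have h0 : algebraMap A F P ^ ((k + 1) * f.natDegree) * Polynomial.eval₂ (algebraMap A F) y f = 0 := by
          rw [hfy, mul_zero]
        rw [Polynomial.eval₂_eq_sum_range, Finset.sum_range_succ, hf.coeff_natDegree, map_one, one_mul,
          mul_add, Finset.mul_sum] at h0
        rw [mul_pow, ← pow_mul]
        refine Eq.trans ?_ h0
        congr 1
        refine Finset.sum_congr rfl fun i hi => ?_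
        have hlt : i < f.natDegree := Finset.mem_range.1 hi
        rw [map_mul, map_mul, map_pow, map_pow, ← ha, mul_pow, ← pow_mul, mul_assoc, ← mul_assoc (algebraMap A F P ^ _),
          ← pow_add, ← mul_add, Nat.sub_add_cancel hlt.le, mul_left_comm]
      rw [eq_neg_of_add_eq_zero_right h1]
      refine neg_mem (sum_mem fun i hi => Ideal.mul_mem_right _ _ (Ideal.mul_mem_left _ _
        (Ideal.mem_span_singleton.2 ?_)))
      exact dvd_pow_self P (Nat.mul_ne_zero (by omega) (by have := Finset.mem_range.1 hi; omega))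
    obtain ⟨a', rfl⟩ := Ideal.mem_span_singleton.1 hmem
    refine ih a' (mul_left_cancel₀ hPF ?_)
    rw [← mul_assoc, ← pow_succ', ha, map_mul]

theorem ringKrullDim_of_away [Finite σ] [Algebra.FiniteType K A] (hχ : Function.Injective χ) (hs : χ s = P)
    (hP : P ≠ 0) (hrange : ∀ a : A, ∃ m : ℕ, P ^ m * a ∈ χ.range) :
    ringKrullDim A = Nat.card σ := by
  obtain ⟨d, hd, hdim⟩ := DimFormula.exists_trdeg_eq_ringKrullDim K A
  let B := MvPolynomial σ K
  letI := χ.toRingHom.toAlgebra
  haveI : IsScalarTower K B A := IsScalarTower.of_algebraMap_eq fun a => (χ.commutes a).symm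
  haveI : FaithfulSMul B A := (faithfulSMul_iff_algebraMap_injective B A).2 hχ
  haveI : Algebra.IsAlgebraic B A := ⟨fun a => by
    obtain ⟨m, b, hb⟩ := hrange a
    refine ⟨Polynomial.C (s ^ m) * Polynomial.X - Polynomial.C b, fun h => ?_, ?_⟩
    · have := congrArg (fun q : Polynomial B => q.coeff 1) h
      simp only [Polynomial.coeff_sub, Polynomial.coeff_C_mul_X, if_pos, Polynomial.coeff_C,
        Polynomial.coeff_zero, one_ne_zero, if_false, sub_zero] at this
      exact hP (by rw [← hs, eq_zero_of_pow_eq_zero this, map_zero])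
    · rw [map_sub, map_mul, Polynomial.aeval_C, Polynomial.aeval_C, Polynomial.aeval_X]
      show χ (s ^ m) * a - χ b = 0
      rw [map_pow, hs, show χ b = P ^ m * a from hb, sub_self]⟩
  have h := lift_trdeg_add_eq K B (A := A)
  rw [trdeg_eq_zero (R := B) (A := A), Cardinal.lift_zero, add_zero, MvPolynomial.trdeg_of_isDomain, hd] at h
  rw [hdim]
  congr 1
  have h' := congrArg Cardinal.toNat h
  simp only [Cardinal.toNat_lift, Cardinal.toNat_natCast] at h'
  exact h'.symm.trans rfl

end Groth.Agent.SMT
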