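import Groth.Agent.SMT.Union
import Groth.Agent.SMT.Away
import Mathlib.Data.Finsupp.Basic

/-! The Schubert cone: big cell, normality, dimension. -/

noncomputable section

namespace Groth.Agent.SMT

open MvPolynomial W4bk4grassmannian

universe u

attribute [-simp] Fin.val_fin_le Fin.val_fin_lt

variable {d n : ℕ} {K : Type u} [Field K]

/-- The free coordinates of the big cell of `X(τ)`. -/
def cellVar (τ : Idx d n) : Type := {p : Fin n × Fin d // p.1 < τ.1 p.2 ∧ p.1 ∉ Finset.univ.image τ.1}

instance (τ : Idx d n) : Fintype (cellVar τ) := by unfold cellVar; infer_instance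

theorem card_cellVar (τ : Idx d n) : Fintype.card (cellVar τ) = codeg τ := by
  classical
  rw [show Fintype.card (cellVar τ) = (Finset.univ.filter fun p : Fin n × Fin d =>
    p.1 < τ.1 p.2 ∧ p.1 ∉ Finset.univ.image τ.1).card from Fintype.card_subtype _]
  rw [Finset.card_eq_sum_card_fiberwise (f := fun p : Fin n × Fin d => p.2) (t := Finset.univ) (fun _ _ => Finset.mem_univ _), codeg]
  refine Finset.sum_congr rfl fun t _ => ?_
  have e : ((Finset.univ.filter fun p : Fin n × Fin d => p.1 < τ.1 p.2 ∧ p.1 ∉ Finset.univ.image τ.1).filter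
      fun p => p.2 = t).card = (Finset.Iio (τ.1 t) \ (Finset.Iio t).image τ.1).card := by
    refine Finset.card_bij (fun p _ => p.1) ?_ ?_ ?_
    · intro p hp
      simp only [Finset.mem_filter, Finset.mem_univ, true_and] at hp
      rw [Finset.mem_sdiff, Finset.mem_Iio, ← hp.2]
      exact ⟨hp.1.1, fun h => hp.1.2 (Finset.image_subset_image (Finset.subset_univ _) h)⟩
    · intro p hp q hq h
      exact Prod.ext h ((Finset.mem_filter.1 hp).2.trans (Finset.mem_filter.1 hq).2.symm)
    · intro i hi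
      rw [Finset.mem_sdiff, Finset.mem_Iio] at hi
      refine ⟨(i, t), ?_, rfl⟩
      simp only [Finset.mem_filter, Finset.mem_univ, true_and, and_true]
      refine ⟨hi.1, fun h => ?_⟩
      obtain ⟨s, -, rfl⟩ := Finset.mem_image.1 h
      exact hi.2 (Finset.mem_image_of_mem _ (Finset.mem_Iio.2 (τ.2.lt_iff_lt.1 hi.1)))
  rw [e, Finset.card_sdiff_of_subset (fun i hi => by
    obtain ⟨s, hs, rfl⟩ := Finset.mem_image.1 hi
    exact Finset.mem_Iio.2 (τ.2 (Finset.mem_Iio.1 hs))), Finset.card_image_of_injective _ τ.2.injective,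
    Fin.card_Iio, Fin.card_Iio]

variable (K)

/-- The coordinates `p_τ`, `p_{τ(t → i)}` as polynomials. -/
def cellLift (τ : Idx d n) : MvPolynomial (Option (cellVar τ)) K →ₐ[K] PlRing K d n :=
  aeval fun o => o.elim (X τ) fun v => coord K d n (Function.update τ.1 v.1.2 v.1.1)

/-- The matrix `N` with `ψ (cellLift N) = B ⬝ adj B_τ`. -/
def cellN (τ : Idx d n) : Matrix (Fin n) (Fin d) (MvPolynomial (Option (cellVar τ)) K) :=
  Matrix.of fun i t => if i = τ.1 t then X none
    else if h : i < τ.1 t ∧ i ∉ Finset.univ.image τ.1 then X (some ⟨(i, t), h⟩) else 0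

variable {K}

theorem mul_adjugate_apply {R : Type*} [CommRing R] (B : Matrix (Fin n) (Fin d) R) (a : Fin d → Fin n)
    (i : Fin n) (t : Fin d) :
    (B * (B.submatrix a id).adjugate) i t = (B.submatrix (Function.update a t i) id).det := by
  have e : B.submatrix (Function.update a t i) id = (B.submatrix a id).updateRow t (B i) := by
    ext s u
    by_cases hs : s = t
    · subst hs; simp [Matrix.updateRow_self]
    · rw [Matrix.updateRow_ne hs]; simp [Function.update_of_ne hs]
  have h2 : ((B.submatrix a id).updateRow t (B i)).transpose = (B.submatrix a id).transpose.updateCol t (B i) :=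
    (Matrix.updateCol_transpose ..).symm
  rw [e, ← Matrix.det_transpose ((B.submatrix a id).updateRow t (B i)), h2, ← Matrix.cramer_apply, Matrix.cramer_eq_adjugate_mulVec,
    ← Matrix.adjugate_transpose, Matrix.mul_apply]
  simp only [Matrix.mulVec, dotProduct, Matrix.transpose_apply]
  exact Finset.sum_congr rfl fun u _ => mul_comm _ _

theorem psi_cellN (τ : Idx d n) (i : Fin n) (t : Fin d) :
    psi K (fun _ => 0) τ (cellLift K τ (cellN K τ i t)) =
      (genB K (fun _ => 0) τ * ((genB K (fun _ => 0) τ).submatrix τ.1 id).adjugate) i t := by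
  classical
  rw [mul_adjugate_apply]
  unfold cellN
  simp only [Matrix.of_apply]
  split_ifs with h1 h2
  · subst h1
    rw [cellLift, aeval_X, Option.elim_none, psi, plk_X, Function.update_eq_self]
  · rw [cellLift, aeval_X, Option.elim_some, psi, plk_coord]
  · rw [map_zero, map_zero]
    by_cases h : (Finset.univ.image (Function.update τ.1 t i)).card = d
    · have hni : i ∉ Finset.univ.image τ.1 := by
        intro hi
        obtain ⟨s, -, rfl⟩ := Finset.mem_image.1 hi
        have hst : s ≠ t := fun e => h1 (e ▸ rfl)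
        exact hst (card_image_iff.1 h (by rw [Function.update_of_ne hst, Function.update_self]))
      have hlt : τ.1 t < i := lt_of_le_of_ne (not_lt.1 fun hc => h2 ⟨hc, hni⟩) (Ne.symm h1)
      have h0 := psi_X_eq_zero (K := K) (lo := fun _ => 0) monotone_const (w := τ)
        (θ := sortIdx d n _ h) (by rw [band_zero]; exact (sort_update_gt hlt h).not_ge)
      rw [psi, plk_X] at h0
      rw [det_submatrix_sort _ _ h, h0, mul_zero]
    · rw [det_submatrix_of_repeat _ _ h]

theorem psi_pow_mul_X (τ φ : Idx d n) :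
    psi K (fun _ => 0) τ (X τ ^ (d - 1) * X φ) =
      psi K (fun _ => 0) τ (cellLift K τ ((cellN K τ).submatrix φ.1 id).det) := by
  rw [AlgHom.map_det, AlgHom.map_det]
  set B := genB K (fun _ => 0) τ
  have : (psi K (fun _ => 0) τ).mapMatrix ((cellLift K τ).mapMatrix ((cellN K τ).submatrix φ.1 id)) =
      B.submatrix φ.1 id * (B.submatrix τ.1 id).adjugate := by
    ext s t
    simp only [AlgHom.mapMatrix_apply, Matrix.map_apply, Matrix.submatrix_apply, id, psi_cellN]
    rw [Matrix.mul_apply, Matrix.mul_apply]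
    rfl
  rw [this, Matrix.det_mul, Matrix.det_adjugate, Fintype.card_fin, map_mul, map_pow, psi, plk_X, plk_X, mul_comm]

/-- Specialisation of the band to the big cell. -/
def cellSpec (τ : Idx d n) : MatRing K d n →ₐ[K] MvPolynomial (Option (cellVar τ)) K :=
  aeval fun p => (if p.2.val = 0 then X none else 1) *
    (if p.1 = τ.1 p.2 then 1
      else if h : p.1 < τ.1 p.2 ∧ p.1 ∉ Finset.univ.image τ.1 then X (some ⟨p, h⟩) else 0)

theorem cellSpec_det (hd : 0 < d) (τ : Idx d n) (a : Fin d → Fin n)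
    (B₀ : Matrix (Fin n) (Fin d) (MvPolynomial (Option (cellVar τ)) K))
    (hB : B₀ = Matrix.of fun i t => if i = τ.1 t then 1
      else if h : i < τ.1 t ∧ i ∉ Finset.univ.image τ.1 then X (some ⟨(i, t), h⟩) else 0) :
    cellSpec τ ((genB K (fun _ => 0) τ).submatrix a id).det = (B₀.submatrix a id).det * X none := by
  classical
  rw [AlgHom.map_det]
  have : (cellSpec τ).mapMatrix ((genB K (fun _ => 0) τ).submatrix a id) =
      B₀.submatrix a id * Matrix.diagonal (fun u : Fin d => if u.val = 0 then X none else 1) := by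
    ext s u : 1
    rw [Matrix.mul_diagonal, hB]
    simp only [AlgHom.mapMatrix_apply, Matrix.map_apply, Matrix.submatrix_apply, id, genB, Matrix.of_apply,
      Nat.zero_le, true_and]
    by_cases hle : a s ≤ τ.1 u
    · rw [if_pos hle, cellSpec, aeval_X]
      exact mul_comm _ _
    · rw [if_neg hle, map_zero, if_neg (fun e => hle e.le), dif_neg (fun h => hle h.1.le), zero_mul]
  rw [this, Matrix.det_mul, Matrix.det_diagonal, Finset.prod_eq_single ⟨0, hd⟩
      (fun b _ hb => if_neg fun h => hb (Fin.ext h)) (fun h => absurd (Finset.mem_univ _) h), if_pos rfl]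

theorem cellLift_injective (hd : 0 < d) (τ : Idx d n) :
    Function.Injective ((psi K (fun _ => 0) τ).comp (cellLift K τ)) := by
  classical
  set ρ : MvPolynomial (Option (cellVar τ)) K →ₐ[K] MvPolynomial (Option (cellVar τ)) K :=
    aeval fun o => o.elim (X none) fun v => X (some v) * X none
  have hρ : (cellSpec τ).comp ((psi K (fun _ => 0) τ).comp (cellLift K τ)) = ρ := by
    refine MvPolynomial.algHom_ext fun o => ?_
    set B₀ : Matrix (Fin n) (Fin d) (MvPolynomial (Option (cellVar τ)) K) := Matrix.of fun i t =>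
      if i = τ.1 t then 1 else if h : i < τ.1 t ∧ i ∉ Finset.univ.image τ.1 then X (some ⟨(i, t), h⟩) else 0
    have h1 : B₀.submatrix τ.1 id = 1 := by
      ext s u : 1
      simp only [B₀, Matrix.submatrix_apply, id, Matrix.of_apply]
      by_cases hsu : s = u
      · subst hsu; simp
      · rw [if_neg (fun e => hsu (τ.2.injective e)), dif_neg (fun h => h.2 (Finset.mem_image_of_mem _ (Finset.mem_univ s))),
          Matrix.one_apply_ne hsu]
    rcases o with _ | v
    · simp only [AlgHom.comp_apply, cellLift, aeval_X, Option.elim_none, psi, plk_X, ρ]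
      rw [cellSpec_det hd τ _ B₀ rfl, h1, Matrix.det_one, one_mul]
    · simp only [AlgHom.comp_apply, cellLift, aeval_X, Option.elim_some, psi, plk_coord, ρ]
      rw [cellSpec_det hd τ _ B₀ rfl, det_update_row B₀ τ h1]
      congr 1
      simp only [B₀, Matrix.of_apply]
      rw [if_neg v.2.1.ne, dif_pos v.2]
      rfl
  let F := FractionRing (MvPolynomial (Option (cellVar τ)) K)
  let g : MvPolynomial (Option (cellVar τ)) K →ₐ[K] F := aeval fun o : Option (cellVar τ) =>
    o.elim (algebraMap (MvPolynomial (Option (cellVar τ)) K) F (X none)) fun v =>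
      algebraMap (MvPolynomial (Option (cellVar τ)) K) F (X (some v)) /
        algebraMap (MvPolynomial (Option (cellVar τ)) K) F (X none)
  have hg : g.comp ρ = IsScalarTower.toAlgHom K _ F := by
    refine MvPolynomial.algHom_ext fun o => ?_
    have hne : algebraMap (MvPolynomial (Option (cellVar τ)) K) F (X none) ≠ 0 := by
      rw [Ne, map_eq_zero_iff _ (IsFractionRing.injective _ F)]; exact X_ne_zero _
    rcases o with _ | v <;> simp [g, ρ, hne, div_mul_cancel₀]
  refine Function.Injective.of_comp (f := g.comp (cellSpec τ)) ?_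
  rw [← AlgHom.coe_comp, AlgHom.comp_assoc, hρ, hg]
  exact IsFractionRing.injective _ F

theorem le_setOf_eq (τ : Idx d n) : ({φ | φ ≤ τ} : Set (Idx d n)) = band (fun _ => 0) τ := (band_zero τ).symm

theorem X_pow_mul_mem_range (hd : 0 < d) (τ : Idx d n) (p : PlRing K d n) :
    ∃ m, Ideal.Quotient.mk (idealOn K {φ | φ ≤ τ}) (X τ) ^ m * Ideal.Quotient.mk _ p ∈
      ((Ideal.Quotient.mkₐ K (idealOn K {φ | φ ≤ τ})).comp (cellLift K τ)).range := by
  set J := idealOn K {φ : Idx d n | φ ≤ τ}
  set χ := (Ideal.Quotient.mkₐ K J).comp (cellLift K τ)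
  have hX : Ideal.Quotient.mk J (X τ) ∈ χ.range := ⟨X none, by simp [χ, cellLift]⟩
  induction p using MvPolynomial.induction_on with
  | C a => exact ⟨0, C a, by simp [χ, cellLift]; rfl⟩
  | add p q hp hq =>
    obtain ⟨m, hm⟩ := hp
    obtain ⟨m', hm'⟩ := hq
    refine ⟨m + m', ?_⟩
    rw [map_add, mul_add]
    refine add_mem ?_ ?_
    · rw [pow_add, mul_comm (_ ^ m) (_ ^ m'), mul_assoc]; exact mul_mem (pow_mem hX _) hm
    · rw [pow_add, mul_assoc]; exact mul_mem (pow_mem hX _) hm'
  | mul_X p φ hp =>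
    obtain ⟨m, hm⟩ := hp
    refine ⟨m + (d - 1), ?_⟩
    rw [map_mul, pow_add, mul_mul_mul_comm]
    refine mul_mem hm ⟨((cellN K τ).submatrix φ.1 id).det, ?_⟩
    show Ideal.Quotient.mk J (cellLift K τ _) = _
    rw [← map_pow, ← map_mul, Ideal.Quotient.eq]
    show _ ∈ idealOn K {φ | φ ≤ τ}
    rw [le_setOf_eq, ← ker_psi hd monotone_const ⟨le_rfl, fun _ => Nat.zero_le _⟩, RingHom.mem_ker]
    show psi K (fun _ => 0) τ _ = 0
    rw [map_sub, ← psi_pow_mul_X, sub_self]

theorem chi_injective (hd : 0 < d) (τ : Idx d n) :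
    Function.Injective ((Ideal.Quotient.mkₐ K (idealOn K {φ | φ ≤ τ})).comp (cellLift K τ)) := by
  rw [injective_iff_map_eq_zero]
  intro x hx
  refine (injective_iff_map_eq_zero _).1 (cellLift_injective (K := K) hd τ) x ?_
  have : cellLift K τ x ∈ idealOn K {φ : Idx d n | φ ≤ τ} := Ideal.Quotient.eq_zero_iff_mem.1 hx
  rw [le_setOf_eq, ← ker_psi hd monotone_const ⟨le_rfl, fun _ => Nat.zero_le _⟩] at this
  exact this

theorem isPrime_idealOn_le (hd : 0 < d) (τ : Idx d n) : (idealOn K {φ : Idx d n | φ ≤ τ}).IsPrime := by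
  rw [le_setOf_eq]
  exact isPrime_idealOn_band hd monotone_const ⟨le_rfl, fun _ => Nat.zero_le _⟩

theorem mk_X_ne_zero (hd : 0 < d) (τ : Idx d n) :
    Ideal.Quotient.mk (idealOn K {φ : Idx d n | φ ≤ τ}) (X τ) ≠ 0 := by
  intro h
  have hw : τ ∈ band (fun _ => 0) τ := ⟨le_rfl, fun _ => Nat.zero_le _⟩
  rw [Ideal.Quotient.eq_zero_iff_mem, le_setOf_eq, ← ker_psi hd monotone_const hw] at h
  exact psi_X_ne_zero hw h

theorem idealOn_empty_eq (hd : 0 < d) :
    idealOn K (∅ : Set (Idx d n)) = RingHom.ker (constantCoeff : PlRing K d n →+* K) := by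
  refine le_antisymm (_root_.sup_le (fun p hp => ?_) ?_) (fun p hp => Ideal.mem_sup_right ?_)
  · rw [RingHom.mem_ker]
    rcases isEmpty_or_nonempty (Idx d n) with h | ⟨⟨θ⟩⟩
    · have hbot : plIdealTop (d := d) (n := n) K = ⊥ := by
        rw [plIdealTop, Ideal.span_eq_bot]
        rintro _ ⟨i, -, -, -, rfl⟩
        exact h.elim i
      rw [hbot, Ideal.mem_bot] at hp
      rw [hp, map_zero]
    · rw [← constantCoeff_psi hd (fun _ => 0) θ, psi_plIdealTop _ _ hp, map_zero]
  · rw [Ideal.span_le]
    rintro _ ⟨θ, -, rfl⟩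
    exact constantCoeff_X (R := K) _
  · rw [Set.compl_empty, Set.image_univ, p.as_sum]
    refine sum_mem fun e he => ?_
    obtain ⟨θ, hθ⟩ : e.support.Nonempty := by
      by_contra hc
      rw [Finset.not_nonempty_iff_eq_empty, Finsupp.support_eq_empty] at hc
      subst hc
      exact mem_support_iff.1 he (by rw [← constantCoeff_eq]; exact hp)
    rw [show monomial e (p.coeff e) = X θ * monomial (e - Finsupp.single θ 1) (p.coeff e) by
      rw [X, monomial_mul, one_mul, add_tsub_cancel_of_le
        (Finsupp.single_le_iff.2 (Nat.one_le_iff_ne_zero.2 (Finsupp.mem_support_iff.1 hθ)))]]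
    exact Ideal.mul_mem_right _ _ (Ideal.subset_span ⟨θ, rfl⟩)

theorem isRadical_idealOn_lt (hd : 0 < d) (τ : Idx d n) : (idealOn K {θ : Idx d n | θ < τ}).IsRadical := by
  classical
  by_cases h : ∃ φ, φ < τ
  · obtain ⟨φ, hφ⟩ := h
    obtain ⟨ψ, hψ, -⟩ := exists_divisor hφ
    haveI : Nonempty (divisors τ) := ⟨⟨ψ, hψ⟩⟩
    have := iInf_ker_psi (K := K) hd monotone_const (fun φ : divisors τ => φ.1) (fun _ => ⟨le_rfl, fun _ => Nat.zero_le _⟩)
    simp only [band_zero, iUnion_divisors] at this
    rw [← this]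
    exact Ideal.isRadical_iInf _ fun i => (RingHom.ker_isPrime _).isRadical
  · rw [show ({θ | θ < τ} : Set (Idx d n)) = ∅ from Set.eq_empty_of_forall_notMem fun φ hφ => h ⟨φ, hφ⟩,
      idealOn_empty_eq hd]
    exact (RingHom.ker_isPrime _).isRadical

theorem isRadical_span_mk_X (hd : 0 < d) (τ : Idx d n) :
    (Ideal.span {Ideal.Quotient.mk (idealOn K {φ | φ ≤ τ}) (X τ)}).IsRadical := by
  intro x ⟨k, hk⟩
  obtain ⟨p, rfl⟩ := Ideal.Quotient.mk_surjective x
  have hsp : Ideal.span {Ideal.Quotient.mk (idealOn K {φ | φ ≤ τ}) (X τ)} =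
      (Ideal.span {X τ}).map (Ideal.Quotient.mk (idealOn K {φ | φ ≤ τ})) := by
    rw [Ideal.map_span, Set.image_singleton]
  rw [hsp, ← map_pow, ← Ideal.mem_comap, Ideal.comap_map_of_surjective' _ Ideal.Quotient.mk_surjective,
    Ideal.mk_ker, sup_comm, sup_span_X] at hk
  rw [hsp, ← Ideal.mem_comap, Ideal.comap_map_of_surjective' _ Ideal.Quotient.mk_surjective,
    Ideal.mk_ker, sup_comm, sup_span_X]
  exact isRadical_idealOn_lt hd τ ⟨k, hk⟩

theorem isIntegrallyClosed_schubert (hd : 0 < d) (τ : Idx d n) :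
    IsIntegrallyClosed (PlRing K d n ⧸ idealOn K {φ | φ ≤ τ}) := by
  haveI := isPrime_idealOn_le (K := K) hd τ
  have h1 := chi_injective (K := K) hd τ
  have h2 : ((Ideal.Quotient.mkₐ K (idealOn K {φ | φ ≤ τ})).comp (cellLift K τ)) (X none) =
      Ideal.Quotient.mk _ (X τ) := by simp [cellLift]
  refine isIntegrallyClosed_of_away _ _ _ h1 h2 (mk_X_ne_zero hd τ)
    (isRadical_span_mk_X hd τ) fun a => ?_
  obtain ⟨p, rfl⟩ := Ideal.Quotient.mk_surjective a
  exact X_pow_mul_mem_range hd τ p

theorem ringKrullDim_schubert (hd : 0 < d) (τ : Idx d n) :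
    ringKrullDim (PlRing K d n ⧸ idealOn K {φ | φ ≤ τ}) = ((codeg τ + 1 : ℕ) : WithBot ℕ∞) := by
  haveI := isPrime_idealOn_le (K := K) hd τ
  have h1 := chi_injective (K := K) hd τ
  have h2 : ((Ideal.Quotient.mkₐ K (idealOn K {φ | φ ≤ τ})).comp (cellLift K τ)) (X none) =
      Ideal.Quotient.mk _ (X τ) := by simp [cellLift]
  refine (ringKrullDim_of_away _ _ _ h1 h2 (mk_X_ne_zero hd τ) fun a => ?_).trans ?_
  swap
  · rw [Nat.card_eq_fintype_card, Fintype.card_option, card_cellVar]
  obtain ⟨p, rfl⟩ := Ideal.Quotient.mk_surjective a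
  exact X_pow_mul_mem_range hd τ p

end Groth.Agent.SMT
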