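import Groth.Agent.SMT.Points
import Mathlib.Data.Finsupp.Multiset
import Mathlib.Data.List.FinRange
import Mathlib.Data.Multiset.Sort

/-! Chains, divisors, lattice operations on vanishing ideals, standard monomial bases. -/

noncomputable section

namespace Groth.Agent.SMT

open MvPolynomial W4bk4grassmannian

universe u

attribute [-simp] Fin.val_fin_le Fin.val_fin_lt

variable {d n : ℕ} {K : Type u} [Field K]

theorem exists_divisor {τ w : Idx d n} (h : τ < w) : ∃ φ ∈ divisors w, τ ≤ φ := by
  classical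
  have hne : (Finset.univ.filter fun t => τ.1 t < w.1 t).Nonempty := by
    by_contra hc
    refine h.not_ge fun t => not_lt.1 fun ht => hc ⟨t, ?_⟩
    simpa using ht
  set t := (Finset.univ.filter fun t => τ.1 t < w.1 t).min' hne
  have ht : τ.1 t < w.1 t := (Finset.mem_filter.1 (Finset.min'_mem _ hne)).2
  have ht' : (τ.1 t).val < (w.1 t).val := ht
  let i : Fin n := ⟨(w.1 t).val - 1, by have := (w.1 t).isLt; omega⟩
  have hmono : StrictMono (Function.update w.1 t i) := by
    intro a b hab
    by_cases hb : b = t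
    · subst hb
      rw [Function.update_of_ne hab.ne, Function.update_self, Fin.lt_def]
      have h1 : ¬ τ.1 a < w.1 a := fun hc => hab.not_ge (Finset.min'_le _ a (by simpa using hc))
      have h2 : (τ.1 a).val < (τ.1 t).val := τ.2 hab
      rw [not_lt, Fin.le_def] at h1
      simp only [i]
      omega
    · rw [Function.update_of_ne hb]
      by_cases ha : a = t
      · subst ha
        rw [Function.update_self, Fin.lt_def]
        have h2 : (w.1 t).val < (w.1 b).val := w.2 hab
        simp only [i]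
        omega
      · rw [Function.update_of_ne ha]; exact w.2 hab
  refine ⟨⟨_, hmono⟩, ⟨?_, ?_⟩, fun s => ?_⟩
  · refine lt_of_le_of_ne (fun s => ?_) fun he => ?_
    · show Function.update w.1 t i s ≤ w.1 s
      by_cases hs : s = t
      · subst hs; rw [Function.update_self, Fin.le_def]; simp [i]
      · rw [Function.update_of_ne hs]
    · have := congrArg (fun f : Idx d n => (f.1 t).val) he
      simp only [Function.update_self, i] at this
      omega
  · have h1 := codeg_add (⟨_, hmono⟩ : Idx d n)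
    have h2 := codeg_add w
    have h3 : rowSum (⟨_, hmono⟩ : Idx d n) + 1 = rowSum w := by
      rw [rowSum, rowSum, ← Finset.add_sum_erase _ _ (Finset.mem_univ t),
        ← Finset.add_sum_erase _ _ (Finset.mem_univ t)]
      rw [Finset.sum_congr rfl fun s hs => congrArg Fin.val
        (show Function.update w.1 t i s = w.1 s from Function.update_of_ne (Finset.ne_of_mem_erase hs) _ _)]
      simp only [Function.update_self, i]
      omega
    omega
  · show τ.1 s ≤ Function.update w.1 t i s
    by_cases hs : s = t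
    · subst hs; rw [Function.update_self, Fin.le_def]; simp only [i]; omega
    · rw [Function.update_of_ne hs]; exact h.le s

theorem iUnion_divisors {τ : Idx d n} :
    (⋃ φ : divisors τ, {θ | θ ≤ φ.1}) = {θ | θ < τ} := by
  ext θ
  simp only [Set.mem_iUnion, Set.mem_ofPred_eq]
  exact ⟨fun ⟨⟨φ, hφ⟩, h⟩ => lt_of_le_of_lt h hφ.1, fun h => let ⟨φ, a, b⟩ := exists_divisor h; ⟨⟨φ, a⟩, b⟩⟩

theorem iInf_subtype_divisors (τ : Idx d n) :
    ⨅ φ ∈ divisors τ, schubertVanishing K d n φ = ⨅ φ : divisors τ, schubertVanishing K d n φ.1 :=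
  (iInf_subtype'' _ _).symm

theorem iInf_divisors [Infinite K] (hd : 0 < d) {τ : Idx d n} (hτ : ∃ φ, φ < τ) :
    ⨅ φ ∈ divisors τ, schubertVanishing K d n φ = idealOn K {θ | θ < τ} := by
  obtain ⟨φ, hφ⟩ := hτ
  obtain ⟨ψ, hψ, -⟩ := exists_divisor hφ
  haveI : Nonempty (divisors τ) := ⟨⟨ψ, hψ⟩⟩
  rw [iInf_subtype_divisors, iInf_schubertVanishing hd, iUnion_divisors]

theorem sup_span_X (τ : Idx d n) :
    idealOn K {φ : Idx d n | φ ≤ τ} ⊔ Ideal.span {X τ} = idealOn K {θ | θ < τ} := by
  rw [idealOn, idealOn, sup_assoc, ← Ideal.span_union]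
  congr 2
  ext f
  simp only [Set.mem_union, Set.mem_image, Set.mem_compl_iff, Set.mem_ofPred_eq, Set.mem_singleton_iff]
  constructor
  · rintro (⟨φ, hφ, rfl⟩ | rfl)
    · exact ⟨φ, fun h => hφ h.le, rfl⟩
    · exact ⟨τ, lt_irrefl _, rfl⟩
  · rintro ⟨φ, hφ, rfl⟩
    by_cases h : φ = τ
    · exact .inr (h ▸ rfl)
    · exact .inl ⟨φ, fun h' => hφ (lt_of_le_of_ne h' h), rfl⟩

theorem sup_schubert [Infinite K] (hd : 0 < d) (w₁ w₂ : Idx d n) :
    schubertVanishing K d n w₁ ⊔ schubertVanishing K d n w₂ = schubertVanishing K d n (inf w₁ w₂) := by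
  rw [schubertVanishing_eq hd, schubertVanishing_eq hd, schubertVanishing_eq hd, ← idealOn_inter]
  congr 1
  ext φ
  exact ⟨fun h => le_inf h.1 h.2, fun h => ⟨h.trans (inf_le_left _ _), h.trans (inf_le_right _ _)⟩⟩

/-! ### chains as exponents -/

/-- The exponent of a tuple. -/
def expOf {m : ℕ} (c : Fin m → Idx d n) : Idx d n →₀ ℕ := ∑ k, Finsupp.single (c k) 1

theorem chainMon_eq {R : Type u} [CommRing R] {m : ℕ} (c : Fin m → Idx d n) :
    chainMon R c = monomial (expOf c) 1 := by
  rw [chainMon, expOf, monomial_sum_one]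
  rfl

theorem expOf_eq_toFinsupp {m : ℕ} (c : Fin m → Idx d n) :
    expOf c = Multiset.toFinsupp ((List.ofFn c : List (Idx d n)) : Multiset (Idx d n)) := by
  classical
  have h : ∀ (l : List (Idx d n)), Multiset.toFinsupp (l : Multiset (Idx d n)) =
      (l.map fun a => Finsupp.single a 1).sum := by
    intro l
    induction l with
    | nil => simp
    | cons a l ih => rw [← Multiset.cons_coe, ← Multiset.singleton_add, map_add,
        Multiset.toFinsupp_singleton, ih, List.map_cons, List.sum_cons]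
  rw [h, List.map_ofFn, List.sum_ofFn, expOf]
  rfl

theorem mem_support_expOf {m : ℕ} (c : Fin m → Idx d n) (θ : Idx d n) :
    θ ∈ (expOf c).support ↔ ∃ k, c k = θ := by
  classical
  rw [expOf_eq_toFinsupp, Multiset.toFinsupp_support, Multiset.mem_toFinset, Multiset.mem_coe, List.mem_ofFn]

theorem isStd_expOf {m : ℕ} {c : Fin m → Idx d n} (hc : Antitone c) : IsStd (expOf c) := by
  intro a ha b hb _
  obtain ⟨k, rfl⟩ := (mem_support_expOf c a).1 ha
  obtain ⟨l, rfl⟩ := (mem_support_expOf c b).1 hb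
  rcases le_total k l with h | h
  · exact Or.inr (hc h)
  · exact Or.inl (hc h)

theorem expOf_inj {m m' : ℕ} {c : Fin m → Idx d n} {c' : Fin m' → Idx d n} (hc : Antitone c)
    (hc' : Antitone c') (h : expOf c = expOf c') :
    (⟨m, c⟩ : Σ m, Fin m → Idx d n) = ⟨m', c'⟩ := by
  classical
  rw [expOf_eq_toFinsupp, expOf_eq_toFinsupp] at h
  have hp := Multiset.coe_eq_coe.1 (Multiset.toFinsupp.injective h)
  have hl : List.ofFn c = List.ofFn c' := by
    refine List.Perm.eq_of_pairwise (le := fun a b : Idx d n => b ≤ a)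
      (fun a b _ _ h1 h2 => le_antisymm h2 h1) ?_ ?_ hp
    · exact List.pairwise_ofFn.2 fun i j hij => hc hij.le
    · exact List.pairwise_ofFn.2 fun i j hij => hc' hij.le
  exact List.ofFn_inj'.1 hl

theorem exists_chain {e : Idx d n →₀ ℕ} (he : IsStd e) :
    ∃ (m : ℕ) (c : Fin m → Idx d n), Antitone c ∧ expOf c = e := by
  induction hdeg : e.degree using Nat.strong_induction_on generalizing e with
  | _ k ih =>
    rcases e.support.eq_empty_or_nonempty with h | h
    · rw [Finsupp.support_eq_empty] at h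
      exact ⟨0, Fin.elim0, fun a => a.elim0, by simp [expOf, h]⟩
    · obtain ⟨θ, hθ, hmax⟩ := exists_top he h
      obtain ⟨e', rfl⟩ : ∃ e', e = Finsupp.single θ 1 + e' := ⟨e - Finsupp.single θ 1,
        (add_tsub_cancel_of_le (Finsupp.single_le_iff.2 (Nat.one_le_iff_ne_zero.2 (Finsupp.mem_support_iff.1 hθ)))).symm⟩
      obtain ⟨m, c, hc, rfl⟩ := ih e'.degree (by rw [← hdeg]; simp) (isStd_mono le_add_self he) rfl
      refine ⟨m + 1, Fin.cons θ c, ?_, ?_⟩
      · intro a b hab
        induction a using Fin.cases with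
        | zero =>
          induction b using Fin.cases with
          | zero => exact le_rfl
          | succ b =>
            rw [Fin.cons_succ, Fin.cons_zero]
            refine hmax _ (Finsupp.support_mono le_add_self ((mem_support_expOf c _).2 ⟨b, rfl⟩))
        | succ a =>
          induction b using Fin.cases with
          | zero => exact absurd hab (by simp [Fin.le_def])
          | succ b => rw [Fin.cons_succ, Fin.cons_succ]; exact hc (Fin.succ_le_succ_iff.1 hab)
      · rw [expOf, Fin.sum_univ_succ, Fin.cons_zero]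
        simp only [Fin.cons_succ]
        rfl

theorem iUnion_downset {ι : Type*} (τ : ι → Idx d n) :
    (⋃ i, {φ : Idx d n | φ ≤ τ i}) = {φ | ∃ i, φ ≤ τ i} := by ext; simp

theorem basis_union [Infinite K] (hd : 0 < d) (r : ℕ) (τs : Fin r → Idx d n) :
    LinearIndependent K (fun c : (Σ m : ℕ, {c : Fin m → Idx d n // Antitone c ∧ ∃ i, ∀ k, c k ≤ τs i}) =>
        Ideal.Quotient.mk (⨅ i, schubertVanishing K d n (τs i)) (chainMon K c.2.1)) ∧
      Submodule.span K (Set.range fun c : (Σ m : ℕ, {c : Fin m → Idx d n // Antitone c ∧ ∃ i, ∀ k, c k ≤ τs i}) =>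
        Ideal.Quotient.mk (⨅ i, schubertVanishing K d n (τs i)) (chainMon K c.2.1)) = ⊤ := by
  classical
  rcases r.eq_zero_or_pos with rfl | hr
  · haveI : IsEmpty (Σ m : ℕ, {c : Fin m → Idx d n // Antitone c ∧ ∃ i, ∀ k, c k ≤ τs i}) :=
      ⟨fun c => (c.2.2.2.choose).elim0⟩
    haveI : Subsingleton (PlRing K d n ⧸ ⨅ i, schubertVanishing K d n (τs i)) :=
      Ideal.Quotient.subsingleton_iff.2 (iInf_of_empty _)
    exact ⟨linearIndependent_empty_type, Subsingleton.elim _ _⟩
  haveI : Nonempty (Fin r) := ⟨⟨0, hr⟩⟩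
  set D := {φ : Idx d n | ∃ i, φ ≤ τs i}
  set I := ⨅ i, schubertVanishing K d n (τs i)
  have hI : I = idealOn K D := by rw [show I = _ from iInf_schubertVanishing hd τs, iUnion_downset]
  have hker : ∀ q ∈ restrictSupport K (stdIn D), q ∈ I → q = 0 := by
    intro q hq hqI
    refine indep_union hd monotone_const τs (fun i => ⟨le_rfl, fun _ => Nat.zero_le _⟩) q ?_ fun i => ?_
    · simpa only [band_zero, iUnion_downset] using hq
    · have := (Ideal.mem_iInf.1 hqI) i
      rw [schubertVanishing_eq_ker hd] at this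
      exact this
  let idx := (Σ m : ℕ, {c : Fin m → Idx d n // Antitone c ∧ ∃ i, ∀ k, c k ≤ τs i})
  have hmem : ∀ c : idx, expOf c.2.1 ∈ stdIn D := fun c => ⟨isStd_expOf c.2.2.1, fun θ hθ => by
    obtain ⟨k, rfl⟩ := (mem_support_expOf _ θ).1 hθ
    obtain ⟨i, hi⟩ := c.2.2.2
    exact ⟨i, hi k⟩⟩
  have hinj : Function.Injective fun c : idx => expOf c.2.1 := by
    rintro ⟨m, c, hc⟩ ⟨m', c', hc'⟩ h
    cases expOf_inj hc.1 hc'.1 h
    rfl
  have hsurj : ∀ e ∈ stdIn D, ∃ c : idx, expOf c.2.1 = e := by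
    intro e he
    obtain ⟨m, c, hc, rfl⟩ := exists_chain he.1
    refine ⟨⟨m, c, hc, ?_⟩, rfl⟩
    rcases m.eq_zero_or_pos with rfl | hm
    · exact ⟨Classical.arbitrary _, fun k => k.elim0⟩
    · obtain ⟨i, hi⟩ := he.2 ((mem_support_expOf c _).2 ⟨⟨0, hm⟩, rfl⟩)
      exact ⟨i, fun k => (hc (Fin.le_def.2 (Nat.zero_le _))).trans hi⟩
  constructor
  · rw [linearIndependent_iff']
    intro s g hs c hc
    set q : PlRing K d n := ∑ x ∈ s, g x • monomial (expOf x.2.1) (1 : K)
    have hq : q ∈ restrictSupport K (stdIn D) :=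
      sum_mem fun x _ => Submodule.smul_mem _ _ ((monomial_mem_restrictSupport K).2 (.inl (hmem x)))
    have hqI : q ∈ I := by
      rw [← Ideal.Quotient.eq_zero_iff_mem, map_sum]
      refine Eq.trans ?_ hs
      refine Finset.sum_congr rfl fun x _ => ?_
      rw [chainMon_eq]
      rfl
    have := congrArg (coeff (expOf c.2.1)) (hker q hq hqI)
    simp only [q, coeff_sum, coeff_smul, coeff_monomial, coeff_zero, smul_eq_mul, mul_ite, mul_one, mul_zero] at this
    rwa [Finset.sum_eq_single c (fun x _ hx => if_neg fun h => hx (hinj h)) (fun h => absurd hc h), if_pos rfl] at this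
  · rw [eq_top_iff]
    intro x _
    obtain ⟨p, rfl⟩ := Ideal.Quotient.mk_surjective x
    obtain ⟨q, hq, hpq⟩ := exists_std_sub_mem D p
    rw [show Ideal.Quotient.mk I p = Ideal.Quotient.mk I q from Ideal.Quotient.eq.2 (hI ▸ hpq), q.as_sum, map_sum]
    refine sum_mem fun e he => ?_
    obtain ⟨c, rfl⟩ := hsurj e (hq (Finset.mem_coe.2 he))
    rw [show monomial (expOf c.2.1) (q.coeff (expOf c.2.1)) = q.coeff (expOf c.2.1) • chainMon K c.2.1 by
      rw [chainMon_eq, smul_monomial, smul_eq_mul, mul_one]]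
    exact Submodule.smul_mem _ (q.coeff (expOf c.2.1)) (Submodule.subset_span (Set.mem_range_self c))

theorem span_top {R : Type u} [CommRing R] :
    Submodule.span R (Set.range fun c : (Σ m : ℕ, {c : Fin m → Idx d n // Antitone c}) =>
      Ideal.Quotient.mk (plIdealTop (d := d) (n := n) R) (chainMon R c.2.1)) = ⊤ := by
  classical
  rw [eq_top_iff]
  intro x _
  obtain ⟨p, rfl⟩ := Ideal.Quotient.mk_surjective x
  obtain ⟨q, hq, hpq⟩ := exists_std_sub_mem (Set.univ : Set (Idx d n)) p
  have hU : idealOn R (Set.univ : Set (Idx d n)) = plIdealTop R := by simp [idealOn]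
  rw [show Ideal.Quotient.mk (plIdealTop R) p = Ideal.Quotient.mk _ q from Ideal.Quotient.eq.2 (hU ▸ hpq), q.as_sum, map_sum]
  refine sum_mem fun e he => ?_
  obtain ⟨m, c, hc, rfl⟩ := exists_chain (hq (Finset.mem_coe.2 he)).1
  rw [show monomial (expOf c) (q.coeff (expOf c)) = q.coeff (expOf c) • chainMon R c by
    rw [chainMon_eq, smul_monomial, smul_eq_mul, mul_one]]
  exact Submodule.smul_mem _ (q.coeff (expOf c)) (Submodule.subset_span (Set.mem_range_self (⟨m, c, hc⟩ : Σ m : ℕ, {c : Fin m → Idx d n // Antitone c})))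

end Groth.Agent.SMT
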