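import Groth.Agent.SMT.Points
import Mathlib.LinearAlgebra.Matrix.Determinant.Basic

/-! The Plücker quadrics cut out the Grassmannian. -/

noncomputable section

namespace Groth.Agent.SMT

open MvPolynomial W4bk4grassmannian

universe u

attribute [-simp] Fin.val_fin_le Fin.val_fin_lt

variable {e n : ℕ} {K : Type u} [Field K]

theorem eval_coord_det (B : Matrix (Fin n) (Fin (e + 1)) K) (a : Fin (e + 1) → Fin n) :
    eval (fun θ : Idx (e + 1) n => (B.submatrix θ.1 id).det) (coord K (e + 1) n a) = (B.submatrix a id).det := by
  rw [← plk_coord (K := K) B a, ← aeval_eq_eval]; rfl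

theorem eval_quadric_det (B : Matrix (Fin n) (Fin (e + 1)) K) (i' : Idx e n) (j' : Idx (e + 2) n) :
    eval (fun θ : Idx (e + 1) n => (B.submatrix θ.1 id).det) (quadric K i' j') = 0 := by
  classical
  rw [quadric, map_sum]
  simp only [map_mul, map_pow, map_neg, map_one, eval_coord_det]
  have hexp : ∀ z : Fin n, (B.submatrix (Fin.snoc i'.1 z) id).det =
      ∑ u : Fin (e + 1), B z u * ((-1) ^ (e + u.val) * (B.submatrix i'.1 u.succAbove).det) := by
    intro z
    rw [Matrix.det_succ_row _ (Fin.last e)]
    refine Finset.sum_congr rfl fun u _ => ?_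
    have : ((B.submatrix (Fin.snoc i'.1 z) id).submatrix (Fin.last e).succAbove u.succAbove) =
        B.submatrix i'.1 u.succAbove := by
      ext a b; simp
    rw [this]
    simp only [Matrix.submatrix_apply, id, Fin.snoc_last, Fin.val_last]
    ring
  simp only [hexp, Finset.mul_sum, Finset.sum_mul]
  rw [Finset.sum_comm]
  refine Finset.sum_eq_zero fun u _ => ?_
  let M : Matrix (Fin (e + 2)) (Fin (e + 2)) K := Matrix.of fun h l => Fin.cases (B (j'.1 h) u) (fun v => B (j'.1 h) v) l
  have hM : M.det = 0 := Matrix.det_zero_of_column_eq (i := 0) (j := u.succ) (Fin.succ_ne_zero u).symm fun h => by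
    simp [M]
  rw [Matrix.det_succ_column_zero] at hM
  have hsub : ∀ h : Fin (e + 2), M.submatrix h.succAbove Fin.succ = B.submatrix (j'.1 ∘ h.succAbove) id := by
    intro h; ext a b; simp [M]
  simp only [hsub] at hM
  rw [Finset.sum_congr rfl (g := fun h : Fin (e + 2) => (-((-1) ^ (e + u.val) * (B.submatrix i'.1 u.succAbove).det)) *
    ((-1) ^ h.val * M h 0 * (B.submatrix (j'.1 ∘ h.succAbove) id).det)) (fun h _ => by
      simp only [M, Matrix.of_apply, Fin.cases_zero, pow_succ]; ring), ← Finset.mul_sum, hM, mul_zero]

theorem eq_of_quadrics (p q : Idx (e + 1) n → K) (θ₀ : Idx (e + 1) n) (hp0 : p θ₀ = q θ₀) (h0 : q θ₀ ≠ 0)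
    (h1 : ∀ t i, eval p (coord K (e + 1) n (Function.update θ₀.1 t i)) =
      eval q (coord K (e + 1) n (Function.update θ₀.1 t i)))
    (hp : ∀ (i' : Idx e n) (j' : Idx (e + 2) n), eval p (quadric K i' j') = 0)
    (hq : ∀ (i' : Idx e n) (j' : Idx (e + 2) n), eval q (quadric K i' j') = 0) : p = q := by
  classical
  let I0 := Finset.univ.image θ₀.1
  have hI0 : I0.card = e + 1 := card_image_iff.2 θ₀.2.injective
  suffices ∀ (m : ℕ) (φ : Idx (e + 1) n), (Finset.univ.image φ.1 \ I0).card = m → p φ = q φ from
    funext fun φ => this _ φ rfl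
  intro m
  induction m using Nat.strong_induction_on with
  | _ m ih =>
    intro φ hm
    have hφc : (Finset.univ.image φ.1).card = e + 1 := card_image_iff.2 φ.2.injective
    rcases Nat.lt_or_ge m 2 with hm2 | hm2
    · interval_cases m
      · have : φ = θ₀ := by
          rw [← sortIdx_self φ hφc]
          refine sortIdx_eq _ hφc θ₀ fun t => ?_
          by_contra hc
          exact (Finset.card_eq_zero.1 hm ▸ Finset.notMem_empty (φ.1 t))
            (Finset.mem_sdiff.2 ⟨Finset.mem_image_of_mem _ (Finset.mem_univ t), hc⟩)
        rw [this, hp0]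
      · obtain ⟨i, hi⟩ := Finset.card_eq_one.1 hm
        have hc : (I0 \ Finset.univ.image φ.1).card = 1 :=
          ((Finset.card_sdiff_comm (by rw [hφc, hI0])).symm).trans hm
        obtain ⟨x, hx⟩ := Finset.card_eq_one.1 hc
        have hx' : x ∈ I0 \ Finset.univ.image φ.1 := hx ▸ Finset.mem_singleton_self x
        obtain ⟨t, -, rfl⟩ := Finset.mem_image.1 (Finset.mem_sdiff.1 hx').1
        have hi' : i ∈ Finset.univ.image φ.1 \ I0 := hi ▸ Finset.mem_singleton_self i
        set a := Function.update θ₀.1 t i
        have ha : Function.Injective a := by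
          intro s s' h
          simp only [a, Function.update_apply] at h
          split_ifs at h with h1 h2 h2
          · rw [h1, h2]
          · exact absurd (Finset.mem_image.2 ⟨s', Finset.mem_univ _, h.symm⟩) (Finset.mem_sdiff.1 hi').2
          · exact absurd (Finset.mem_image.2 ⟨s, Finset.mem_univ _, h⟩) (Finset.mem_sdiff.1 hi').2
          · exact θ₀.2.injective h
        have hac := card_image_iff.2 ha
        have hsort : sortIdx (e + 1) n a hac = φ := sortIdx_eq _ hac φ fun s => by
          simp only [a, Function.update_apply]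
          split_ifs with hst
          · exact (Finset.mem_sdiff.1 hi').1
          · by_contra hc'
            have h3 : θ₀.1 s ∈ I0 \ Finset.univ.image φ.1 :=
              Finset.mem_sdiff.2 ⟨Finset.mem_image_of_mem _ (Finset.mem_univ s), hc'⟩
            rw [hx, Finset.mem_singleton] at h3
            exact hst (θ₀.2.injective h3)
        have := h1 t i
        simp only [coord, a] at this hsort hac
        rw [dif_pos hac, hsort] at this
        simpa [map_mul, map_pow] using this
    · have hne : (I0 \ Finset.univ.image φ.1).Nonempty := by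
        rw [← Finset.card_pos, ← Finset.card_sdiff_comm (by rw [hφc, hI0]), hm]; omega
      obtain ⟨x, hx⟩ := hne
      obtain ⟨hxI, hxφ⟩ := Finset.mem_sdiff.1 hx
      obtain ⟨t, -, rfl⟩ := Finset.mem_image.1 hxI
      let i' : Idx e n := ⟨θ₀.1 ∘ t.succAbove, θ₀.2.comp (Fin.strictMono_succAbove t)⟩
      have hS : (insert (θ₀.1 t) (Finset.univ.image φ.1)).card = e + 2 := by
        rw [Finset.card_insert_of_notMem hxφ, hφc]
      let j' : Idx (e + 2) n := ⟨_, (Finset.orderEmbOfFin _ hS).strictMono⟩
      have hj' : Finset.univ.image j'.1 = insert (θ₀.1 t) (Finset.univ.image φ.1) :=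
        Finset.image_orderEmbOfFin_univ _ hS
      obtain ⟨h₀, -, hh₀⟩ := Finset.mem_image.1 (hj' ▸ Finset.mem_insert_self _ _ : θ₀.1 t ∈ Finset.univ.image j'.1)
      have key : ∀ a : Fin (e + 1) → Fin n, (Finset.univ.image a \ I0).card < m →
          eval p (coord K (e + 1) n a) = eval q (coord K (e + 1) n a) := by
        intro a ha
        unfold coord
        split_ifs with h
        · simp only [map_mul, map_pow, eval_X]
          congr 1
          · simp
          · exact ih _ ha _ (by rw [image_sortIdx])
        · simp
      have hterm : ∀ h ∈ Finset.univ, h ≠ h₀ →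
          eval p ((-1 : PlRing K (e + 1) n) ^ (h.val + 1) * coord K (e + 1) n (Fin.snoc i'.1 (j'.1 h)) *
            coord K (e + 1) n (j'.1 ∘ h.succAbove)) =
          eval q ((-1 : PlRing K (e + 1) n) ^ (h.val + 1) * coord K (e + 1) n (Fin.snoc i'.1 (j'.1 h)) *
            coord K (e + 1) n (j'.1 ∘ h.succAbove)) := by
        intro h _ hh
        have hjh : j'.1 h ≠ θ₀.1 t := fun e => hh (j'.2.injective (e.trans hh₀.symm))
        have hmem : j'.1 h ∈ Finset.univ.image φ.1 := by
          have : j'.1 h ∈ Finset.univ.image j'.1 := Finset.mem_image_of_mem _ (Finset.mem_univ h)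
          rw [hj'] at this
          exact Finset.mem_of_mem_insert_of_ne this hjh
        by_cases hjI : j'.1 h ∈ I0
        · obtain ⟨s, -, hs⟩ := Finset.mem_image.1 hjI
          obtain ⟨s', rfl⟩ := Fin.exists_succAbove_eq (x := s) (y := t) (fun e => hjh (by rw [← hs, e]))
          have : coord K (e + 1) n (Fin.snoc i'.1 (j'.1 h)) = 0 := by
            rw [coord, dif_neg]
            intro hc
            have := card_image_iff.1 hc (a₁ := s'.castSucc) (a₂ := Fin.last e) (by simp [i', hs])
            exact (Fin.castSucc_lt_last s').ne this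
          rw [this]; simp
        · simp only [map_mul, map_pow]
          congr 1
          · congr 1
            · simp
            · refine key _ (lt_of_le_of_lt (Finset.card_le_card fun y hy => ?_) ((Finset.card_singleton (j'.1 h)).trans_lt (by omega : 1 < m)))
              obtain ⟨hy1, hy2⟩ := Finset.mem_sdiff.1 hy
              obtain ⟨s, -, rfl⟩ := Finset.mem_image.1 hy1
              induction s using Fin.lastCases with
              | last => simp
              | cast s => exact absurd (by simp [I0, i']) hy2
          · refine key _ (lt_of_lt_of_eq (Finset.card_lt_card ⟨fun y hy => ?_, fun hsub => ?_⟩) hm)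
            · obtain ⟨hy1, hy2⟩ := Finset.mem_sdiff.1 hy
              obtain ⟨s, -, rfl⟩ := Finset.mem_image.1 hy1
              have : j'.1 (h.succAbove s) ∈ Finset.univ.image j'.1 := Finset.mem_image_of_mem _ (Finset.mem_univ _)
              rw [hj', Finset.mem_insert] at this
              exact Finset.mem_sdiff.2 ⟨this.resolve_left fun e => hy2 (by
                show j'.1 (h.succAbove s) ∈ I0
                rw [e]; exact hxI), hy2⟩
            · have := hsub (Finset.mem_sdiff.2 ⟨hmem, hjI⟩)
              obtain ⟨s, -, hs⟩ := Finset.mem_image.1 (Finset.mem_sdiff.1 this).1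
              exact Fin.succAbove_ne h s (j'.2.injective hs)
      have e1 := hp i' j'
      have e2 := hq i' j'
      rw [quadric, map_sum, ← Finset.add_sum_erase _ _ (Finset.mem_univ h₀)] at e1 e2
      rw [Finset.sum_congr rfl (fun h hh => hterm h (Finset.mem_univ h) (Finset.ne_of_mem_erase hh))] at e1
      have e3 := add_right_cancel (e1.trans e2.symm)
      have hφ : j'.1 ∘ h₀.succAbove = φ.1 := by
        have hmono : StrictMono (j'.1 ∘ h₀.succAbove) := j'.2.comp (Fin.strictMono_succAbove h₀)
        have hc := card_image_iff.2 hmono.injective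
        have := sortIdx_self (⟨_, hmono⟩ : Idx (e + 1) n) hc
        rw [sortIdx_eq _ hc φ fun s => ?_] at this
        · exact (congrArg Subtype.val this).symm
        · have h4 : j'.1 (h₀.succAbove s) ∈ Finset.univ.image j'.1 := Finset.mem_image_of_mem _ (Finset.mem_univ _)
          rw [hj', Finset.mem_insert] at h4
          exact h4.resolve_left fun e => Fin.succAbove_ne h₀ s (j'.2.injective (e.trans hh₀.symm))
      have hsn : ∀ v : Idx (e + 1) n → K, eval v (coord K (e + 1) n (Fin.snoc i'.1 (j'.1 h₀))) =
          (-1) ^ invCount (e + 1) n (Fin.snoc i'.1 (j'.1 h₀)) * v θ₀ := by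
        intro v
        have hinj : Function.Injective (Fin.snoc i'.1 (j'.1 h₀) : Fin (e + 1) → Fin n) := by
          rw [Fin.snoc_injective_iff]
          refine ⟨i'.2.injective, ?_⟩
          rintro ⟨s, hs⟩
          rw [hh₀] at hs
          exact Fin.succAbove_ne t s (θ₀.2.injective hs)
        have hc := card_image_iff.2 hinj
        rw [coord, dif_pos hc, sortIdx_eq _ hc θ₀ fun s => by
          induction s using Fin.lastCases with
          | last => rw [Fin.snoc_last, hh₀]; exact hxI
          | cast s => rw [Fin.snoc_castSucc]; exact Finset.mem_image_of_mem _ (Finset.mem_univ _)]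
        simp
      have hcoord : ∀ v : Idx (e + 1) n → K, eval v (coord K (e + 1) n φ.1) = v φ := by
        intro v
        have hinv : invCount (e + 1) n φ.1 = 0 := by
          rw [invCount, Finset.card_eq_zero, Finset.filter_eq_empty_iff]
          rintro x - ⟨h1, h2⟩
          exact (φ.2 h1).not_gt h2
        rw [coord, dif_pos hφc, sortIdx_self, hinv]
        simp
      simp only [map_mul, map_pow, map_neg, map_one, hsn, hφ, hcoord, hp0] at e3
      exact mul_left_cancel₀ (mul_ne_zero (pow_ne_zero _ (by norm_num))
        (mul_ne_zero (pow_ne_zero _ (by norm_num)) h0)) e3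

theorem eval_smul_coord (c : K) (v : Idx (e + 1) n → K) (a : Fin (e + 1) → Fin n) :
    eval (fun θ => c * v θ) (coord K (e + 1) n a) = c * eval v (coord K (e + 1) n a) := by
  unfold coord
  split_ifs
  · simp only [map_mul, eval_X, map_pow, map_neg, map_one]; ring
  · simp

theorem eval_smul_quadric (c : K) (v : Idx (e + 1) n → K) (i' : Idx e n) (j' : Idx (e + 2) n) :
    eval (fun θ => c * v θ) (quadric K i' j') = c ^ 2 * eval v (quadric K i' j') := by
  simp only [quadric, map_sum, Finset.mul_sum, map_mul, eval_smul_coord, map_pow, map_neg, map_one]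
  exact Finset.sum_congr rfl fun h _ => by ring

theorem quadrics_iff (q : Idx (e + 1) n → K) (hq : q ≠ 0) :
    (∀ (i' : Idx e n) (j' : Idx (e + 2) n), eval q (quadric K i' j') = 0) ↔
      ∃ A : Matrix (Fin n) (Fin (e + 1)) K, ∀ θ : Idx (e + 1) n, q θ = (A.submatrix θ.1 id).det := by
  classical
  constructor
  · intro h
    obtain ⟨θ₀, hθ₀⟩ := Function.ne_iff.1 hq
    set c := q θ₀
    have hc : c ≠ 0 := hθ₀
    set B : Matrix (Fin n) (Fin (e + 1)) K :=
      Matrix.of fun i t => c⁻¹ * eval q (coord K (e + 1) n (Function.update θ₀.1 t i))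
    have hB : B.submatrix θ₀.1 id = 1 := by
      ext s t
      simp only [B, Matrix.submatrix_apply, Matrix.of_apply, id]
      by_cases hst : s = t
      · subst hst
        have hinv : invCount (e + 1) n θ₀.1 = 0 := by
          rw [invCount, Finset.card_eq_zero, Finset.filter_eq_empty_iff]
          rintro p - ⟨h1, h2⟩
          exact (θ₀.2 h1).not_gt h2
        rw [Function.update_eq_self, coord, dif_pos (card_image_iff.2 θ₀.2.injective), sortIdx_self, hinv,
          Matrix.one_apply_eq]
        simp [inv_mul_cancel₀ hc, c]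
      · rw [Matrix.one_apply_ne hst, coord, dif_neg fun hc' => hst (card_image_iff.1 hc' (by
          rw [Function.update_self, Function.update_of_ne hst]))]
        simp
    let A : Matrix (Fin n) (Fin (e + 1)) K := B * Matrix.diagonal fun t : Fin (e + 1) => if t = 0 then c else 1
    have hA : ∀ a : Fin (e + 1) → Fin n, (A.submatrix a id).det = c * (B.submatrix a id).det := by
      intro a
      rw [show A.submatrix a id = B.submatrix a id * Matrix.diagonal (fun t : Fin (e + 1) => if t = 0 then c else 1) by
        ext s t; simp only [A, Matrix.submatrix_apply, id, Matrix.mul_diagonal], Matrix.det_mul, Matrix.det_diagonal, Finset.prod_ite_eq',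
        if_pos (Finset.mem_univ _), mul_comm]
    refine ⟨A, congrFun (?_ : q = fun θ : Idx (e + 1) n => (A.submatrix θ.1 id).det)⟩
    refine eq_of_quadrics q _ θ₀ ?_ ?_ (fun t i => ?_) h (fun i' j' => eval_quadric_det A i' j')
    · rw [hA, hB, Matrix.det_one, mul_one]
    · rw [hA, hB, Matrix.det_one, mul_one]; exact hc
    · rw [eval_coord_det, hA, det_update_row B θ₀ hB]
      simp only [B, Matrix.of_apply]
      rw [← mul_assoc, mul_inv_cancel₀ hc, one_mul]
  · rintro ⟨A, hA⟩ i' j'
    rw [show q = fun θ : Idx (e + 1) n => (A.submatrix θ.1 id).det from funext hA]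
    exact eval_quadric_det A i' j'

end Groth.Agent.SMT
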