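import Groth.Agent.SMT.Schubert
import Mathlib.RingTheory.UniqueFactorizationDomain.Kaplansky
import Mathlib.RingTheory.UniqueFactorizationDomain.Multiplicity
import Mathlib.RingTheory.MvPolynomial.Homogeneous
import Mathlib.RingTheory.Polynomial.UniqueFactorization

/-! Prime Plücker coordinates and factoriality of Schubert cones. -/

noncomputable section

namespace Groth.Agent.SMT

open MvPolynomial W4bk4grassmannian

universe u

attribute [-simp] Fin.val_fin_le Fin.val_fin_lt

variable {d n : ℕ} {K : Type u} [Field K]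

theorem sup_span_X_erase (D : Set (Idx d n)) (a : Idx d n) :
    idealOn K D ⊔ Ideal.span {X a} = idealOn K (D \ {a}) := by
  rw [idealOn, idealOn, sup_assoc, ← Ideal.span_union, Set.compl_diff, Set.image_union, Set.image_singleton,
    Set.union_comm]

theorem prime_mk_X_iff (D : Set (Idx d n)) (a : Idx d n) (hne : (X a : PlRing K d n) ∉ idealOn K D) :
    Prime (Ideal.Quotient.mk (idealOn K D) (X a)) ↔ (idealOn K (D \ {a})).IsPrime := by
  have hne' : Ideal.Quotient.mk (idealOn K D) (X a) ≠ 0 := by rwa [Ne, Ideal.Quotient.eq_zero_iff_mem]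
  rw [← Ideal.span_singleton_prime hne', ← sup_span_X_erase]
  rw [show Ideal.span {Ideal.Quotient.mk (idealOn K D) (X a)} =
    (Ideal.span {X a}).map (Ideal.Quotient.mk (idealOn K D)) by rw [Ideal.map_span, Set.image_singleton]]
  refine ⟨fun h => ?_, fun h => ?_⟩
  · have := h.comap (Ideal.Quotient.mk (idealOn K D))
    rwa [Ideal.comap_map_of_surjective' _ Ideal.Quotient.mk_surjective, Ideal.mk_ker, sup_comm] at this
  · rw [show (Ideal.span {X a}).map (Ideal.Quotient.mk (idealOn K D)) =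
      (idealOn K D ⊔ Ideal.span {X a}).map (Ideal.Quotient.mk (idealOn K D)) by
        rw [Ideal.map_sup, Ideal.map_quotient_self, bot_sup_eq]]
    haveI := h
    exact Ideal.map_isPrime_of_surjective Ideal.Quotient.mk_surjective (by rw [Ideal.mk_ker]; exact _root_.le_sup_left)

theorem X_notMem_idealOn (hd : 0 < d) {θ w : Idx d n} (h : θ ≤ w) :
    (X θ : PlRing K d n) ∉ idealOn K {φ | φ ≤ w} := by
  intro hX
  have hw : w ∈ band (fun _ => 0) w := ⟨le_rfl, fun _ => Nat.zero_le _⟩
  rw [← band_zero, ← ker_psi hd monotone_const hw] at hX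
  exact psi_X_ne_zero (K := K) (show θ ∈ band (fun _ => 0) w from ⟨h, fun _ => Nat.zero_le _⟩) hX

theorem isPrime_idealOn_empty (hd : 0 < d) : (idealOn K (∅ : Set (Idx d n))).IsPrime := by
  rw [idealOn_empty_eq hd]; exact RingHom.ker_isPrime _

theorem prime_mk_bot (hd : 0 < d) (hdn : d ≤ n) (w : Idx d n) :
    Prime (Ideal.Quotient.mk (idealOn K {φ : Idx d n | φ ≤ w}) (X (botIdx hdn))) := by
  rw [prime_mk_X_iff _ _ (X_notMem_idealOn hd (botIdx_le hdn w))]
  rcases eq_or_ne w (botIdx hdn) with rfl | hne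
  · rw [show ({φ : Idx d n | φ ≤ botIdx hdn} \ {botIdx hdn} : Set (Idx d n)) = ∅ from
      Set.eq_empty_of_forall_notMem fun φ hφ => hφ.2 (le_antisymm hφ.1 (botIdx_le hdn φ))]
    exact isPrime_idealOn_empty hd
  let lo : Fin d → ℕ := fun t => if t.val + 1 = d then d else t.val
  have hlo : Monotone lo := by
    intro a b hab
    have : a.val ≤ b.val := hab
    have := b.isLt
    simp only [lo]
    split_ifs <;> omega
  have key : ∀ θ : Idx d n, θ ≠ botIdx hdn → ∀ t, lo t ≤ (θ.1 t).val := by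
    intro θ hθ t
    simp only [lo]
    split_ifs with h
    · by_contra hc
      refine hθ (le_antisymm (fun s => ?_) (botIdx_le hdn θ))
      have hst : s ≤ t := Fin.le_def.2 (by have := s.isLt; omega)
      have h2 : (θ.1 t).val + s.val ≥ (θ.1 s).val + t.val := by
        induction hk : t.val - s.val generalizing s with
        | zero => have : s = t := Fin.ext (by have := Fin.le_def.1 hst; omega); subst this; omega
        | succ k ih =>
          let s' : Fin d := ⟨s.val + 1, by have := t.isLt; omega⟩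
          have h1 := ih s' (Fin.le_def.2 (by simp [s']; omega)) (by simp [s']; omega)
          have h2 : (θ.1 s).val < (θ.1 s').val := θ.2 (Fin.lt_def.2 (by simp [s']))
          simp only [s'] at h1 h2
          omega
      rw [Fin.le_def]
      show (θ.1 s).val ≤ s.val
      omega
    · exact val_ge θ t
  have hset : ({φ : Idx d n | φ ≤ w} \ {botIdx hdn} : Set (Idx d n)) = band lo w := by
    ext φ
    refine ⟨fun h => ⟨h.1, key φ h.2⟩, fun h => ⟨h.1, fun e => ?_⟩⟩
    have := h.2 ⟨d - 1, by omega⟩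
    rw [Set.mem_singleton_iff.1 e] at this
    simp only [lo, botIdx] at this
    rw [if_pos (by omega)] at this
    omega
  rw [hset]
  exact isPrime_idealOn_band hd hlo ⟨le_rfl, key w hne⟩

/-! ### divisors -/

/-- Positions where a Schubert condition can be lowered. -/
def CanDrop (τ : Idx d n) (t : Fin d) : Prop :=
  t.val < (τ.1 t).val ∧ ∀ u : Fin d, u.val + 1 = t.val → (τ.1 u).val + 1 < (τ.1 t).val

theorem exists_divisor_of_canDrop {τ : Idx d n} {t : Fin d} (h : CanDrop τ t) :
    ∃ φ ∈ divisors τ, (φ.1 t).val < (τ.1 t).val ∧ ∀ s, s ≠ t → φ.1 s = τ.1 s := by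
  let i : Fin n := ⟨(τ.1 t).val - 1, by have := (τ.1 t).isLt; omega⟩
  have ht := h.1
  have hmono : StrictMono (Function.update τ.1 t i) := by
    intro a b hab
    by_cases hb : b = t
    · subst hb
      rw [Function.update_of_ne hab.ne, Function.update_self, Fin.lt_def]
      let u : Fin d := ⟨b.val - 1, by have := b.isLt; omega⟩
      have hab' : a.val < b.val := hab
      have h2 := h.2 u (by simp [u]; omega)
      have h3 : (τ.1 a).val ≤ (τ.1 u).val := τ.2.monotone (Fin.le_def.2 (by simp [u]; omega))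
      simp only [i]
      omega
    · rw [Function.update_of_ne hb]
      by_cases ha : a = t
      · subst ha
        rw [Function.update_self, Fin.lt_def]
        have h2 : (τ.1 a).val < (τ.1 b).val := τ.2 hab
        simp only [i]
        omega
      · rw [Function.update_of_ne ha]; exact τ.2 hab
  refine ⟨⟨_, hmono⟩, ⟨?_, ?_⟩, ?_, fun s hs => Function.update_of_ne hs _ _⟩
  · refine lt_of_le_of_ne (fun s => ?_) fun he => ?_
    · show Function.update τ.1 t i s ≤ τ.1 s
      by_cases hs : s = t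
      · subst hs; rw [Function.update_self, Fin.le_def]; simp [i]
      · rw [Function.update_of_ne hs]
    · have := congrArg (fun f : Idx d n => (f.1 t).val) he
      simp only [Function.update_self, i] at this
      omega
  · have h1 := codeg_add (⟨_, hmono⟩ : Idx d n)
    have h2 := codeg_add τ
    have h3 : rowSum (⟨_, hmono⟩ : Idx d n) + 1 = rowSum τ := by
      rw [rowSum, rowSum, ← Finset.add_sum_erase _ _ (Finset.mem_univ t),
        ← Finset.add_sum_erase _ _ (Finset.mem_univ t)]
      rw [Finset.sum_congr rfl fun s hs => congrArg Fin.val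
        (show Function.update τ.1 t i s = τ.1 s from Function.update_of_ne (Finset.ne_of_mem_erase hs) _ _)]
      simp only [Function.update_self, i]
      omega
    omega
  · simp only [Function.update_self, i]; omega

theorem canDrop_of_divisor {τ φ : Idx d n} (h : φ ∈ divisors τ) :
    ∃ t, CanDrop τ t ∧ (φ.1 t).val + 1 = (τ.1 t).val ∧ ∀ s, s ≠ t → φ.1 s = τ.1 s := by
  obtain ⟨t, ht⟩ : ∃ t, φ.1 t < τ.1 t := by
    by_contra hc
    push Not at hc
    exact h.1.not_ge hc
  have h1 := codeg_add φ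
  have h2 := codeg_add τ
  have h3 := h.2
  have hsum : rowSum φ + 1 = rowSum τ := by omega
  rw [rowSum, rowSum, ← Finset.add_sum_erase _ _ (Finset.mem_univ t),
    ← Finset.add_sum_erase _ _ (Finset.mem_univ t)] at hsum
  have hle : ∀ s, (φ.1 s).val ≤ (τ.1 s).val := fun s => h.1.le s
  have ht' : (φ.1 t).val < (τ.1 t).val := ht
  have hrest : ∀ s, s ≠ t → φ.1 s = τ.1 s := by
    intro s hs
    by_contra hne
    have := Finset.sum_lt_sum (s := Finset.univ.erase t) (fun u _ => hle u)
      ⟨s, by simp [hs], lt_of_le_of_ne (hle s) fun e => hne (Fin.ext e)⟩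
    omega
  have heq : (φ.1 t).val + 1 = (τ.1 t).val := by
    have : ∑ x ∈ Finset.univ.erase t, (φ.1 x).val = ∑ x ∈ Finset.univ.erase t, (τ.1 x).val :=
      Finset.sum_congr rfl fun u hu => by rw [hrest u (Finset.ne_of_mem_erase hu)]
    omega
  refine ⟨t, ⟨?_, fun u hu => ?_⟩, heq, hrest⟩
  · have := val_ge φ t; omega
  · have h4 : (φ.1 u).val < (φ.1 t).val := φ.2 (Fin.lt_def.2 (by omega))
    rw [hrest u (fun e => by subst e; omega)] at h4
    omega

theorem subsingleton_divisors_iff (τ : Idx d n) :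
    (divisors τ).Subsingleton ↔ ∃ s : ℕ, (∀ t : Fin d, t.val < s → (τ.1 t).val = t.val) ∧
      ∀ t t' : Fin d, s ≤ t.val → t.val + 1 = t'.val → (τ.1 t).val + 1 = (τ.1 t').val := by
  classical
  constructor
  · intro hsub
    by_cases hex : ∃ t : Fin d, (τ.1 t).val ≠ t.val
    · set P := Finset.univ.filter fun t : Fin d => (τ.1 t).val ≠ t.val
      have hne : P.Nonempty := let ⟨t, ht⟩ := hex; ⟨t, Finset.mem_filter.2 ⟨Finset.mem_univ _, ht⟩⟩
      set s := P.min' hne
      have hsP : (τ.1 s).val ≠ s.val := (Finset.mem_filter.1 (Finset.min'_mem P hne)).2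
      have hbelow : ∀ t : Fin d, t.val < s.val → (τ.1 t).val = t.val := by
        intro t ht
        by_contra h'
        have : s ≤ t := Finset.min'_le P t (Finset.mem_filter.2 ⟨Finset.mem_univ _, h'⟩)
        exact absurd (Fin.le_def.1 this) (not_le.2 ht)
      have hd1 : CanDrop τ s := ⟨lt_of_le_of_ne (val_ge τ s) (Ne.symm hsP), fun u hu => by
        rw [hbelow u (by omega)]; have := val_ge τ s; omega⟩
      refine ⟨s.val, hbelow, fun t t' hst htt => ?_⟩
      by_contra hne'
      have hlt : (τ.1 t).val < (τ.1 t').val := τ.2 (Fin.lt_def.2 (by omega))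
      have := val_ge τ t
      have hd2 : CanDrop τ t' := ⟨by omega, fun u hu => by
        have : u = t := Fin.ext (by omega)
        subst this; omega⟩
      obtain ⟨φ, hφ, hφ1, hφ2⟩ := exists_divisor_of_canDrop hd1
      obtain ⟨φ', hφ', hφ1', hφ2'⟩ := exists_divisor_of_canDrop hd2
      obtain rfl := hsub hφ hφ'
      have : s ≠ t' := fun e => by subst e; omega
      rw [hφ2 t' (Ne.symm this)] at hφ1'
      omega
    · push Not at hex
      exact ⟨d, fun t _ => hex t, fun t _ h _ => absurd t.isLt (by omega)⟩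
  · rintro ⟨s, h1, h2⟩ φ hφ φ' hφ'
    obtain ⟨t, ht, e1, r1⟩ := canDrop_of_divisor hφ
    obtain ⟨t', ht', e2, r2⟩ := canDrop_of_divisor hφ'
    have key : ∀ t : Fin d, CanDrop τ t → t.val = s := by
      intro t ht
      rcases lt_trichotomy t.val s with h | h | h
      · have := ht.1; rw [h1 t h] at this; omega
      · exact h
      · let u : Fin d := ⟨t.val - 1, by have := t.isLt; omega⟩
        have ha := ht.2 u (by simp [u]; omega)
        have hb := h2 u t (by simp [u]; omega) (by simp [u]; omega)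
        omega
    obtain rfl : t = t' := Fin.ext (by rw [key t ht, key t' ht'])
    refine Subtype.ext (funext fun u => ?_)
    by_cases hu : u = t
    · subst hu; exact Fin.ext (by omega)
    · rw [r1 u hu, r2 u hu]

theorem prime_mk_self_iff (hd : 0 < d) (τ : Idx d n) :
    Prime (Ideal.Quotient.mk (idealOn K {φ : Idx d n | φ ≤ τ}) (X τ)) ↔ (divisors τ).Subsingleton := by
  classical
  rw [prime_mk_X_iff _ _ (X_notMem_idealOn hd le_rfl),
    show ({φ : Idx d n | φ ≤ τ} \ {τ} : Set (Idx d n)) = {θ | θ < τ} from Set.ext fun φ =>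
      ⟨fun h => lt_of_le_of_ne h.1 h.2, fun h => ⟨show φ ≤ τ from le_of_lt h, ne_of_lt h⟩⟩]
  constructor
  · intro hP φ hφ ψ hψ
    by_contra hne
    haveI : Nonempty (divisors τ) := ⟨⟨φ, hφ⟩⟩
    have hinf := iInf_ker_psi (K := K) hd monotone_const (fun χ : divisors τ => χ.1)
      (fun _ => ⟨le_rfl, fun _ => Nat.zero_le _⟩)
    simp only [band_zero, iUnion_divisors] at hinf
    have heq : ∀ χ ∈ divisors τ, ∀ a ∈ divisors τ, a ≤ χ → a = χ := fun χ hχ a ha hle => by
      by_contra hne
      have := codeg_lt (lt_of_le_of_ne hle hne)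
      have := hχ.2; have := ha.2
      omega
    have hmem : (X φ * X ψ : PlRing K d n) ∈ idealOn K {θ | θ < τ} := by
      rw [← hinf, Ideal.mem_iInf]
      intro χ
      rw [RingHom.mem_ker]
      show psi K (fun _ => 0) χ.1 (X φ * X ψ) = 0
      rw [map_mul]
      by_cases h : φ = χ.1
      · refine mul_eq_zero_of_right _ (psi_X_eq_zero monotone_const ?_)
        rw [band_zero]
        exact fun h' => hne (h.trans (heq _ χ.2 _ hψ h').symm)
      · refine mul_eq_zero_of_left (psi_X_eq_zero monotone_const ?_) _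
        rw [band_zero]
        exact fun h' => h (heq _ χ.2 _ hφ h')
    have hnot : ∀ a ∈ divisors τ, (X a : PlRing K d n) ∉ idealOn K {θ | θ < τ} := by
      intro a ha hX
      rw [← hinf, Ideal.mem_iInf] at hX
      exact psi_X_ne_zero (K := K) (show a ∈ band (fun _ => 0) a from ⟨le_rfl, fun _ => Nat.zero_le _⟩) (hX ⟨a, ha⟩)
    exact (hP.mem_or_mem hmem).elim (hnot φ hφ) (hnot ψ hψ)
  · intro hsub
    rcases (divisors τ).eq_empty_or_nonempty with he | ⟨φ, hφ⟩
    · rw [show ({θ | θ < τ} : Set (Idx d n)) = ∅ from Set.eq_empty_of_forall_notMem fun θ hθ => by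
        obtain ⟨φ, hφ, -⟩ := exists_divisor hθ
        rw [he] at hφ; exact hφ]
      exact isPrime_idealOn_empty hd
    · rw [show ({θ | θ < τ} : Set (Idx d n)) = {θ | θ ≤ φ} from Set.ext fun θ =>
        ⟨fun hθ => let ⟨ψ, hψ, h⟩ := exists_divisor hθ; (hsub hψ hφ) ▸ h, fun h => lt_of_le_of_lt h hφ.1⟩]
      exact isPrime_idealOn_le hd φ

/-! ### factoriality -/

/-- Nagata's criterion for a domain which becomes a polynomial ring after inverting a prime. -/
theorem ufd_of_away {A : Type u} [CommRing A] [IsDomain A] [IsNoetherianRing A] [Algebra K A] {σ : Type}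
    (χ : MvPolynomial σ K →ₐ[K] A) (P : A) (s : MvPolynomial σ K) (hχ : Function.Injective χ) (hs : χ s = P)
    (hP : Prime P) (hrange : ∀ a : A, ∃ m : ℕ, P ^ m * a ∈ χ.range) : UniqueFactorizationMonoid A := by
  rw [UniqueFactorizationMonoid.iff_exists_prime_mem_of_isPrime]
  intro Q hQ hQP
  by_cases hPQ : P ∈ Q
  · exact ⟨P, hPQ, hP⟩
  haveI := hQP
  have hne : Q.comap χ ≠ ⊥ := by
    obtain ⟨a, ha, ha0⟩ := Submodule.exists_mem_ne_zero_of_ne_bot hQ
    obtain ⟨m, x, hx⟩ := hrange a
    intro hbot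
    have hxQ : x ∈ Q.comap χ := by
      rw [Ideal.mem_comap, show χ x = P ^ m * a from hx]; exact Q.mul_mem_left _ ha
    rw [hbot, Ideal.mem_bot] at hxQ
    rw [hxQ, map_zero] at hx
    exact mul_ne_zero (pow_ne_zero m hP.ne_zero) ha0 hx.symm
  obtain ⟨b, hbQ, hb⟩ := (Ideal.comap_isPrime χ Q).exists_mem_prime_of_ne_bot hne
  have hb0 : χ b ≠ 0 := fun h => hb.ne_zero (hχ (h.trans (map_zero χ).symm))
  obtain ⟨k, c, hc, hbc⟩ := WfDvdMonoid.max_power_factor hb0 hP.irreducible
  have hcQ : c ∈ Q := by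
    have h := Ideal.mem_comap.1 hbQ
    rw [hbc] at h
    exact (hQP.mem_or_mem h).resolve_left fun h' => hPQ (hQP.mem_of_pow_mem _ h')
  have hcancel : ∀ (m : ℕ) (x : A), c ∣ P ^ m * x → c ∣ x := by
    rintro m x ⟨w, hw⟩
    obtain ⟨w', hw'⟩ := hP.pow_dvd_of_dvd_mul_left m hc ⟨x, hw.symm⟩
    refine ⟨w', mul_left_cancel₀ (pow_ne_zero m hP.ne_zero) ?_⟩
    rw [hw, hw']; ring
  refine ⟨c, hcQ, fun h => hb0 (by rw [hbc, h, mul_zero]), fun hu => hQP.ne_top (Ideal.eq_top_of_isUnit_mem _ hcQ hu), ?_⟩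
  rintro x y ⟨z, hz⟩
  obtain ⟨m, x', hx'⟩ := hrange x
  obtain ⟨l, y', hy'⟩ := hrange y
  obtain ⟨j, z', hz'⟩ := hrange z
  have hx'' : χ x' = P ^ m * x := hx'
  have hy'' : χ y' = P ^ l * y := hy'
  have hz'' : χ z' = P ^ j * z := hz'
  have hdvd : b ∣ s ^ (k + j) * (x' * y') := by
    refine ⟨z' * s ^ (m + l), hχ ?_⟩
    simp only [map_mul, map_pow, hs, hx'', hy'', hz'', hbc]
    rw [pow_add, pow_add, show P ^ k * P ^ j * (P ^ m * x * (P ^ l * y)) = P ^ k * P ^ j * P ^ m * P ^ l * (x * y) by ring, hz]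
    ring
  have hbs : ¬ b ∣ s := by
    rintro ⟨e, he⟩
    refine hPQ ?_
    rw [← hs, he, map_mul, hbc]
    exact Q.mul_mem_right _ (Q.mul_mem_left _ hcQ)
  rcases (hb.dvd_or_dvd hdvd).resolve_left (fun h => hbs (hb.dvd_of_dvd_pow h)) |> hb.dvd_or_dvd with ⟨e, he⟩ | ⟨e, he⟩
  · left
    refine hcancel m x ⟨P ^ k * χ e, ?_⟩
    rw [← hx'', he, map_mul, hbc]; ring
  · right
    refine hcancel l y ⟨P ^ k * χ e, ?_⟩
    rw [← hy'', he, map_mul, hbc]; ring

theorem ufd_schubert (hd : 0 < d) (τ : Idx d n)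
    (hprime : Prime (Ideal.Quotient.mk (idealOn K {φ : Idx d n | φ ≤ τ}) (X τ))) :
    UniqueFactorizationMonoid (PlRing K d n ⧸ idealOn K {φ : Idx d n | φ ≤ τ}) := by
  haveI := isPrime_idealOn_le (K := K) hd τ
  haveI : IsNoetherianRing (PlRing K d n ⧸ idealOn K {φ : Idx d n | φ ≤ τ}) :=
    isNoetherianRing_of_surjective _ _ (Ideal.Quotient.mk (idealOn K {φ : Idx d n | φ ≤ τ})) Ideal.Quotient.mk_surjective
  refine ufd_of_away _ _ (X none) (chi_injective (K := K) hd τ) (by simp [cellLift]) hprime fun a => ?_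
  obtain ⟨p, rfl⟩ := Ideal.Quotient.mk_surjective a
  exact X_pow_mul_mem_range hd τ p

theorem isHomogeneous_psi_X (lo : Fin d → ℕ) (w θ : Idx d n) : (psi K lo w (X θ)).IsHomogeneous d := by
  rw [psi, plk_X, Matrix.det_apply]
  refine IsHomogeneous.sum _ _ _ fun σ _ => ?_
  have : (∏ i, (genB K lo w).submatrix θ.1 id (σ i) i).IsHomogeneous (∑ _i : Fin d, 1) := by
    refine IsHomogeneous.prod _ _ _ fun i _ => ?_
    simp only [Matrix.submatrix_apply, genB, Matrix.of_apply, id]
    split_ifs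
    · exact isHomogeneous_X _ _
    · exact isHomogeneous_zero _ _ _
  rw [Finset.sum_const, Finset.card_univ, Fintype.card_fin, smul_eq_mul, mul_one] at this
  rw [Units.smul_def, zsmul_eq_mul, ← map_intCast (C : K →+* MatRing K d n)]
  exact this.C_mul _

theorem degree_of_coeff_psi (lo : Fin d → ℕ) (w : Idx d n) (p : PlRing K d n) {m : Fin n × Fin d →₀ ℕ}
    (hm : coeff m (psi K lo w p) ≠ 0) : ∃ e : Idx d n →₀ ℕ, m.degree = d * e.degree := by
  rw [p.as_sum, map_sum, coeff_sum] at hm
  obtain ⟨e, -, he⟩ := Finset.exists_ne_zero_of_sum_ne_zero hm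
  refine ⟨e, ?_⟩
  have h1 : ∀ θ : Idx d n, ((genB K lo w).submatrix θ.1 id).det.IsHomogeneous d := fun θ => by
    have := isHomogeneous_psi_X (K := K) lo w θ
    rwa [psi, plk_X] at this
  exact ((isHomogeneous_monomial (p.coeff e) (n := e.degree) rfl).aeval
    (fun θ : Idx d n => ((genB K lo w).submatrix θ.1 id).det) h1).degree_eq_sum_deg_support
    (mem_support_iff.2 he) |>.symm

theorem irreducible_mk_self (hd : 0 < d) (τ : Idx d n) :
    Irreducible (Ideal.Quotient.mk (idealOn K {φ : Idx d n | φ ≤ τ}) (X τ)) := by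
  classical
  have hw : τ ∈ band (fun _ => 0) τ := ⟨le_rfl, fun _ => Nat.zero_le _⟩
  have hker : ∀ p, Ideal.Quotient.mk (idealOn K {φ : Idx d n | φ ≤ τ}) p = 0 ↔ psi K (fun _ => 0) τ p = 0 := by
    intro p
    rw [Ideal.Quotient.eq_zero_iff_mem, ← band_zero, ← ker_psi hd monotone_const hw]
    rfl
  have htot : ∀ p : PlRing K d n, d ∣ (psi K (fun _ => 0) τ p).totalDegree := by
    intro p
    rcases (psi K (fun _ => 0) τ p).support.eq_empty_or_nonempty with h | h
    · rw [totalDegree, h, Finset.sup_empty]; exact dvd_zero _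
    · obtain ⟨m, hm, hm'⟩ := Finset.exists_mem_eq_sup _ h fun m : Fin n × Fin d →₀ ℕ => m.sum fun _ e => e
      obtain ⟨e, he⟩ := degree_of_coeff_psi _ τ p (mem_support_iff.1 hm)
      rw [totalDegree, hm']
      exact ⟨e.degree, by rw [← he]; rfl⟩
  refine ⟨fun hu => ?_, fun {a b} hab => ?_⟩
  · obtain ⟨x, hx⟩ := hu.exists_left_inv
    obtain ⟨x, rfl⟩ := Ideal.Quotient.mk_surjective x
    rw [← map_mul, ← sub_eq_zero, ← map_one (Ideal.Quotient.mk (idealOn K {φ : Idx d n | φ ≤ τ})), ← map_sub, hker, map_sub, map_mul, map_one, sub_eq_zero] at hx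
    have h := congrArg totalDegree hx
    rw [totalDegree_one, totalDegree_mul_of_isDomain (fun h0 => one_ne_zero (by rw [← hx, h0, zero_mul]))
      (psi_X_ne_zero hw)] at h
    have := (isHomogeneous_psi_X (K := K) (fun _ => 0) τ τ).totalDegree (psi_X_ne_zero hw)
    omega
  · obtain ⟨a, rfl⟩ := Ideal.Quotient.mk_surjective a
    obtain ⟨b, rfl⟩ := Ideal.Quotient.mk_surjective b
    rw [← map_mul, ← sub_eq_zero, ← map_sub, hker, map_sub, map_mul, sub_eq_zero] at hab
    have hX := psi_X_ne_zero (K := K) hw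
    rw [hab] at hX
    have h := congrArg totalDegree hab
    rw [totalDegree_mul_of_isDomain (left_ne_zero_of_mul hX) (right_ne_zero_of_mul hX)] at h
    have hle : (psi K (fun _ => 0) τ (X τ)).totalDegree ≤ d :=
      (isHomogeneous_psi_X _ _ _).totalDegree_le
    obtain ⟨x, hx⟩ := htot a
    obtain ⟨y, hy⟩ := htot b
    have hxy : x = 0 ∨ y = 0 := by
      by_contra hc
      push Not at hc
      have : d * 2 ≤ d * (x + y) := Nat.mul_le_mul_left d (by omega)
      rw [mul_add] at this
      omega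
    have unit : ∀ p : PlRing K d n, psi K (fun _ => 0) τ p ≠ 0 → (psi K (fun _ => 0) τ p).totalDegree = 0 →
        IsUnit (Ideal.Quotient.mk (idealOn K {φ : Idx d n | φ ≤ τ}) p) := by
      intro p hp0 hp
      rw [totalDegree_eq_zero_iff_eq_C] at hp
      set c := coeff 0 (psi K (fun _ => 0) τ p)
      have hc : c ≠ 0 := fun h0 => hp0 (by rw [hp, h0, map_zero])
      have : Ideal.Quotient.mk (idealOn K {φ : Idx d n | φ ≤ τ}) p =
          Ideal.Quotient.mk (idealOn K {φ : Idx d n | φ ≤ τ}) (C c) := by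
        rw [← sub_eq_zero, ← map_sub, hker, map_sub, hp]
        simp
      rw [this]
      exact ((isUnit_iff_ne_zero.2 hc).map C).map _
    rcases hxy with rfl | rfl
    · exact .inl (unit a (left_ne_zero_of_mul hX) (by simpa using hx))
    · exact .inr (unit b (right_ne_zero_of_mul hX) (by simpa using hy))

theorem ufd_iff_prime (hd : 0 < d) (τ : Idx d n) :
    UniqueFactorizationMonoid (PlRing K d n ⧸ idealOn K {φ : Idx d n | φ ≤ τ}) ↔
      Prime (Ideal.Quotient.mk (idealOn K {φ : Idx d n | φ ≤ τ}) (X τ)) :=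
  ⟨fun _ => (irreducible_mk_self hd τ).prime, ufd_schubert hd τ⟩

end Groth.Agent.SMT
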