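import Groth.Agent.SMT.Diag

/-! Shape of the straightening relation of a skew pair. -/

noncomputable section

namespace Groth.Agent.SMT

open MvPolynomial W4bk4grassmannian

universe u

attribute [-simp] Fin.val_fin_le Fin.val_fin_lt

variable {d n : ℕ} {K : Type u} [CommRing K]

/-- The exponent of a pair. -/
abbrev pairExp (a b : Idx d n) : Idx d n →₀ ℕ := Finsupp.single a 1 + Finsupp.single b 1

theorem X_mul_X (a b : Idx d n) : (X a * X b : PlRing K d n) = monomial (pairExp a b) 1 := by
  simp [X, monomial_mul]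

theorem pair_support {a b : Idx d n} {c : Idx d n} (hc : c ∈ (pairExp a b).support) : c = a ∨ c = b := by
  classical
  rcases Finset.mem_union.1 (Finsupp.support_add hc) with h | h
  · exact .inl (Finset.mem_singleton.1 (Finsupp.support_single_subset h))
  · exact .inr (Finset.mem_singleton.1 (Finsupp.support_single_subset h))

theorem left_mem_pair (a b : Idx d n) : a ∈ (pairExp a b).support := by
  classical
  rw [Finsupp.mem_support_iff, Finsupp.add_apply, Finsupp.single_eq_same]; omega

theorem isStd_pair {a b : Idx d n} (h : b ≤ a) : IsStd (pairExp a b) := by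
  intro x hx y hy _
  rcases pair_support hx with rfl | rfl <;> rcases pair_support hy with rfl | rfl
  exacts [.inl le_rfl, .inr h, .inl h, .inl le_rfl]

theorem pair_inj {a b a' b' : Idx d n} (h : b ≤ a) (h' : b' ≤ a') (e : pairExp a b = pairExp a' b') :
    a = a' ∧ b = b' := by
  have h1 : a ≤ a' := (pair_support (e ▸ left_mem_pair a b : a ∈ (pairExp a' b').support)).elim le_of_eq
    fun h2 => h2.le.trans h'
  have h2 : a' ≤ a := (pair_support (e.symm ▸ left_mem_pair a' b' : a' ∈ (pairExp a b).support)).elim le_of_eq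
    fun h3 => h3.le.trans h
  obtain rfl := le_antisymm h1 h2
  exact ⟨rfl, Finsupp.single_left_injective one_ne_zero (add_left_cancel e)⟩

theorem straighten_pair [IsDomain K] [Infinite K] (hd : 0 < d) (hdn : d ≤ n) {τ φ : Idx d n} (h₁ : ¬ τ ≤ φ)
    (h₂ : ¬ φ ≤ τ) :
    ∃ g ∈ Submodule.span K {f : PlRing K d n | ∃ α β : Idx d n, β ≤ α ∧ sup τ φ < α ∧ β < inf τ φ ∧ f = X α * X β},
      X τ * X φ - X (sup τ φ) * X (inf τ φ) - g ∈ plIdealTop K := by
  classical
  set top := topIdx (d := d) (n := n) hdn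
  have hband : ∀ θ : Idx d n, θ ∈ band (fun _ => 0) top := fun θ => ⟨le_topIdx hdn θ, fun _ => Nat.zero_le _⟩
  have key : ∀ i j : Idx d n, ¬ j ≤ i → ∃ q ∈ restrictSupport K {e | ∃ α β, i < α ∧ β < j ∧ β ≤ α ∧
      rowSum α + rowSum β = rowSum i + rowSum j ∧ e = pairExp α β}, X i * X j - q ∈ plIdealTop K := by
    intro i j hji
    have h := pair_mem_std (K := K) i j hji
    rw [Submodule.mem_sup] at h
    obtain ⟨y, hy, z, hz, hyz⟩ := h
    refine ⟨z, ?_, by rw [← hyz, add_sub_cancel_right]; exact hy⟩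
    refine SetLike.le_def.1 (Submodule.span_le.2 ?_) hz
    rintro _ ⟨α, β, a1, a2, a3, a4, rfl⟩
    rw [X_mul_X]
    exact (monomial_mem_restrictSupport K).2 (.inl ⟨α, β, a1, a2, a3, a4, rfl⟩)
  obtain ⟨q, hq, hqJ⟩ := key τ φ h₂
  obtain ⟨q', hq', hq'J⟩ := key φ τ h₁
  have hstd : ∀ {i j : Idx d n} {r : PlRing K d n}, r ∈ restrictSupport K {e | ∃ α β, i < α ∧ β < j ∧ β ≤ α ∧
      rowSum α + rowSum β = rowSum i + rowSum j ∧ e = pairExp α β} →
      r ∈ restrictSupport K (stdIn (band (fun _ => 0) top)) := fun hr =>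
    restrictSupport_mono K (fun e he => by
      obtain ⟨α, β, -, -, a3, -, rfl⟩ := he
      exact ⟨isStd_pair a3, fun θ _ => hband θ⟩) hr
  have hband_univ : band (fun _ => 0) top = (Set.univ : Set (Idx d n)) := Set.eq_univ_of_forall hband
  have hqq : q = q' := by
    refine sub_eq_zero.1 (eq_zero_of_std hd monotone_const (hband top) (sub_mem (hstd hq) (hstd hq')) ?_)
    rw [show q - q' = (X φ * X τ - q') - (X τ * X φ - q) by ring]
    exact Ideal.mem_sup_left (sub_mem hq'J hqJ)
  set s := sup τ φ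
  set t := inf τ φ
  have hts : t ≤ s := (inf_le_left τ φ).trans (le_sup_left τ φ)
  have hr : q - X s * X t ∈ restrictSupport K (stdIn (band (fun _ => 0) top)) := by
    refine sub_mem (hstd hq) ?_
    rw [X_mul_X]
    exact (monomial_mem_restrictSupport K).2 (.inl ⟨isStd_pair hts, fun θ _ => hband θ⟩)
  have hlt := weight_lt_of_pair hd (hband τ) (hband φ) hr (by
    rw [map_sub, map_sub, sub_left_inj, ← sub_eq_zero, ← map_sub, ← neg_eq_zero, ← map_neg, neg_sub]
    exact psi_plIdealTop _ _ hqJ)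
  have hst : coeff (pairExp s t) (q - X s * X t) = 0 := by
    by_contra hc
    refine (hlt _ (mem_support_iff.2 hc)).ne ?_
    rw [← diagW_sup_add_inf, map_add, Finsupp.weight_apply, Finsupp.weight_apply,
      Finsupp.sum_single_index (by simp), Finsupp.sum_single_index (by simp), one_smul, one_smul]
  refine ⟨q - X s * X t, ?_, by rw [sub_sub, add_sub_cancel]; exact hqJ⟩
  rw [MvPolynomial.as_sum (q - X s * X t)]
  refine sum_mem fun e he => ?_
  rw [← mul_one (coeff e _), ← smul_eq_mul, ← smul_monomial]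
  refine Submodule.smul_mem _ _ ?_
  have hne : e ≠ pairExp s t := fun h => mem_support_iff.1 he (h ▸ hst)
  have hqe : e ∈ q.support := by
    rw [mem_support_iff] at he ⊢
    rwa [coeff_sub, X_mul_X, coeff_monomial, if_neg (Ne.symm hne), sub_zero] at he
  obtain ⟨α, β, a1, a2, a3, a4, rfl⟩ := hq (Finset.mem_coe.2 hqe)
  obtain ⟨α', β', b1, b2, b3, b4, e'⟩ := hq' (Finset.mem_coe.2 (hqq ▸ hqe))
  obtain ⟨rfl, rfl⟩ := pair_inj a3 b3 e'
  have hα : s ≤ α := sup_le a1.le b1.le
  have hβ : β ≤ t := le_inf b2.le a2.le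
  have hsum : rowSum s + rowSum t = rowSum τ + rowSum φ := rowSum_sup_add_inf τ φ
  have hαs : s < α := lt_of_le_of_ne hα fun h => hne <| by
    subst h
    have : β = t := eq_of_le_of_rowSum hβ (by show rowSum t ≤ rowSum β; omega)
    rw [this]
  have hβt : β < t := lt_of_le_of_ne hβ fun h => by
    have := rowSum_lt hαs
    rw [h] at a4; omega
  exact Submodule.subset_span ⟨α, β, a3, hαs, hβt, (X_mul_X α β).symm⟩

end Groth.Agent.SMT
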