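import Groth.Agent.SMT.Schubert

/-! First fundamental theorem for `SL_d`. -/

noncomputable section

namespace Groth.Agent.SMT

open MvPolynomial W4bk4grassmannian

universe u

variable {d n : ℕ} {K : Type u} [Field K]

/-- The generic matrix. -/
def genA (K : Type u) [CommRing K] (d n : ℕ) : Matrix (Fin n) (Fin d) (MatRing K d n) :=
  Matrix.of fun i t => X (i, t)

theorem minor_mem_range (a : Fin d → Fin n) : ((genA K d n).submatrix a id).det ∈ (pluckerMap K d n).range :=
  ⟨coord K d n a, by
    show pluckerMap K d n (coord K d n a) = _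
    rw [pluckerMap_eq, plk_coord]; rfl⟩

theorem mem_range_of_X_mul (hd : 0 < d) (hdn : d < n) {g : MatRing K d n}
    (h : pluckerMap K d n (X (topIdx hdn.le)) * g ∈ (pluckerMap K d n).range) : g ∈ (pluckerMap K d n).range := by
  classical
  set top := topIdx (d := d) (n := n) hdn.le
  obtain ⟨p', hp'⟩ := h
  obtain ⟨p, hp, hpp⟩ := exists_std_sub_mem (Set.univ : Set (Idx d n)) p'
  have hPp : pluckerMap K d n p = pluckerMap K d n (X top) * g := by
    have : pluckerMap K d n (p' - p) = 0 := by
      have hp0 : p' - p ∈ plIdealTop K := by simpa [idealOn] using hpp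
      suffices plIdealTop K ≤ RingHom.ker (pluckerMap K d n).toRingHom from this hp0
      rw [plIdealTop, Ideal.span_le]
      rintro _ ⟨i, j, r, -, rfl⟩
      show pluckerMap K d n (shuffleRel K i j r) = 0
      rw [pluckerMap_eq]
      exact plk_shuffleRel _ i j r
    rw [map_sub, sub_eq_zero] at this
    rw [← this]; exact hp'
  set p1 : PlRing K d n := ∑ e ∈ p.support.filter (fun e => top ∈ e.support), monomial (e - Finsupp.single top 1) (p.coeff e)
  set p0 : PlRing K d n := ∑ e ∈ p.support.filter (fun e => top ∉ e.support), monomial e (p.coeff e)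
  have hsplit : p = X top * p1 + p0 := by
    conv_lhs => rw [p.as_sum, ← Finset.sum_filter_add_sum_filter_not p.support (fun e => top ∈ e.support)]
    rw [Finset.mul_sum]
    congr 1
    refine Finset.sum_congr rfl fun e he => ?_
    rw [X, monomial_mul, one_mul, add_tsub_cancel_of_le
      (Finsupp.single_le_iff.2 (Nat.one_le_iff_ne_zero.2 (Finsupp.mem_support_iff.1 (Finset.mem_filter.1 he).2)))]
  have hlt : botIdx hdn.le < top := by
    refine lt_of_le_of_ne (botIdx_le _ _) fun e => ?_
    have := congrArg (fun θ : Idx d n => (θ.1 ⟨0, hd⟩).val) e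
    simp only [top, botIdx, topIdx] at this
    omega
  obtain ⟨ψ₀, hψ₀, -⟩ := exists_divisor hlt
  haveI : Nonempty (divisors top) := ⟨⟨ψ₀, hψ₀⟩⟩
  have hp0 : p0 = 0 := by
    refine indep_union hd monotone_const (fun φ : divisors top => φ.1) (fun _ => ⟨le_rfl, fun _ => Nat.zero_le _⟩) p0 ?_ fun φ => ?_
    · rw [show (⋃ φ : divisors top, band (fun _ => 0) φ.1) = {θ | θ < top} by simp only [band_zero]; exact iUnion_divisors]
      refine sum_mem fun e he => (monomial_mem_restrictSupport K).2 (.inl ?_)
      obtain ⟨he1, he2⟩ := Finset.mem_filter.1 he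
      refine ⟨(hp (Finset.mem_coe.2 he1)).1, fun θ hθ => ?_⟩
      exact lt_of_le_of_ne (le_topIdx hdn.le θ) fun e' => he2 (by subst e'; exact hθ)
    · have h0 : psi K (fun _ => 0) φ.1 (X top) = 0 :=
        psi_X_eq_zero monotone_const (by rw [band_zero]; exact φ.2.1.not_ge)
      have h1 : psi K (fun _ => 0) φ.1 p = 0 := by
        rw [← restr_comp_pluckerMap, AlgHom.comp_apply, hPp, map_mul, ← AlgHom.comp_apply, restr_comp_pluckerMap, h0, zero_mul]
      rwa [hsplit, map_add, map_mul, h0, zero_mul, zero_add] at h1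
  have hP0 : pluckerMap K d n (X top) ≠ 0 := by
    intro h0
    have := psi_X_ne_zero (K := K) (lo := fun _ => 0) (w := top) (θ := top) ⟨le_rfl, fun _ => Nat.zero_le _⟩
    rw [← restr_comp_pluckerMap, AlgHom.comp_apply, h0, map_zero] at this
    exact this rfl
  refine ⟨p1, mul_left_cancel₀ hP0 ?_⟩
  rw [← hPp, hsplit, hp0, add_zero, map_mul]
  rfl

theorem invariant_mem_range [Infinite K] (hd : 0 < d) (hdn : d < n) (f : MatRing K d n)
    (hf : ∀ g : Matrix.SpecialLinearGroup (Fin d) K, rightTranslate K d n g f = f) :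
    f ∈ (pluckerMap K d n).range := by
  classical
  set top := topIdx (d := d) (n := n) hdn.le
  set P := ((genA K d n).submatrix top.1 id).det
  set N := genA K d n * ((genA K d n).submatrix top.1 id).adjugate
  have hN : ∀ i t, N i t ∈ (pluckerMap K d n).range := fun i t => by
    simp only [N]; rw [mul_adjugate_apply]; exact minor_mem_range _
  set k := f.totalDegree
  let m : (Fin n × Fin d →₀ ℕ) → ℕ := fun e => ∑ p ∈ e.support.filter (fun p => p.2.val ≠ 0), e p
  set F : MatRing K d n := ∑ e ∈ f.support, C (f.coeff e) * (∏ p ∈ e.support, N p.1 p.2 ^ e p) * P ^ (k - m e)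
  have hF : F ∈ (pluckerMap K d n).range :=
    sum_mem fun e _ => mul_mem (mul_mem ⟨C (f.coeff e), by simp [pluckerMap]⟩
      (prod_mem fun p _ => pow_mem (hN _ _) _)) (pow_mem (minor_mem_range _) _)
  have hpt : P * (P ^ k * f - F) = 0 := by
    refine MvPolynomial.funext fun b => ?_
    rw [map_zero, map_mul]
    set c := eval b P with hcdef
    rcases eq_or_ne c 0 with hc | hc
    · rw [hc, zero_mul]
    set A : Matrix (Fin n) (Fin d) K := Matrix.of fun i t => b (i, t)
    have hAtop : (A.submatrix top.1 id).det = c := by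
      rw [hcdef, show P = ((genA K d n).submatrix top.1 id).det from rfl, RingHom.map_det]
      congr 1
      ext i t
      simp [A, genA]
    have hNev : ∀ i t, eval b (N i t) = (A * (A.submatrix top.1 id).adjugate) i t := by
      intro i t
      simp only [N]; rw [mul_adjugate_apply, mul_adjugate_apply, RingHom.map_det]
      congr 1
      ext s u
      simp [A, genA]
    let D : Matrix (Fin d) (Fin d) K := Matrix.diagonal fun u => if u.val = 0 then 1 else c⁻¹
    have hdet : ((A.submatrix top.1 id).adjugate * D).det = 1 := by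
      rw [Matrix.det_mul, Matrix.det_adjugate, hAtop, Fintype.card_fin, Matrix.det_diagonal,
        ← Finset.mul_prod_erase _ _ (Finset.mem_univ (⟨0, hd⟩ : Fin d)), if_pos rfl, one_mul,
        Finset.prod_congr rfl (g := fun _ => c⁻¹) (fun u hu => if_neg fun h => Finset.ne_of_mem_erase hu (Fin.ext h)),
        Finset.prod_const, Finset.card_erase_of_mem (Finset.mem_univ _), Finset.card_univ, Fintype.card_fin,
        inv_pow, mul_inv_cancel₀ (pow_ne_zero _ hc)]
    have hinv : eval b f = eval (fun p => eval b (N p.1 p.2) * if p.2.val = 0 then 1 else c⁻¹) f := by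
      conv_lhs => rw [← hf ⟨_, hdet⟩]
      rw [rightTranslate, ← aeval_eq_eval, ← AlgHom.comp_apply, comp_aeval, ← aeval_eq_eval]
      show aeval _ f = aeval _ f
      congr 2
      funext p
      rw [map_sum, show aeval b (N p.1 p.2) = _ from (congrFun (congrArg DFunLike.coe (rfl : aeval b = aeval b)) _).trans (hNev _ _)]
      simp only [map_mul, aeval_X, aeval_C, Algebra.algebraMap_self, RingHom.id_apply]
      rw [← Matrix.mul_diagonal (d := fun u : Fin d => if u.val = 0 then (1 : K) else c⁻¹), Matrix.mul_assoc, Matrix.mul_apply]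
      rfl
    rw [map_sub, map_mul, map_pow, ← hcdef, hinv, eval_eq, map_sum, Finset.mul_sum, ← Finset.sum_sub_distrib,
      Finset.sum_eq_zero, mul_zero]
    intro e he
    rw [map_mul, map_mul, map_prod, map_pow, eval_C, ← hcdef, sub_eq_zero]
    simp only [map_pow, mul_pow]
    rw [Finset.prod_mul_distrib]
    have hprod : ∏ p ∈ e.support, (if p.2.val = 0 then (1 : K) else c⁻¹) ^ e p = c⁻¹ ^ m e := by
      rw [← Finset.prod_pow_eq_pow_sum, Finset.prod_filter]
      refine Finset.prod_congr rfl fun p _ => ?_
      split_ifs <;> simp_all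
    have hme : m e ≤ k := (Finset.sum_le_sum_of_subset (Finset.filter_subset _ _)).trans (le_totalDegree he)
    rw [hprod, inv_pow, pow_sub₀ _ hc hme]
    ring
  have hP0 : P ≠ 0 := by
    intro h0
    have := psi_X_ne_zero (K := K) (lo := fun _ => 0) (w := top) (θ := top) ⟨le_rfl, fun _ => Nat.zero_le _⟩
    rw [← restr_comp_pluckerMap, AlgHom.comp_apply, pluckerMap_eq, plk_X] at this
    exact this (by rw [show ((Matrix.of fun i t => (X (i, t) : MatRing K d n)).submatrix top.1 id).det = 0 from h0, map_zero])
  have hPk : P ^ k * f = F := sub_eq_zero.1 ((mul_eq_zero.1 hpt).resolve_left hP0)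
  have hPX : pluckerMap K d n (X top) = P := by rw [pluckerMap_eq, plk_X]; rfl
  suffices ∀ j g, P ^ j * g ∈ (pluckerMap K d n).range → g ∈ (pluckerMap K d n).range from this k f (hPk ▸ hF)
  intro j
  induction j with
  | zero => intro g hg; simpa using hg
  | succ j ih =>
    intro g hg
    refine mem_range_of_X_mul hd hdn (ih _ ?_)
    rwa [hPX, ← mul_assoc, ← pow_succ]

theorem adjoin_minors_eq_range :
    Algebra.adjoin K (Set.range fun θ : Idx d n => minor K d n θ.1) = (pluckerMap K d n).range := by
  rw [Algebra.adjoin_range_eq_range_aeval]; rfl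

theorem range_invariant (f : MatRing K d n) (hf : f ∈ (pluckerMap K d n).range)
    (g : Matrix.SpecialLinearGroup (Fin d) K) : rightTranslate K d n g f = f := by
  obtain ⟨p, rfl⟩ := hf
  show rightTranslate K d n g (pluckerMap K d n p) = pluckerMap K d n p
  rw [← AlgHom.comp_apply]
  congr 1
  refine MvPolynomial.algHom_ext fun θ => ?_
  rw [AlgHom.comp_apply, pluckerMap_eq, plk_X, AlgHom.map_det]
  have : (rightTranslate K d n g).mapMatrix ((Matrix.of fun i t => (X (i, t) : MatRing K d n)).submatrix θ.1 id) =
      (Matrix.of fun i t => (X (i, t) : MatRing K d n)).submatrix θ.1 id *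
        (g : Matrix (Fin d) (Fin d) K).map C := by
    ext s u : 1
    simp [rightTranslate, Matrix.mul_apply]
  rw [this, Matrix.det_mul, ← RingHom.mapMatrix_apply, ← RingHom.map_det, g.2, map_one, mul_one]

end Groth.Agent.SMT
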