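import Groth.Agent.SMT.CellIdeal

/-! Bitableaux. -/

noncomputable section

namespace Groth.Agent.SMT

open MvPolynomial W4bk4grassmannian

universe u

attribute [-simp] Fin.val_fin_le Fin.val_fin_lt

/-! ### counting functions -/

/-- The number of values below `c`. -/
def cnt {k N : ℕ} (f : Fin k → Fin N) (c : ℕ) : ℕ := (Finset.univ.filter fun j => (f j).val < c).card

theorem cnt_of_ge {k N : ℕ} (f : Fin k → Fin N) {c : ℕ} (hc : N ≤ c) : cnt f c = k := by
  rw [cnt, Finset.filter_true_of_mem fun j _ => (f j).isLt.trans_le hc, Finset.card_univ, Fintype.card_fin]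

theorem cnt_le {k N : ℕ} (f : Fin k → Fin N) (c : ℕ) : cnt f c ≤ k :=
  (Finset.card_le_univ _).trans (by simp)

theorem cnt_le_iff {k k' N : ℕ} {f : Fin k → Fin N} {g : Fin k' → Fin N} (hf : StrictMono f) (hg : StrictMono g) :
    (k ≤ k' ∧ ∀ (j : Fin k) (j' : Fin k'), j.val = j'.val → g j' ≤ f j) ↔ ∀ c, cnt f c ≤ cnt g c := by
  constructor
  · rintro ⟨hk, h⟩ c
    calc cnt f c = ((Finset.univ.filter fun j => (f j).val < c).image (Fin.castLE hk)).card :=
          (Finset.card_image_of_injective _ (Fin.castLE_injective hk)).symm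
      _ ≤ cnt g c := Finset.card_le_card fun x hx => by
          obtain ⟨j, hj, rfl⟩ := Finset.mem_image.1 hx
          refine Finset.mem_filter.2 ⟨Finset.mem_univ _, ?_⟩
          exact lt_of_le_of_lt (Fin.le_def.1 (h j _ rfl)) (Finset.mem_filter.1 hj).2
  · intro h
    have hk : k ≤ k' := by
      have := h N
      rwa [cnt_of_ge _ le_rfl, cnt_of_ge _ le_rfl] at this
    refine ⟨hk, fun j j' hjj => ?_⟩
    by_contra hc
    have h1 : j.val + 1 ≤ cnt f ((f j).val + 1) := by
      refine le_trans (le_of_eq (Fin.card_Iic j).symm) (Finset.card_le_card fun x hx => ?_)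
      exact Finset.mem_filter.2 ⟨Finset.mem_univ _, Nat.lt_succ_of_le (Fin.le_def.1 (hf.monotone (Finset.mem_Iic.1 hx)))⟩
    have h2 : cnt g ((f j).val + 1) ≤ j'.val := by
      refine le_trans (Finset.card_le_card fun x hx => ?_) (le_of_eq (Fin.card_Iio j'))
      rw [Finset.mem_Iio]
      by_contra hle
      have := Fin.le_def.1 (hg.monotone (not_lt.1 hle))
      have h3 := (Finset.mem_filter.1 hx).2
      have h4 : (f j).val < (g j').val := Fin.lt_def.1 (not_le.1 hc)
      omega
    have := h ((f j).val + 1)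
    omega

/-- The reversed tuple. -/
def revTuple {k m : ℕ} (A : Fin k → Fin m) : Fin k → Fin m := fun p => Fin.rev (A (Fin.rev p))

theorem revTuple_strictMono {k m : ℕ} {A : Fin k → Fin m} (hA : StrictMono A) : StrictMono (revTuple A) :=
  fun _ _ h => Fin.rev_lt_rev.2 (hA (Fin.rev_lt_rev.2 h))

theorem revTuple_revTuple {k m : ℕ} (A : Fin k → Fin m) : revTuple (revTuple A) = A := by
  funext p; simp [revTuple]

theorem cnt_revTuple {k m : ℕ} (A : Fin k → Fin m) (c : ℕ) : cnt (revTuple A) c + cnt A (m - c) = k := by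
  classical
  have h1 : cnt (revTuple A) c = (Finset.univ.filter fun p => ¬ (A p).val < m - c).card := by
    refine Finset.card_bij' (fun p _ => Fin.rev p) (fun p _ => Fin.rev p) ?_ ?_ ?_ ?_
    · intro p hp
      simp only [Finset.mem_filter, Finset.mem_univ, true_and, revTuple, Fin.val_rev] at hp ⊢
      have := (A (Fin.rev p)).isLt
      omega
    · intro p hp
      simp only [Finset.mem_filter, Finset.mem_univ, true_and, revTuple, Fin.val_rev, Fin.rev_rev] at hp ⊢
      have := (A p).isLt
      omega
    · intros; simp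
    · intros; simp
  rw [h1, cnt, add_comm, Finset.card_filter_add_card_filter_not, Finset.card_univ, Fintype.card_fin]

variable {m n : ℕ}

theorem idx_le_iff_cnt (θ θ' : Idx n (n + m)) : θ ≤ θ' ↔ ∀ c, cnt θ'.1 c ≤ cnt θ.1 c := by
  rw [← cnt_le_iff θ'.2 θ.2]
  exact ⟨fun h => ⟨le_rfl, fun j j' e => by rw [Fin.ext e]; exact h j'⟩, fun h j => h.2 j j rfl⟩

theorem repl_injective {k : ℕ} {S : Fin k → Fin n} (hS : Function.Injective S) {B : Fin k → Fin m}
    (hB : Function.Injective B) : Function.Injective (repl S B) := by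
  intro a b hab
  by_cases ha : ∀ p, S p ≠ a <;> by_cases hb : ∀ p, S p ≠ b
  · rw [repl_apply' B ha, repl_apply' B hb] at hab; exact Fin.castAdd_injective _ _ hab
  · push Not at hb
    obtain ⟨q, rfl⟩ := hb
    rw [repl_apply' B ha, repl_apply hS] at hab
    have := congrArg Fin.val hab
    simp at this; omega
  · push Not at ha
    obtain ⟨p, rfl⟩ := ha
    rw [repl_apply' B hb, repl_apply hS] at hab
    have := congrArg Fin.val hab
    simp at this; omega
  · push Not at ha hb
    obtain ⟨p, rfl⟩ := ha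
    obtain ⟨q, rfl⟩ := hb
    rw [repl_apply hS, repl_apply hS] at hab
    rw [hB (Fin.natAdd_injective m n hab)]

/-- The index of a minor. -/
def mIdx (M : MinorIdx m n) : Idx n (n + m) :=
  sortIdx n (n + m) (repl M.2.2.1 (revTuple M.2.1.1))
    (card_image_iff.2 (repl_injective M.2.2.2.injective (revTuple_strictMono M.2.1.2).injective))

theorem cnt_mIdx (M : MinorIdx m n) (c : ℕ) :
    cnt (mIdx M).1 c + cnt M.2.2.1 c = min c n + cnt (revTuple M.2.1.1) (c - n) := by
  classical
  set S := M.2.2.1
  set B := revTuple M.2.1.1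
  have hS : Function.Injective S := M.2.2.2.injective
  have hinj := repl_injective hS (revTuple_strictMono M.2.1.2).injective
  have h1 : cnt (mIdx M).1 c = (Finset.univ.filter fun t => (repl S B t).val < c).card := by
    rw [cnt, ← Finset.card_image_of_injective _ (mIdx M).2.injective,
      ← Finset.filter_image (p := fun x : Fin (n + m) => x.val < c), mIdx, image_sortIdx, Finset.filter_image,
      Finset.card_image_of_injective _ hinj]
  have h2 : (Finset.univ.filter fun t => (repl S B t).val < c) =
      ((Finset.univ.filter fun t : Fin n => t.val < c) \ Finset.univ.image S) ∪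
        (Finset.univ.filter fun p => (B p).val + n < c).image S := by
    ext t
    simp only [Finset.mem_filter, Finset.mem_univ, true_and, Finset.mem_union, Finset.mem_sdiff, Finset.mem_image]
    by_cases ht : ∀ p, S p ≠ t
    · rw [repl_apply' B ht]
      simp only [Fin.val_castAdd]
      exact ⟨fun h => .inl ⟨h, fun ⟨p, hp⟩ => ht p hp⟩, fun h => h.elim And.left fun ⟨p, _, hp⟩ => absurd hp (ht p)⟩
    · push Not at ht
      obtain ⟨p, rfl⟩ := ht
      rw [repl_apply hS]
      simp only [Fin.val_natAdd]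
      exact ⟨fun h => .inr ⟨p, by omega, rfl⟩, fun h => h.elim (fun h => absurd ⟨p, rfl⟩ h.2)
        fun ⟨p', hp', e⟩ => by rw [← hS e]; omega⟩
  have h3 : (Finset.univ.filter fun p => (B p).val + n < c).card = cnt B (c - n) := by
    rw [cnt]; congr 1; ext p; simp; omega
  have h4 : ((Finset.univ.filter fun t : Fin n => t.val < c) \ Finset.univ.image S).card + cnt S c = min c n := by
    have e1 : cnt S c = ((Finset.univ.filter fun t : Fin n => t.val < c) ∩ Finset.univ.image S).card := by
      rw [cnt, ← Finset.card_image_of_injective _ hS]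
      congr 1
      ext t
      simp only [Finset.mem_image, Finset.mem_filter, Finset.mem_univ, true_and, Finset.mem_inter]
      exact ⟨fun ⟨p, hp, e⟩ => ⟨e ▸ hp, p, e⟩, fun ⟨h, p, e⟩ => ⟨p, e ▸ h, e⟩⟩
    rw [e1, Finset.card_sdiff_add_card_inter]
    calc (Finset.univ.filter fun t : Fin n => t.val < c).card
        = ((Finset.univ.filter fun t : Fin n => t.val < c).image Fin.val).card :=
          (Finset.card_image_of_injective _ Fin.val_injective).symm
      _ = (Finset.range (min c n)).card := by
          congr 1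
          ext x
          simp only [Finset.mem_image, Finset.mem_filter, Finset.mem_univ, true_and, Finset.mem_range, lt_min_iff]
          exact ⟨fun ⟨t, ht, e⟩ => e ▸ ⟨ht, t.isLt⟩, fun ⟨h, h'⟩ => ⟨⟨x, h'⟩, h, rfl⟩⟩
      _ = min c n := Finset.card_range _
  rw [h1, h2, Finset.card_union_of_disjoint, Finset.card_image_of_injective _ hS, h3]
  · omega
  · rw [Finset.disjoint_left]
    rintro t ht1 ht2
    obtain ⟨p, -, rfl⟩ := Finset.mem_image.1 ht2
    exact (Finset.mem_sdiff.1 ht1).2 (Finset.mem_image_of_mem _ (Finset.mem_univ p))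

theorem minorGE_iff (M M' : MinorIdx m n) : MinorGE M M' ↔ mIdx M ≤ mIdx M' := by
  have hsplit : MinorGE M M' ↔ (M.1 + 1 ≤ M'.1 + 1 ∧
      ∀ (j : Fin (M.1 + 1)) (j' : Fin (M'.1 + 1)), j.val = j'.val → M'.2.1.1 j' ≤ M.2.1.1 j) ∧
      (M.1 + 1 ≤ M'.1 + 1 ∧
      ∀ (j : Fin (M.1 + 1)) (j' : Fin (M'.1 + 1)), j.val = j'.val → M'.2.2.1 j' ≤ M.2.2.1 j) :=
    ⟨fun h => ⟨⟨Nat.succ_le_succ h.1, fun j j' e => (h.2 j j' e).1⟩, ⟨Nat.succ_le_succ h.1, fun j j' e => (h.2 j j' e).2⟩⟩,
      fun h => ⟨Nat.le_of_succ_le_succ h.1.1, fun j j' e => ⟨h.1.2 j j' e, h.2.2 j j' e⟩⟩⟩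
  rw [hsplit, cnt_le_iff M.2.1.2 M'.2.1.2, cnt_le_iff M.2.2.2 M'.2.2.2, idx_le_iff_cnt]
  constructor
  · rintro ⟨hA, hB⟩ c
    have := cnt_mIdx M c
    have := cnt_mIdx M' c
    have := cnt_revTuple M.2.1.1 (c - n)
    have := cnt_revTuple M'.2.1.1 (c - n)
    have := hA (m - (c - n))
    have := hB c
    rcases le_total c n with h | h
    · have := cnt_le (revTuple M.2.1.1) (c - n)
      have hz : c - n = 0 := by omega
      have h0 : ∀ {k} (f : Fin k → Fin m), cnt f 0 = 0 := fun f => by simp [cnt]
      simp only [hz, h0] at *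
      omega
    · have := cnt_of_ge M.2.2.1 h
      have := cnt_of_ge M'.2.2.1 h
      omega
  · intro h
    have hB : ∀ c, cnt M.2.2.1 c ≤ cnt M'.2.2.1 c := by
      intro c
      rcases le_total c n with hc | hc
      · have := h c
        have := cnt_mIdx M c
        have := cnt_mIdx M' c
        have hz : c - n = 0 := by omega
        have h0 : ∀ {k} (f : Fin k → Fin m), cnt f 0 = 0 := fun f => by simp [cnt]
        simp only [hz, h0] at *
        omega
      · have := h n
        have := cnt_mIdx M n
        have := cnt_mIdx M' n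
        have h0 : ∀ {k} (f : Fin k → Fin m), cnt f 0 = 0 := fun f => by simp [cnt]
        rw [cnt_of_ge _ hc, cnt_of_ge _ hc]
        rw [Nat.sub_self, h0, cnt_of_ge M.2.2.1 le_rfl] at *
        rw [cnt_of_ge M'.2.2.1 le_rfl] at *
        omega
    refine ⟨fun e => ?_, hB⟩
    rcases le_total m e with he | he
    · have := hB n
      rw [cnt_of_ge _ le_rfl, cnt_of_ge _ le_rfl] at this
      rw [cnt_of_ge _ he, cnt_of_ge _ he]
      exact this
    · have := h (n + (m - e))
      have h1 := cnt_mIdx M (n + (m - e))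
      have h2 := cnt_mIdx M' (n + (m - e))
      have := cnt_revTuple M.2.1.1 (m - e)
      have := cnt_revTuple M'.2.1.1 (m - e)
      rw [cnt_of_ge _ (Nat.le_add_right _ _), Nat.add_sub_cancel_left] at h1 h2
      rw [show m - (m - e) = e by omega] at *
      omega

theorem botCount_mIdx (M : MinorIdx m n) : botCount (mIdx M) = M.1 + 1 := by
  have h := cnt_mIdx M n
  have h0 : ∀ {k} (f : Fin k → Fin m), cnt f 0 = 0 := fun f => by simp [cnt]
  rw [Nat.sub_self, h0, cnt_of_ge M.2.2.1 le_rfl, min_self] at h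
  have h2 : botCount (mIdx M) + cnt (mIdx M).1 n = n := by
    rw [botCount, cnt]
    have := Finset.card_filter_add_card_filter_not (s := (Finset.univ : Finset (Fin n)))
      (fun s => n ≤ ((mIdx M).1 s).val)
    simp only [not_le, Finset.card_univ, Fintype.card_fin] at this
    exact this
  omega

theorem mIdx_injective : Function.Injective (mIdx (m := m) (n := n)) := by
  intro M M' h
  have h1 := (minorGE_iff M M').2 h.le
  have h2 := (minorGE_iff M' M).2 h.ge
  obtain ⟨s, A, B⟩ := M
  obtain ⟨s', A', B'⟩ := M'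
  have hs : s = s' := le_antisymm h1.1 h2.1
  subst hs
  have e1 : A = A' := Subtype.ext (funext fun j => le_antisymm (h2.2 j j rfl).1 (h1.2 j j rfl).1)
  have e2 : B = B' := Subtype.ext (funext fun j => le_antisymm (h2.2 j j rfl).2 (h1.2 j j rfl).2)
  rw [e1, e2]

theorem exists_mIdx (θ : Idx n (n + m)) (hθ : θ ≠ bot n m) : ∃ M, mIdx M = θ := by
  obtain ⟨k, S, B, hS, hB, hk, h, hs⟩ := exists_repl θ
  rcases k with _ | s
  · exfalso
    refine hθ (hs.symm.trans (sortIdx_eq _ h _ fun t => ?_))
    rw [repl_apply' B (fun p => p.elim0)]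
    exact Finset.mem_image.2 ⟨t, Finset.mem_univ _, Fin.ext rfl⟩
  · refine ⟨⟨s, ⟨revTuple B, revTuple_strictMono hB⟩, ⟨S, hS⟩⟩, ?_⟩
    refine Eq.trans ?_ hs
    simp only [mIdx, revTuple_revTuple]

variable {K : Type u} [Field K]

/-- Reversal of the rows. -/
def revRows (K : Type u) [Field K] (m n : ℕ) : CellRing K n m →ₐ[K] CellRing K n m := rename (Prod.map Fin.rev id)

theorem revRows_revRows (f : CellRing K n m) : revRows K m n (revRows K m n f) = f := by
  rw [revRows, rename_rename]
  have : (Prod.map Fin.rev (id : Fin n → Fin n)) ∘ Prod.map (Fin.rev : Fin m → Fin m) id = id := by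
    funext p; obtain ⟨a, b⟩ := p; simp
  rw [this, rename_id]; rfl

theorem revRows_det {k : ℕ} (B : Fin k → Fin m) (S : Fin k → Fin n) :
    revRows K m n ((genMatrix K m n).submatrix B S).det = ((genMatrix K m n).submatrix (Fin.rev ∘ B) S).det := by
  rw [AlgHom.map_det]
  congr 1
  ext a b : 1
  simp [revRows, genMatrix]

theorem revRows_mem_minorIdeal {t : ℕ} {f : CellRing K n m} (hf : f ∈ CAlgX.minorIdeal (genMatrix K m n) t) :
    revRows K m n f ∈ CAlgX.minorIdeal (genMatrix K m n) t := by
  suffices CAlgX.minorIdeal (genMatrix K m n) t ≤ (CAlgX.minorIdeal (genMatrix K m n) t).comap (revRows K m n) from this hf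
  rw [CAlgX.minorIdeal, Ideal.span_le]
  rintro _ ⟨⟨B, S⟩, rfl⟩
  rw [SetLike.mem_coe, Ideal.mem_comap, revRows_det]
  exact Ideal.subset_span ⟨(_, S), rfl⟩

/-- The reversed cell map. -/
def chiRev (K : Type u) [Field K] (m n : ℕ) : PlRing K n (n + m) →ₐ[K] CellRing K n m :=
  (revRows K m n).comp (chi K n m)

theorem exists_chiRev_X (M : MinorIdx m n) :
    ∃ ε : ℕ, chiRev K m n (X (mIdx M)) = (-1) ^ ε * minorOf K M := by
  obtain ⟨s, A, B⟩ := M
  have hinj := repl_injective B.2.injective (revTuple_strictMono A.2).injective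
  have hc := card_image_iff.2 hinj
  set ε₁ := invCount n (n + m) (repl B.1 (revTuple A.1))
  let π : Equiv.Perm (Fin (s + 1)) := Fin.revPerm
  have hsign : ((Equiv.Perm.sign π : ℤ) : CellRing K n m) = (-1) ^ invCount (s + 1) (s + 1) π := by
    rw [sign_eq_invCount]; simp
  refine ⟨ε₁ + invCount (s + 1) (s + 1) π, ?_⟩
  have e1 : cellMinor K n m (mIdx ⟨s, A, B⟩) = (-1) ^ ε₁ * ((genMatrix K m n).submatrix (revTuple A.1) B.1).det := by
    rw [← det_repl B.2.injective, det_submatrix_sort _ _ hc, ← mul_assoc, ← pow_add, ← two_mul, pow_mul, neg_one_sq,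
      one_pow, one_mul]
    rfl
  rw [chiRev, AlgHom.comp_apply, chi_X, e1, map_mul, map_pow, map_neg, map_one, revRows_det, pow_add, mul_assoc,
    ← hsign]
  congr 1
  rw [show (genMatrix K m n).submatrix (Fin.rev ∘ revTuple A.1) B.1 =
    ((genMatrix K m n).submatrix A.1 B.1).submatrix π id by
      ext a b : 1; simp [revTuple, π, genMatrix], Matrix.det_permute]
  rfl

theorem chiRev_mem {t : ℕ} {p : PlRing K n (n + m)}
    (hp : p ∈ idealOn K {θ : Idx n (n + m) | botCount θ < t}) :
    chiRev K m n p ∈ CAlgX.minorIdeal (genMatrix K m n) t :=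
  revRows_mem_minorIdeal (cellIdeal_botCount (K := K) (d := n) (r := m) t ▸ chi_mem_cellIdeal hp)

theorem chiRev_surjective : Function.Surjective (chiRev K m n) := fun c =>
  ⟨(chi_surjective (revRows K m n c)).choose, by
    rw [chiRev, AlgHom.comp_apply, (chi_surjective (revRows K m n c)).choose_spec, revRows_revRows]⟩

/-- The index type of bitableaux. -/
abbrev Bitab (m n t : ℕ) := Σ k : ℕ, {c : Fin k → MinorIdx m n //
  (∀ i, (c i).1 + 1 ≤ t - 1) ∧ ∀ i j, i < j → MinorGE (c i) (c j)}

/-- The chain of a bitableau. -/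
def bitabChain {t : ℕ} (c : Bitab m n t) : Fin c.1 → Idx n (n + m) := fun i => mIdx (c.2.1 (Fin.rev i))

theorem bitabChain_antitone {t : ℕ} (c : Bitab m n t) : Antitone (bitabChain c) := by
  intro i j hij
  rcases hij.eq_or_lt with rfl | h
  · exact le_rfl
  · exact (minorGE_iff _ _).1 (c.2.2.2 _ _ (Fin.rev_lt_rev.2 h))

theorem bitab_inj {t : ℕ} : Function.Injective fun c : Bitab m n t => expOf (bitabChain c) := by
  intro c c' h
  have h1 := expOf_inj (bitabChain_antitone c) (bitabChain_antitone c') h
  obtain ⟨k, c, hc⟩ := c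
  obtain ⟨k', c', hc'⟩ := c'
  simp only [Sigma.mk.injEq] at h1
  obtain ⟨rfl, h2⟩ := h1
  have h2' := eq_of_heq h2
  have : c = c' := funext fun i => mIdx_injective (by simpa [bitabChain] using congrFun h2' (Fin.rev i))
  subst this
  rfl

theorem exists_chiRev_monomial {t : ℕ} (c : Bitab m n t) :
    ∃ ε : ℕ, chiRev K m n (monomial (expOf (bitabChain c)) 1) = (-1) ^ ε * ∏ i, minorOf K (c.2.1 i) := by
  choose ε hε using fun i => exists_chiRev_X (K := K) (c.2.1 i)
  refine ⟨∑ i, ε i, ?_⟩
  rw [← chainMon_eq, chainMon, map_prod, ← Finset.prod_pow_eq_pow_sum, ← Finset.prod_mul_distrib,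
    ← Equiv.prod_comp Fin.revPerm]
  exact Finset.prod_congr rfl fun i _ => by simpa [bitabChain] using hε i

theorem bitableau_basis [Infinite K] (hn : 0 < n) (t : ℕ) (ht : 1 ≤ t) :
    LinearIndependent K (fun c : Bitab m n t =>
        Ideal.Quotient.mk (CAlgX.minorIdeal (genMatrix K m n) t) (∏ i, minorOf K (c.2.1 i))) ∧
      Submodule.span K (Set.range fun c : Bitab m n t =>
        Ideal.Quotient.mk (CAlgX.minorIdeal (genMatrix K m n) t) (∏ i, minorOf K (c.2.1 i))) = ⊤ := by
  classical
  set I := CAlgX.minorIdeal (genMatrix K m n) t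
  set D := {θ : Idx n (n + m) | botCount θ < t}
  have hw : ∃ w, D = band (fun _ => 0) w ∧ w ∈ band (fun _ => 0) w :=
    ⟨rankIdx n m (min (t - 1) (min n m)) (by omega) (by omega), by
      rw [band_zero]
      ext θ
      show botCount θ < t ↔ θ ≤ _
      rw [← botCount_le_iff]
      have := botCount_le θ
      omega, le_rfl, fun _ => Nat.zero_le _⟩
  obtain ⟨w, hDw, hww⟩ := hw
  set β := bot n m
  choose ε hε using fun c : Bitab m n t => exists_chiRev_monomial (K := K) c
  have hunit : ∀ c, ((-1 : CellRing K n m) ^ ε c) * (-1) ^ ε c = 1 := fun c => by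
    rw [← pow_add, ← two_mul, pow_mul, neg_one_sq, one_pow]
  have hmem : ∀ c : Bitab m n t, ∀ θ ∈ (expOf (bitabChain c)).support, θ ∈ D ∧ θ ≠ β := by
    intro c θ hθ
    obtain ⟨i, rfl⟩ := (mem_support_expOf _ θ).1 hθ
    have h1 := c.2.2.1 (Fin.rev i)
    have h2 := botCount_mIdx (c.2.1 (Fin.rev i))
    constructor
    · show botCount (mIdx (c.2.1 (Fin.rev i))) < t
      omega
    · intro he
      have h3 := congrArg botCount (show mIdx (c.2.1 (Fin.rev i)) = β from he)
      rw [show botCount β = 0 from botCount_bot] at h3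
      omega
  constructor
  · rw [linearIndependent_iff']
    intro s g hs c hc
    let deg : Bitab m n t → ℕ := fun c => (expOf (bitabChain c)).degree
    let N := s.sup deg
    let G : PlRing K n (n + m) := ∑ x ∈ s,
      monomial (expOf (bitabChain x) + Finsupp.single β (N - deg x)) (g x * (-1) ^ ε x)
    have hG : G.IsHomogeneous N := IsHomogeneous.sum _ _ _ fun x hx => isHomogeneous_monomial _ (by
      rw [map_add, Finsupp.degree_single]
      exact Nat.add_sub_cancel' (Finset.le_sup (f := deg) hx))
    have hstd : G ∈ restrictSupport K (stdIn D) := sum_mem fun x hx => (monomial_mem_restrictSupport K).2 (.inl <| by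
      have hsub : ∀ θ ∈ (expOf (bitabChain x) + Finsupp.single β (N - deg x)).support,
          θ ∈ (expOf (bitabChain x)).support ∨ θ = β := fun θ hθ => by
        rcases Finset.mem_union.1 (Finsupp.support_add hθ) with h | h
        · exact .inl h
        · exact .inr (Finset.mem_singleton.1 (Finsupp.support_single_subset h))
      refine ⟨fun a ha b hb hab => ?_, fun θ hθ => ?_⟩
      · rcases hsub a ha with ha' | rfl <;> rcases hsub b hb with hb' | rfl
        · exact isStd_expOf (bitabChain_antitone x) ha' hb' hab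
        · exact .inr (botIdx_le _ a)
        · exact .inl (botIdx_le _ b)
        · exact absurd rfl hab
      · rcases hsub θ hθ with h | rfl
        · exact (hmem x θ h).1
        · show botCount β < t
          rw [show botCount β = 0 from botCount_bot]; omega)
    have hbotx : ∀ (e : Idx n (n + m) →₀ ℕ) (k : ℕ) (a : K), chiRev K m n (monomial (e + Finsupp.single β k) a) =
        chiRev K m n (monomial e a) := fun e k a => by
      rw [monomial_add_single, map_mul, map_pow, chiRev, AlgHom.comp_apply, AlgHom.comp_apply, chi_bot, map_one,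
        one_pow, mul_one]
    have hχ : chiRev K m n G ∈ I := by
      rw [← Ideal.Quotient.eq_zero_iff_mem, ← hs, map_sum, map_sum]
      refine Finset.sum_congr rfl fun x _ => ?_
      rw [hbotx, show monomial (expOf (bitabChain x)) (g x * (-1) ^ ε x) =
        (g x * (-1) ^ ε x) • monomial (expOf (bitabChain x)) (1 : K) by rw [smul_monomial, smul_eq_mul, mul_one],
        map_smul, hε, ← Ideal.Quotient.mkₐ_eq_mk K, ← map_smul]
      congr 1
      rw [smul_eq_C_mul, smul_eq_C_mul, map_mul, map_pow, map_neg, map_one, mul_assoc, ← mul_assoc ((-1) ^ ε x),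
        hunit, one_mul]
    have h1 : chi K n m G ∈ cellIdeal K D := by
      rw [show cellIdeal K D = I from cellIdeal_botCount t]
      have := revRows_mem_minorIdeal hχ
      rwa [chiRev, AlgHom.comp_apply, revRows_revRows] at this
    obtain ⟨k, hk⟩ := pow_mul_mem_idealOn hn hG h1
    have hPk : (X β : PlRing K n (n + m)) ^ k ∉ idealOn K D := fun h => by
      rw [hDw] at h
      exact X_notMem_idealOn hn (botIdx_le _ w)
        (band_zero w ▸ (isPrime_idealOn_band hn monotone_const hww).mem_of_pow_mem k h)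
    have hGJ : G ∈ idealOn K D := by
      haveI := isPrime_idealOn_band (K := K) hn monotone_const hww
      exact (((hDw ▸ this : (idealOn K D).IsPrime)).mem_or_mem hk).resolve_left hPk
    have hG0 : G = 0 := by
      rw [hDw] at hstd hGJ
      exact eq_zero_of_std hn monotone_const hww hstd hGJ
    have h2 := congrArg (coeff (expOf (bitabChain c) + Finsupp.single β (N - deg c))) hG0
    simp only [G, coeff_sum, coeff_monomial, coeff_zero] at h2
    rw [Finset.sum_eq_single c, if_pos rfl] at h2
    · exact (mul_eq_zero.1 h2).resolve_right (pow_ne_zero _ (neg_ne_zero.2 one_ne_zero))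
    · intro x _ hx
      refine if_neg fun he => hx (bitab_inj ?_)
      ext θ
      by_cases hθ : θ = β
      · subst hθ
        rw [Finsupp.notMem_support_iff.1 fun h => (hmem x _ h).2 rfl, Finsupp.notMem_support_iff.1 fun h => (hmem c _ h).2 rfl]
      · have h3 := DFunLike.congr_fun he θ
        simpa [Finsupp.single_eq_of_ne hθ] using h3
    · exact fun h => absurd hc h
  · rw [eq_top_iff]
    intro x _
    obtain ⟨f, rfl⟩ := Ideal.Quotient.mk_surjective x
    obtain ⟨p, rfl⟩ := chiRev_surjective f
    obtain ⟨q, hq, hpq⟩ := exists_std_sub_mem D p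
    rw [show Ideal.Quotient.mk I (chiRev K m n p) = Ideal.Quotient.mk I (chiRev K m n q) from
      Ideal.Quotient.eq.2 (by rw [← map_sub]; exact chiRev_mem hpq), q.as_sum, map_sum, map_sum]
    refine sum_mem fun e he => ?_
    obtain ⟨hestd, heD⟩ := hq (Finset.mem_coe.2 he)
    have hle : Finsupp.erase β e ≤ e := fun θ => by
      by_cases h : θ = β <;> simp [h, Finsupp.erase_ne]
    obtain ⟨k, θs, hanti, hθs⟩ := exists_chain (isStd_mono hle hestd)
    have hθ : ∀ i, θs i ∈ D ∧ θs i ≠ β := fun i => by
      have h := (mem_support_expOf θs (θs i)).2 ⟨i, rfl⟩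
      rw [hθs, Finsupp.support_erase, Finset.mem_erase] at h
      exact ⟨heD h.2, h.1⟩
    choose M hM using fun i => exists_mIdx (θs (Fin.rev i)) (hθ _).2
    let c : Bitab m n t := ⟨k, M, fun i => by
      have h1 : botCount (θs (Fin.rev i)) < t := (hθ _).1
      rw [← hM i, botCount_mIdx] at h1
      omega, fun i j hij => by
      rw [minorGE_iff, hM, hM]
      exact hanti (Fin.rev_le_rev.2 hij.le)⟩
    have hc : bitabChain c = θs := funext fun i => by
      show mIdx (M (Fin.rev i)) = θs i
      rw [hM, Fin.rev_rev]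
    rw [show monomial e (q.coeff e) = q.coeff e • (monomial (expOf (bitabChain c)) (1 : K) * X β ^ e β) by
      rw [← monomial_add_single, hc, hθs, smul_monomial, smul_eq_mul, mul_one, Finsupp.erase_add_single],
      map_smul, map_mul, hε c, map_pow, show chiRev K m n (X β) = 1 by
        rw [chiRev, AlgHom.comp_apply, chi_bot, map_one], one_pow, mul_one, ← Ideal.Quotient.mkₐ_eq_mk K, map_smul]
    refine Submodule.smul_mem _ _ ?_
    rw [map_mul, map_pow, map_neg, map_one]
    rw [show ((-1 : CellRing K n m ⧸ I) ^ ε c) = algebraMap K _ ((-1) ^ ε c) by simp, ← Algebra.smul_def]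
    exact Submodule.smul_mem _ _ (Submodule.subset_span ⟨c, rfl⟩)

end Groth.Agent.SMT
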