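import Groth.Agent.SMT.Pairing

/-! The first fundamental theorem for `GL_n` acting on pairs of matrices. -/

noncomputable section

namespace Groth.Agent.SMT

open MvPolynomial W4bk4grassmannian

universe u

attribute [-simp] Fin.val_fin_le Fin.val_fin_lt

variable {K : Type u} [Field K] {m n q : ℕ}

/-- The chosen rows. -/
def rowSel (hm : n ≤ m) : Fin n → Fin m := fun p => ⟨m - n + p.val, by omega⟩

/-- The minor on the chosen rows and the first columns. -/
def delta (K : Type u) [Field K] (hm : n ≤ m) (hq : n ≤ q) : MvPolynomial (Fin m × Fin q) K :=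
  ((genMatrix K m q).submatrix (rowSel hm) (Fin.castLE hq)).det

/-- The substitution expressing an invariant in the entries of the product. -/
def subst (K : Type u) [Field K] (hm : n ≤ m) (hq : n ≤ q) :
    (Fin m × Fin n) ⊕ (Fin n × Fin q) → MvPolynomial (Fin m × Fin q) K :=
  Sum.elim
    (fun p => ((genMatrix K m q).submatrix id (Fin.castLE hq) *
      ((genMatrix K m q).submatrix (rowSel hm) (Fin.castLE hq)).adjugate) p.1 p.2)
    (fun p => genMatrix K m q (rowSel hm p.1) p.2)

theorem map_genMatrix (x : Fin m × Fin q → K) :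
    (genMatrix K m q).map (eval x) = Matrix.of fun i j => x (i, j) := by
  ext i j; simp [genMatrix]

theorem exists_pow_delta [Infinite K] (hm : n ≤ m) (hq : n ≤ q) (f : PairRing K n m q)
    (hf : ∀ A : GL (Fin n) K, glTranslate K n m q A f = f) :
    ∃ (k : ℕ) (F : MvPolynomial (Fin m × Fin q) K),
      pairingMap K n m q (delta K hm hq) ^ k * f = pairingMap K n m q F := by
  classical
  set k := f.totalDegree
  let me : ((Fin m × Fin n) ⊕ (Fin n × Fin q) →₀ ℕ) → ℕ := fun e => ∑ p ∈ e.support.filter (fun p => p.isLeft), e p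
  set δ := delta K hm hq
  set sub := subst K hm hq
  refine ⟨k, ∑ e ∈ f.support, C (f.coeff e) * (∏ p ∈ e.support, sub p ^ e p) * δ ^ (k - me e), ?_⟩
  set F := ∑ e ∈ f.support, C (f.coeff e) * (∏ p ∈ e.support, sub p ^ e p) * δ ^ (k - me e) with hFdef
  have hP0 : pairingMap K n m q δ ≠ 0 := by
    intro h0
    let b : (Fin m × Fin n) ⊕ (Fin n × Fin q) → K := Sum.elim
      (fun p => if p.1 = rowSel hm p.2 then 1 else 0) (fun p => if p.2 = Fin.castLE hq p.1 then 1 else 0)
    have h1 := eval_pairingMap b δ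
    rw [h0, map_zero, show δ = delta K hm hq from rfl, delta, RingHom.map_det] at h1
    have hinjr : Function.Injective (rowSel hm) := fun a b h => by
      have := congrArg Fin.val h; simp [rowSel] at this; exact Fin.ext this
    have h2 : (eval fun ij : Fin m × Fin q => ∑ k, b (Sum.inl (ij.1, k)) * b (Sum.inr (k, ij.2))).mapMatrix
        ((genMatrix K m q).submatrix (rowSel hm) (Fin.castLE hq)) = 1 := by
      ext s t
      simp only [RingHom.mapMatrix_apply, Matrix.map_apply, Matrix.submatrix_apply, genMatrix, Matrix.of_apply, eval_X,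
        b, Sum.elim_inl, Sum.elim_inr]
      rw [Finset.sum_eq_single s]
      · rw [if_pos rfl, one_mul, Matrix.one_apply]
        simp only [(Fin.castLE_injective hq).eq_iff, eq_comm]
      · intro u _ hu
        rw [if_neg fun e => hu (hinjr e).symm, zero_mul]
      · simp
    rw [h2, Matrix.det_one] at h1
    exact zero_ne_one h1
  refine mul_left_cancel₀ hP0 (MvPolynomial.funext fun b => ?_)
  rw [map_mul (eval b) _ (_ * f), map_mul (eval b) _ (pairingMap K n m q F)]
  set c := eval b (pairingMap K n m q δ) with hcdef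
  rcases eq_or_ne c 0 with hc | hc
  · rw [hc, zero_mul, zero_mul]
  congr 1
  let U : Matrix (Fin m) (Fin n) K := Matrix.of fun i k => b (Sum.inl (i, k))
  let W : Matrix (Fin n) (Fin q) K := Matrix.of fun k j => b (Sum.inr (k, j))
  let U0 := U.submatrix (rowSel hm) id
  let W0 := W.submatrix id (Fin.castLE hq)
  set x : Fin m × Fin q → K := fun ij => ∑ k, b (Sum.inl (ij.1, k)) * b (Sum.inr (k, ij.2))
  have hx : (genMatrix K m q).map (eval x) = U * W := by
    rw [map_genMatrix]
    ext i j
    simp [x, U, W, Matrix.mul_apply]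
  have hxe : ∀ i j, eval x (genMatrix K m q i j) = (U * W) i j := fun i j => congrFun (congrFun hx i) j
  have h00 : (eval x).mapMatrix ((genMatrix K m q).submatrix (rowSel hm) (Fin.castLE hq)) = U0 * W0 := by
    ext i j
    simp only [RingHom.mapMatrix_apply, Matrix.map_apply, Matrix.submatrix_apply, hxe]
    simp [U0, W0, Matrix.mul_apply]
  have hcUW : c = U0.det * W0.det := by
    rw [hcdef, eval_pairingMap, show δ = delta K hm hq from rfl, delta, RingHom.map_det, h00, Matrix.det_mul]
  have hU0 : U0.det ≠ 0 := fun h => hc (by rw [hcUW, h, zero_mul])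
  let A : GL (Fin n) K := Matrix.GeneralLinearGroup.mkOfDetNeZero U0 hU0
  let Ai : Matrix (Fin n) (Fin n) K := ((A⁻¹ : GL (Fin n) K) : Matrix (Fin n) (Fin n) K)
  have hAi : Ai * U0 = 1 := by
    show ((A⁻¹ : GL (Fin n) K) : Matrix (Fin n) (Fin n) K) * (A : Matrix (Fin n) (Fin n) K) = 1
    rw [← Units.val_mul, inv_mul_cancel, Units.val_one]
  have hadj : U0.adjugate = U0.det • Ai := by
    calc U0.adjugate = (Ai * U0) * U0.adjugate := by rw [hAi, Matrix.one_mul]
      _ = U0.det • Ai := by rw [Matrix.mul_assoc, Matrix.mul_adjugate, Matrix.mul_smul, Matrix.mul_one]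
  let v : (Fin m × Fin n) ⊕ (Fin n × Fin q) → K :=
    Sum.elim (fun p => (U * Ai) p.1 p.2) (fun p => (U0 * W) p.1 p.2)
  have hv : eval b f = eval v f := by
    conv_lhs => rw [← hf A, eval_glTranslate]
    rfl
  have hsub : ∀ p, eval x (sub p) = (if p.isLeft then c else 1) * v p := by
    rintro (⟨i, s⟩ | ⟨s, j⟩)
    · have h1 : ((genMatrix K m q).submatrix id (Fin.castLE hq) *
          ((genMatrix K m q).submatrix (rowSel hm) (Fin.castLE hq)).adjugate).map (eval x) = c • (U * Ai) := by
        rw [Matrix.map_mul, ← RingHom.mapMatrix_apply (f := eval x) (M := Matrix.adjugate _),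
          RingHom.map_adjugate, h00, Matrix.adjugate_mul_distrib, hadj,
          show ((genMatrix K m q).submatrix id (Fin.castLE hq)).map (eval x) = U * W0 by
            ext a b; simp only [Matrix.map_apply, Matrix.submatrix_apply, hxe]
            simp [W0, Matrix.mul_apply],
          Matrix.mul_assoc, ← Matrix.mul_assoc W0, Matrix.mul_adjugate, Matrix.smul_mul, Matrix.one_mul,
          Matrix.mul_smul, Matrix.mul_smul, smul_smul, hcUW, mul_comm W0.det]
      have h2 := congrFun (congrFun h1 i) s
      simpa [sub, subst, v] using h2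
    · simp only [sub, subst, Sum.elim_inr, Sum.isLeft_inr, Bool.false_eq_true, if_false, one_mul, hxe, v]
      simp [U0, Matrix.mul_apply]
  rw [map_mul, map_pow, ← hcdef, eval_pairingMap, hv, hFdef, map_sum, eval_eq, Finset.mul_sum]
  refine Finset.sum_congr rfl fun e he => ?_
  have hme : me e ≤ k := (Finset.sum_le_sum_of_subset (Finset.filter_subset _ _)).trans (le_totalDegree he)
  have hprod : ∏ p ∈ e.support, (if p.isLeft then c else 1) ^ e p = c ^ me e := by
    rw [← Finset.prod_pow_eq_pow_sum, Finset.prod_filter]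
    refine Finset.prod_congr rfl fun p _ => ?_
    split_ifs <;> simp
  have hδ : eval x δ = c := (eval_pairingMap b δ).symm
  rw [map_mul, map_mul, eval_C, map_prod, map_pow, hδ]
  simp only [map_pow]
  change _ = (coeff e f * ∏ p ∈ e.support, eval x (sub p) ^ e p) * c ^ (k - me e)
  simp only [hsub, mul_pow]
  rw [Finset.prod_mul_distrib, hprod, show c ^ k = c ^ me e * c ^ (k - me e) by rw [← pow_add, Nat.add_sub_cancel' hme]]
  ring

theorem mem_range_of_delta_mul [IsAlgClosed K] (hn : 0 < n) (hm : n ≤ m) (hq : n ≤ q) {g : PairRing K n m q}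
    (h : pairingMap K n m q (delta K hm hq) * g ∈ (pairingMap K n m q).range) :
    g ∈ (pairingMap K n m q).range := by
  classical
  obtain ⟨F, hF⟩ := h
  change pairingMap K n m q F = _ at hF
  set δ := delta K hm hq
  set I := CAlgX.minorIdeal (genMatrix K m q) (n + 1)
  have hsum : I ⊔ Ideal.span {δ} = cellIdeal K {θ | θ < rankIdx q m n hq hm} := by
    obtain ⟨ε, hε⟩ := cellMinor_rankIdx (K := K) hq hm
    have hδ : δ = (-1) ^ ε * cellMinor K q m (rankIdx q m n hq hm) := hε
    rw [← cellIdeal_lt, hδ, Ideal.span_singleton_mul_left_unit (isUnit_one.neg.pow ε),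
      show I = cellIdeal K {θ : Idx q (q + m) | θ ≤ rankIdx q m n hq hm} by
        rw [show I = CAlgX.minorIdeal (genMatrix K m q) (n + 1) from rfl, ← cellIdeal_botCount]
        congr 1
        ext θ
        show botCount θ < n + 1 ↔ θ ≤ _
        rw [← botCount_le_iff]; omega]
  have hrad : (I ⊔ Ideal.span {δ}).IsRadical :=
    hsum ▸ isRadical_cellIdeal (by omega) (isRadical_idealOn_lt (by omega) _)
  have hP0 : pairingMap K n m q δ ≠ 0 := by
    intro h0
    have h1 : δ ∈ RingHom.ker (pairingMap K n m q).toRingHom := h0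
    rw [ker_pairingMap] at h1
    have h2 : δ ∈ cellIdeal K {θ : Idx q (q + m) | θ ≤ rankIdx q m n hq hm} := by
      rw [show ({θ : Idx q (q + m) | θ ≤ rankIdx q m n hq hm}) = {θ | botCount θ < n + 1} from Set.ext fun θ => by
        show θ ≤ _ ↔ botCount θ < n + 1
        rw [← botCount_le_iff]; omega, cellIdeal_botCount]
      exact h1
    obtain ⟨ε, hε⟩ := cellMinor_rankIdx (K := K) hq hm
    rw [show δ = (-1) ^ ε * cellMinor K q m (rankIdx q m n hq hm) from hε,
      Ideal.unit_mul_mem_iff_mem _ (isUnit_one.neg.pow ε), ← chi_X] at h2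
    obtain ⟨k, hk⟩ := pow_mul_mem_idealOn (by omega) (isHomogeneous_X K _) h2
    have hq0 : 0 < q := by omega
    rcases (isPrime_idealOn_le (K := K) hq0 _).mem_or_mem hk with h | h
    · exact X_notMem_idealOn hq0 (botIdx_le _ _) ((isPrime_idealOn_le (K := K) hq0 _).mem_of_pow_mem _ h)
    · exact X_notMem_idealOn hq0 le_rfl h
  have hmem : F ∈ I ⊔ Ideal.span {δ} := by
    rw [← hrad.radical, ← vanishingIdeal_zeroLocus_eq_radical (K := K), mem_vanishingIdeal_iff]
    intro x hx
    obtain ⟨b, hb⟩ := zeroLocus_minorIdeal (n := n) (x := x) fun p hp => hx p (Ideal.mem_sup_left hp)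
    have h0 : eval x δ = 0 := by
      rw [← aeval_eq_eval]
      exact hx δ (Ideal.mem_sup_right (Ideal.subset_span rfl))
    rw [aeval_eq_eval]
    subst hb
    rw [← eval_pairingMap, hF, map_mul, eval_pairingMap, h0, zero_mul]
  obtain ⟨i, hi, j, hj, rfl⟩ := Submodule.mem_sup.1 hmem
  obtain ⟨F', rfl⟩ := Ideal.mem_span_singleton'.1 hj
  refine ⟨F', mul_left_cancel₀ hP0 ?_⟩
  rw [← hF, map_add, show pairingMap K n m q i = 0 from minorIdeal_le_ker hi, zero_add, map_mul, mul_comm]
  rfl

theorem mem_range_of_invariant_le [IsAlgClosed K] (hm : n ≤ m) (hq : n ≤ q) (f : PairRing K n m q)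
    (hf : ∀ A : GL (Fin n) K, glTranslate K n m q A f = f) : f ∈ (pairingMap K n m q).range := by
  rcases Nat.eq_zero_or_pos n with rfl | hn
  · haveI : IsEmpty ((Fin m × Fin 0) ⊕ (Fin 0 × Fin q)) :=
      ⟨fun p => p.elim (fun x => x.2.elim0) (fun x => x.1.elim0)⟩
    rw [MvPolynomial.eq_C_of_isEmpty f]
    exact (pairingMap K 0 m q).range.algebraMap_mem _
  obtain ⟨k, F, hF⟩ := exists_pow_delta hm hq f hf
  suffices ∀ j g, pairingMap K n m q (delta K hm hq) ^ j * g ∈ (pairingMap K n m q).range →
      g ∈ (pairingMap K n m q).range from this k f ⟨F, hF.symm⟩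
  intro j
  induction j with
  | zero => intro g hg; simpa using hg
  | succ j ih =>
    intro g hg
    refine mem_range_of_delta_mul hn hm hq (ih _ ?_)
    rwa [← mul_assoc, ← pow_succ]

theorem mem_range_of_invariant [IsAlgClosed K] (f : PairRing K n m q)
    (hf : ∀ A : GL (Fin n) K, glTranslate K n m q A f = f) : f ∈ (pairingMap K n m q).range := by
  classical
  let M := max m n
  let Q := max q n
  have hmM : m ≤ M := le_max_left _ _
  have hqQ : q ≤ Q := le_max_left _ _
  let ι : (Fin m × Fin n) ⊕ (Fin n × Fin q) → (Fin M × Fin n) ⊕ (Fin n × Fin Q) :=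
    Sum.map (Prod.map (Fin.castLE hmM) id) (Prod.map id (Fin.castLE hqQ))
  let e : PairRing K n m q →ₐ[K] PairRing K n M Q := rename ι
  let π : PairRing K n M Q →ₐ[K] PairRing K n m q := aeval (Sum.elim
    (fun p : Fin M × Fin n => if h : p.1.val < m then X (Sum.inl (⟨p.1.val, h⟩, p.2)) else 0)
    (fun p : Fin n × Fin Q => if h : p.2.val < q then X (Sum.inr (p.1, ⟨p.2.val, h⟩)) else 0))
  let πy : MvPolynomial (Fin M × Fin Q) K →ₐ[K] MvPolynomial (Fin m × Fin q) K :=
    aeval fun p => if h : p.1.val < m ∧ p.2.val < q then X (⟨p.1.val, h.1⟩, ⟨p.2.val, h.2⟩) else 0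
  have hπe : ∀ g, π (e g) = g := by
    intro g
    suffices π.comp e = AlgHom.id K _ from DFunLike.congr_fun this g
    refine MvPolynomial.algHom_ext ?_
    rintro (⟨i, s⟩ | ⟨s, j⟩) <;> simp [π, e, ι]
  have heq : ∀ A : GL (Fin n) K, (glTranslate K n M Q A).comp e = e.comp (glTranslate K n m q A) := by
    intro A
    refine MvPolynomial.algHom_ext ?_
    rintro (⟨i, s⟩ | ⟨s, j⟩) <;> simp [e, ι, glTranslate]
  obtain ⟨F, hF⟩ := mem_range_of_invariant_le (le_max_right m n) (le_max_right q n) (e f) fun A => by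
    rw [← AlgHom.comp_apply, heq, AlgHom.comp_apply, hf]
  have hπp : π.comp (pairingMap K n M Q) = (pairingMap K n m q).comp πy := by
    refine MvPolynomial.algHom_ext fun p => ?_
    simp only [AlgHom.comp_apply, pairingMap, aeval_X, map_sum, map_mul, π, πy, Sum.elim_inl, Sum.elim_inr]
    by_cases h1 : p.1.val < m <;> by_cases h2 : p.2.val < q <;> simp [h1, h2]
  refine ⟨πy F, ?_⟩
  show pairingMap K n m q (πy F) = f
  rw [← AlgHom.comp_apply, ← hπp, AlgHom.comp_apply, show pairingMap K n M Q F = e f from hF, hπe]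

end Groth.Agent.SMT
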