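import Groth.Agent.SMT.Basic
import Mathlib.Algebra.MvPolynomial.Funext
import Mathlib.LinearAlgebra.Matrix.NonsingularInverse
import Mathlib.LinearAlgebra.Matrix.Rank
import Mathlib.FieldTheory.IsAlgClosed.Basic

/-! Semistable matrices for `SL_d`. -/

noncomputable section

namespace Groth.Agent.SMT

open MvPolynomial W4bk4grassmannian

universe u

variable {d n : ℕ} {K : Type u} [Field K]

theorem exists_minor_ne_zero (A : Matrix (Fin n) (Fin d) K) (h : LinearIndependent K A.transpose) :
    ∃ θ : Idx d n, (A.submatrix θ.1 id).det ≠ 0 := by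
  classical
  have hr : A.rank = d := by
    rw [← Matrix.rank_transpose, LinearIndependent.rank_matrix (M := A.transpose) h, Fintype.card_fin]
  obtain ⟨b, hb, hspan, hli⟩ := exists_linearIndependent K (Set.range A.row)
  haveI : Finite b := ((Set.finite_range A.row).subset hb).to_subtype
  haveI := Fintype.ofFinite b
  have hcard : Fintype.card b = d := by
    refine Eq.trans ?_ hr
    rw [Matrix.rank_eq_finrank_span_row, ← hspan, finrank_span_set_eq_card hli, Set.toFinset_card]
  let e : Fin d ≃ b := (Fintype.equivFinOfCardEq hcard).symm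
  choose a ha using fun s : Fin d => hb (e s).2
  have hdet : (A.submatrix a id).det ≠ 0 := by
    have hrows : LinearIndependent K (A.submatrix a id).row := by
      have : (A.submatrix a id).row = (Subtype.val : b → _) ∘ e := funext fun s => ha s
      rw [this]
      exact hli.comp _ e.injective
    exact ((Matrix.isUnit_iff_isUnit_det _).1 (Matrix.linearIndependent_rows_iff_isUnit.1 hrows)).ne_zero
  by_cases hc : (Finset.univ.image a).card = d
  · refine ⟨sortIdx d n a hc, fun h0 => hdet ?_⟩
    rw [det_submatrix_sort A a hc, h0, mul_zero]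
  · exact absurd (det_submatrix_of_repeat A a hc) hdet

theorem semistable_iff [Infinite K] (hd : 0 < d) (A : Matrix (Fin n) (Fin d) K) :
    LinearIndependent K A.transpose ↔
      ∃ f : MatRing K d n, (∀ g : Matrix.SpecialLinearGroup (Fin d) K,
        MvPolynomial.eval (fun p : Fin n × Fin d => (A * (g : Matrix (Fin d) (Fin d) K)) p.1 p.2) f = 0) ∧
        MvPolynomial.eval (fun _ : Fin n × Fin d => (0 : K)) f ≠ 0 := by
  classical
  constructor
  · intro h
    obtain ⟨θ, hθ⟩ := exists_minor_ne_zero A h
    set c := (A.submatrix θ.1 id).det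
    refine ⟨minor K d n θ.1 - C c, fun g => ?_, ?_⟩
    · rw [map_sub, eval_C, minor, RingHom.map_det, sub_eq_zero]
      have : (eval fun p : Fin n × Fin d => (A * (g : Matrix (Fin d) (Fin d) K)) p.1 p.2).mapMatrix
          (Matrix.of fun s t : Fin d => (X (θ.1 s, t) : MatRing K d n)) =
          A.submatrix θ.1 id * (g : Matrix (Fin d) (Fin d) K) := by
        ext s t; simp [Matrix.mul_apply]
      rw [this, Matrix.det_mul, g.2, mul_one]
    · rw [map_sub, eval_C, minor, RingHom.map_det, sub_ne_zero]
      have : (eval fun _ : Fin n × Fin d => (0 : K)).mapMatrix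
          (Matrix.of fun s t : Fin d => (X (θ.1 s, t) : MatRing K d n)) = 0 := by
        ext s t; simp
      haveI hne : Nonempty (Fin d) := ⟨⟨0, hd⟩⟩
      rw [this, Matrix.det_zero]
      exact hθ.symm
  · rintro ⟨f, hf, hf0⟩
    by_contra h
    obtain ⟨v, hv, i, hi⟩ := Fintype.not_linearIndependent_iff.1 h
    have hAv : A.mulVec v = 0 := by
      funext r
      have := congrFun hv r
      simpa [Matrix.mulVec, dotProduct, Finset.sum_apply, mul_comm] using this
    let B : Matrix (Fin n) (Fin d) K := Matrix.of fun r u => if u = i then 0 else A r u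
    refine hf0 ?_
    let P : Polynomial K := aeval (fun p : Fin n × Fin d => Polynomial.C (B p.1 p.2) * Polynomial.X) f
    have hP : ∀ c : K, P.eval c = eval (fun p : Fin n × Fin d => B p.1 p.2 * c) f := by
      intro c
      show Polynomial.aeval c (aeval _ f) = _
      rw [← AlgHom.comp_apply, comp_aeval, ← aeval_eq_eval]
      simp
    have hzero : ∀ c : K, c ≠ 0 → P.eval c = 0 := by
      intro c hc
      rw [hP]
      let N : Matrix (Fin d) (Fin d) K := Matrix.updateCol (1 : Matrix (Fin d) (Fin d) K) i v
      let D : Matrix (Fin d) (Fin d) K :=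
        Matrix.diagonal fun u => if u = i then (v i)⁻¹ * c⁻¹ ^ (d - 1) else c
      have hN : N.det = v i := by
        show ((1 : Matrix (Fin d) (Fin d) K).updateCol i v).det = v i
        rw [← Matrix.cramer_apply, Matrix.cramer_one]
        rfl
      have hD : (N * D).det = 1 := by
        rw [Matrix.det_mul, hN, Matrix.det_diagonal, ← Finset.mul_prod_erase _ _ (Finset.mem_univ i), if_pos rfl,
          Finset.prod_congr rfl (g := fun _ => c) (fun u hu => if_neg (Finset.ne_of_mem_erase hu)), Finset.prod_const,
          Finset.card_erase_of_mem (Finset.mem_univ _), Finset.card_univ, Fintype.card_fin, inv_pow]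
        field_simp
      have := hf ⟨N * D, hD⟩
      convert this using 3
      funext p
      show B p.1 p.2 * c = (A * (N * D)) p.1 p.2
      rw [← Matrix.mul_assoc, Matrix.mul_diagonal, Matrix.mul_apply]
      by_cases hp : p.2 = i
      · rw [if_pos hp, Finset.sum_congr rfl (g := fun u => A p.1 u * v u) (fun u _ => by
          simp [N, hp]), show ∑ u, A p.1 u * v u = 0 from congrFun hAv p.1]
        simp [B, hp]
      · rw [if_neg hp, Finset.sum_eq_single p.2]
        · simp [N, B, hp]
        · intro u _ hu; simp [N, hp, hu]
        · simp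
    have hP0 : P = 0 := Polynomial.eq_zero_of_infinite_isRoot P (((Set.finite_singleton (0 : K)).infinite_compl).mono fun c hc => hzero c hc)
    have := hP 0
    rw [hP0, Polynomial.eval_zero] at this
    simpa using this.symm

end Groth.Agent.SMT
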