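import Groth.Agent.SMT.CellIdeal
import Groth.Agent.SMT.Semistable
import Mathlib.RingTheory.Nullstellensatz
import Mathlib.LinearAlgebra.Matrix.GeneralLinearGroup.Defs

/-! Fundamental theorems for `GL_n` acting on pairs of matrices. -/

noncomputable section

namespace Groth.Agent.SMT

open MvPolynomial W4bk4grassmannian

universe u

attribute [-simp] Fin.val_fin_le Fin.val_fin_lt

variable {K : Type u} [Field K] {m n q : ℕ}

/-- A matrix all of whose `(n + 1)`-minors vanish factors through `K ^ n`. -/
theorem exists_factor (M : Matrix (Fin m) (Fin q) K)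
    (h : ∀ (f : Fin (n + 1) → Fin m) (g : Fin (n + 1) → Fin q), (M.submatrix f g).det = 0) :
    ∃ (U : Matrix (Fin m) (Fin n) K) (W : Matrix (Fin n) (Fin q) K), M = U * W := by
  classical
  let V := Submodule.span K (Set.range M.row)
  have hk : Module.finrank K V ≤ n := by
    by_contra hc
    obtain ⟨b, hb, hspan, hli⟩ := exists_linearIndependent K (Set.range M.row)
    haveI : Finite b := ((Set.finite_range M.row).subset hb).to_subtype
    haveI := Fintype.ofFinite b
    have hcard : Fintype.card b = Module.finrank K V := by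
      show _ = Module.finrank K ↥(Submodule.span K (Set.range M.row))
      rw [← hspan, finrank_span_set_eq_card hli, Set.toFinset_card]
    let e : Fin (n + 1) → b := fun s => (Fintype.equivFin b).symm ⟨s.val, by have := s.isLt; omega⟩
    have he : Function.Injective e := fun a b h => by
      have h' := congrArg Fin.val ((Fintype.equivFin _).symm.injective h)
      exact Fin.ext h'
    choose f hf using fun s : Fin (n + 1) => hb (e s).2
    have hrows : LinearIndependent K ((M.submatrix f id).transpose).transpose := by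
      have h1 : ((M.submatrix f id).transpose).transpose = (Subtype.val : b → _) ∘ e := funext fun s => hf s
      rw [h1]
      exact hli.comp _ he
    obtain ⟨θ, hθ⟩ := exists_minor_ne_zero _ hrows
    refine hθ ?_
    rw [show ((M.submatrix f id).transpose).submatrix θ.1 id = (M.submatrix f θ.1).transpose from rfl,
      Matrix.det_transpose, h]
  let k := Module.finrank K V
  let bas := Module.finBasis K V
  have hmem : ∀ i, M.row i ∈ V := fun i => Submodule.subset_span ⟨i, rfl⟩
  refine ⟨Matrix.of fun i s => if hs : s.val < k then bas.repr ⟨M.row i, hmem i⟩ ⟨s.val, hs⟩ else 0,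
    Matrix.of fun s j => if hs : s.val < k then (bas ⟨s.val, hs⟩ : Fin q → K) j else 0, ?_⟩
  ext i j
  have h1 := congrArg (fun v : V => (v : Fin q → K) j) (bas.sum_repr ⟨M.row i, hmem i⟩)
  simp only [Submodule.coe_sum, Submodule.coe_smul, Finset.sum_apply, Pi.smul_apply, smul_eq_mul] at h1
  rw [Matrix.mul_apply]
  simp only [Matrix.of_apply]
  refine Eq.trans (show M i j = _ from h1.symm) ?_
  refine Finset.sum_bij_ne_zero (fun s _ _ => (⟨s.val, lt_of_lt_of_le s.isLt hk⟩ : Fin n))
    (fun _ _ _ => Finset.mem_univ _) (fun a _ _ b _ _ e => Fin.ext (by simpa using e)) ?_ ?_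
  · intro s _ hs
    by_cases hsk : s.val < k
    · rw [dif_pos hsk, dif_pos hsk] at hs
      exact ⟨⟨s.val, hsk⟩, Finset.mem_univ _, hs, rfl⟩
    · rw [dif_neg hsk] at hs; simp at hs
  · intro s _ _
    rw [dif_pos s.isLt, dif_pos s.isLt]

theorem det_mul_eq_zero {R : Type*} [CommRing R] (U : Matrix (Fin (n + 1)) (Fin n) R)
    (W : Matrix (Fin n) (Fin (n + 1)) R) : (U * W).det = 0 := by
  let U' : Matrix (Fin (n + 1)) (Fin (n + 1)) R := Matrix.of fun i => Fin.snoc (U i) 0
  let W' : Matrix (Fin (n + 1)) (Fin (n + 1)) R := Matrix.of (Fin.snoc W 0)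
  have : U * W = U' * W' := by
    ext i j
    rw [Matrix.mul_apply, Matrix.mul_apply, Fin.sum_univ_castSucc]
    simp [U', W']
  rw [this, Matrix.det_mul, Matrix.det_eq_zero_of_column_eq_zero (A := U') (Fin.last n) (fun i => by simp [U']), zero_mul]

theorem pairingMap_genMatrix :
    (genMatrix K m q).map (pairingMap K n m q) = (Matrix.of fun i k => (X (Sum.inl (i, k)) : PairRing K n m q)) *
      Matrix.of fun k j => (X (Sum.inr (k, j)) : PairRing K n m q) := by
  ext i j : 1
  simp [genMatrix, pairingMap, Matrix.mul_apply]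

theorem minorIdeal_le_ker :
    CAlgX.minorIdeal (genMatrix K m q) (n + 1) ≤ RingHom.ker (pairingMap K n m q).toRingHom := by
  rw [CAlgX.minorIdeal, Ideal.span_le]
  rintro _ ⟨⟨f, g⟩, rfl⟩
  rw [SetLike.mem_coe, RingHom.mem_ker]
  show pairingMap K n m q _ = 0
  rw [AlgHom.map_det, AlgHom.mapMatrix_apply, ← Matrix.submatrix_map, pairingMap_genMatrix,
    Matrix.submatrix_mul _ _ _ id _ Function.bijective_id]
  exact det_mul_eq_zero _ _

theorem eval_pairingMap (b : (Fin m × Fin n) ⊕ (Fin n × Fin q) → K) (p : MvPolynomial (Fin m × Fin q) K) :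
    eval b (pairingMap K n m q p) = eval (fun ij : Fin m × Fin q => ∑ k, b (Sum.inl (ij.1, k)) * b (Sum.inr (k, ij.2))) p := by
  rw [← aeval_eq_eval, ← aeval_eq_eval]
  show aeval b (pairingMap K n m q p) = aeval _ p
  rw [← AlgHom.comp_apply, pairingMap, comp_aeval]
  congr 2
  funext ij
  simp

theorem zeroLocus_minorIdeal {x : Fin m × Fin q → K}
    (hx : x ∈ zeroLocus K (CAlgX.minorIdeal (genMatrix K m q) (n + 1))) :
    ∃ b : (Fin m × Fin n) ⊕ (Fin n × Fin q) → K,
      x = fun ij : Fin m × Fin q => ∑ k, b (Sum.inl (ij.1, k)) * b (Sum.inr (k, ij.2)) := by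
  obtain ⟨U, W, hUW⟩ := exists_factor (n := n) (Matrix.of fun i j => x (i, j)) fun f g => by
    have := hx _ (Ideal.subset_span ⟨(f, g), rfl⟩)
    rw [AlgHom.map_det] at this
    convert this using 2
    ext a b
    simp [genMatrix]
  refine ⟨Sum.elim (fun p => U p.1 p.2) (fun p => W p.1 p.2), funext fun ij => ?_⟩
  have := congrFun (congrFun hUW ij.1) ij.2
  simpa [Matrix.mul_apply] using this

theorem ker_pairingMap [IsAlgClosed K] :
    RingHom.ker (pairingMap K n m q).toRingHom = CAlgX.minorIdeal (genMatrix K m q) (n + 1) := by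
  refine le_antisymm ?_ minorIdeal_le_ker
  rcases Nat.eq_zero_or_pos q with rfl | hq
  · haveI : IsEmpty (Fin m × Fin 0) := ⟨fun p => p.2.elim0⟩
    intro p hp
    rw [MvPolynomial.eq_C_of_isEmpty p] at hp ⊢
    rw [RingHom.mem_ker] at hp
    change pairingMap K n m 0 _ = 0 at hp
    rw [pairingMap, aeval_C] at hp
    rw [(map_eq_zero_iff _ (FaithfulSMul.algebraMap_injective K (PairRing K n m 0))).1 hp, map_zero]
    exact zero_mem _
  intro p hp
  have hrad := (isPrime_minorIdeal (K := K) (r := m) hq (t := n + 1) (Nat.succ_pos n)).isRadical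
  rw [← hrad.radical, ← vanishingIdeal_zeroLocus_eq_radical (K := K), mem_vanishingIdeal_iff]
  intro x hx
  obtain ⟨b, rfl⟩ := zeroLocus_minorIdeal hx
  rw [aeval_eq_eval, ← eval_pairingMap, show pairingMap K n m q p = 0 from hp, map_zero]

/-! ### The first fundamental theorem -/

variable (A : GL (Fin n) K)

theorem glTranslate_range {f : PairRing K n m q} (hf : f ∈ (pairingMap K n m q).range) :
    glTranslate K n m q A f = f := by
  obtain ⟨p, rfl⟩ := hf
  show glTranslate K n m q A (pairingMap K n m q p) = pairingMap K n m q p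
  rw [← AlgHom.comp_apply]
  congr 1
  refine MvPolynomial.algHom_ext fun ij => ?_
  have h1 : ((A⁻¹ : GL (Fin n) K) : Matrix (Fin n) (Fin n) K) * (A : Matrix (Fin n) (Fin n) K) = 1 := by
    rw [← Units.val_mul, inv_mul_cancel, Units.val_one]
  let U : Matrix (Fin m) (Fin n) (PairRing K n m q) := Matrix.of fun i k => X (Sum.inl (i, k))
  let W : Matrix (Fin n) (Fin q) (PairRing K n m q) := Matrix.of fun k j => X (Sum.inr (k, j))
  let Ai := ((A⁻¹ : GL (Fin n) K) : Matrix (Fin n) (Fin n) K).map (C : K →+* PairRing K n m q)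
  let A' := (A : Matrix (Fin n) (Fin n) K).map (C : K →+* PairRing K n m q)
  have h2 : Ai * A' = 1 := by
    rw [← Matrix.map_mul, h1, Matrix.map_one _ (map_zero _) (map_one _)]
  calc (glTranslate K n m q A).comp (pairingMap K n m q) (X ij) = ((U * Ai) * (A' * W)) ij.1 ij.2 := by
        simp only [AlgHom.comp_apply, pairingMap, aeval_X, map_sum, map_mul, glTranslate, Sum.elim_inl, Sum.elim_inr]
        simp [U, W, Ai, A', Matrix.mul_apply]
    _ = (U * W) ij.1 ij.2 := by rw [Matrix.mul_assoc, ← Matrix.mul_assoc Ai, h2, Matrix.one_mul]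
    _ = pairingMap K n m q (X ij) := by simp [pairingMap, U, W, Matrix.mul_apply]

theorem eval_glTranslate (b : (Fin m × Fin n) ⊕ (Fin n × Fin q) → K) (f : PairRing K n m q) :
    eval b (glTranslate K n m q A f) = eval (Sum.elim
      (fun p : Fin m × Fin n =>
        ((Matrix.of fun i k => b (Sum.inl (i, k))) * ((A⁻¹ : GL (Fin n) K) : Matrix (Fin n) (Fin n) K)) p.1 p.2)
      (fun p : Fin n × Fin q =>
        ((A : Matrix (Fin n) (Fin n) K) * Matrix.of fun k j => b (Sum.inr (k, j))) p.1 p.2)) f := by
  rw [← aeval_eq_eval, ← aeval_eq_eval]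
  show aeval b (glTranslate K n m q A f) = aeval _ f
  rw [← AlgHom.comp_apply, glTranslate, comp_aeval]
  congr 2
  funext p
  rcases p with p | p <;> simp [Matrix.mul_apply]

end Groth.Agent.SMT
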