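import Groth.Agent.CMChart.OverField
import Mathlib.AlgebraicGeometry.Morphisms.FinitePresentation
import Mathlib.FieldTheory.IsAlgClosed.Basic
import Mathlib.RingTheory.MvPolynomial.Homogeneous

/-! A cone is Cohen–Macaulay iff it is so at its vertex. -/

set_option autoImplicit false

noncomputable section

namespace Groth.Agent.SMT

open MvPolynomial CategoryTheory AlgebraicGeometry

universe u

variable {K : Type u} [Field K] {σ : Type} {N : ℕ}

/-- Scaling of the variables by `t`. -/
def scale (t : K) : MvPolynomial σ K →ₐ[K] MvPolynomial σ K := aeval fun i => C t * X i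

theorem scale_of_isHomogeneous (t : K) {f : MvPolynomial σ K} {n : ℕ} (hf : f.IsHomogeneous n) :
    scale t f = C (t ^ n) * f := by
  conv_lhs => rw [f.as_sum, map_sum]
  conv_rhs => rw [f.as_sum, Finset.mul_sum]
  refine Finset.sum_congr rfl fun d hd => ?_
  rw [scale, aeval_monomial, hf.degree_eq_sum_deg_support hd, monomial_eq (s := d), algebraMap_eq,
    Finsupp.prod, Finsupp.prod]
  simp only [mul_pow]
  rw [Finset.prod_mul_distrib, Finset.prod_pow_eq_pow_sum, map_pow]
  ring

/-- The scaling automorphism. -/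
def scaleEquiv (t : K) (ht : t ≠ 0) : MvPolynomial σ K ≃ₐ[K] MvPolynomial σ K :=
  AlgEquiv.ofAlgHom (scale t) (scale t⁻¹)
    (MvPolynomial.algHom_ext fun i => by simp [scale, ← mul_assoc, ← C_mul, inv_mul_cancel₀ ht, ht])
    (MvPolynomial.algHom_ext fun i => by simp [scale, ← mul_assoc, ← C_mul, mul_inv_cancel₀ ht, ht])

theorem scale_mem_span {T : Set (MvPolynomial σ K)} (hT : ∀ f ∈ T, ∃ k : ℕ, f.IsHomogeneous k) (t : K)
    {f : MvPolynomial σ K} (hf : f ∈ Ideal.span T) : scale t f ∈ Ideal.span T := by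
  suffices Ideal.span T ≤ (Ideal.span T).comap (scale t).toRingHom from this hf
  rw [Ideal.span_le]
  intro g hg
  obtain ⟨k, hk⟩ := hT g hg
  show scale t g ∈ Ideal.span T
  rw [scale_of_isHomogeneous t hk]
  exact Ideal.mul_mem_left _ _ (Ideal.subset_span hg)

/-- An ideal stable under scaling contains homogeneous components. -/
theorem homogeneousComponent_mem_of_scale [Infinite K] (J : Ideal (MvPolynomial σ K))
    (hJ : ∀ t : K, t ≠ 0 → ∀ g ∈ J, scale t g ∈ J) {g : MvPolynomial σ K} (hg : g ∈ J) (n : ℕ) :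
    homogeneousComponent n g ∈ J := by
  by_contra hn
  have h1 : Ideal.Quotient.mk J (homogeneousComponent n g) ≠ 0 := fun h => hn (Ideal.Quotient.eq_zero_iff_mem.1 h)
  obtain ⟨φ, hφ⟩ : ∃ φ : Module.Dual K (MvPolynomial σ K ⧸ J), φ (Ideal.Quotient.mk J (homogeneousComponent n g)) ≠ 0 := by
    by_contra h
    push Not at h
    exact h1 ((Module.forall_dual_apply_eq_zero_iff K _).1 h)
  let P : Polynomial K := ∑ i ∈ Finset.range (g.totalDegree + 1),
    Polynomial.monomial i (φ (Ideal.Quotient.mk J (homogeneousComponent i g)))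
  have hP : P = 0 := by
    refine Polynomial.eq_zero_of_infinite_isRoot P (Set.Infinite.mono (s := ({0} : Set K)ᶜ) ?_ (Set.finite_singleton 0).infinite_compl)
    intro t ht
    show P.eval t = 0
    have h2 : φ (Ideal.Quotient.mkₐ K J (scale t g)) = 0 := by
      rw [Ideal.Quotient.mkₐ_eq_mk, Ideal.Quotient.eq_zero_iff_mem.2 (hJ t ht g hg), map_zero]
    rw [← h2]
    conv_rhs => rw [← sum_homogeneousComponent g]
    simp only [map_sum, P, Polynomial.eval_finsetSum, Polynomial.eval_monomial]
    refine Finset.sum_congr rfl fun i _ => ?_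
    rw [scale_of_isHomogeneous t (homogeneousComponent_isHomogeneous i g), ← smul_eq_C_mul, map_smul, map_smul,
      smul_eq_mul, Ideal.Quotient.mkₐ_eq_mk, mul_comm]
  have h3 : n ≤ g.totalDegree := by
    by_contra h
    exact hn (by rw [homogeneousComponent_eq_zero _ _ (by omega)]; exact J.zero_mem)
  refine hφ ?_
  have := congrArg (fun q : Polynomial K => q.coeff n) hP
  simpa [P, Polynomial.finsetSum_coeff, Polynomial.coeff_monomial, Nat.lt_succ_iff, h3] using this

/-- The non Cohen–Macaulay locus of an affine algebra over a field is closed. -/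
theorem isClosed_notCM (R : Type u) [CommRing R] [Algebra K R] [Algebra.FiniteType K R] :
    IsClosed {p : PrimeSpectrum R | ¬ LocCoh.IsCohenMacaulayLocalRing (Localization.AtPrime p.asIdeal)} := by
  let f : Spec (CommRingCat.of R) ⟶ Spec (CommRingCat.of K) := Spec.map (CommRingCat.ofHom (algebraMap K R))
  haveI : LocallyOfFinitePresentation f := by
    rw [HasRingHomProperty.Spec_iff (P := @LocallyOfFinitePresentation)]
    exact RingHom.finitePresentation_algebraMap.2 (Algebra.FinitePresentation.of_finiteType.1 inferInstance)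
  have h := (CMChart.isOpen_isCMAt f).isClosed_compl
  have key : ∀ (S : Set (PrimeSpectrum R)), IsClosed S →
      (∀ p : PrimeSpectrum R, p ∈ S ↔ ¬ LocCoh.IsCohenMacaulayLocalRing (Localization.AtPrime p.asIdeal)) →
      IsClosed {p : PrimeSpectrum R | ¬ LocCoh.IsCohenMacaulayLocalRing (Localization.AtPrime p.asIdeal)} :=
    fun S hS hiff => by rw [show {p : PrimeSpectrum R | _} = S from Set.ext fun p => (hiff p).symm]; exact hS
  refine key _ h fun p => ?_
  refine not_congr ?_
  refine (CMChart.isCMAt_iff_stalk f p).trans ?_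
  let e : Localization.AtPrime p.asIdeal ≃+* ((Spec (CommRingCat.of R)).presheaf.stalk p : Type u) :=
    (IsLocalization.algEquiv p.asIdeal.primeCompl (Localization.AtPrime p.asIdeal)
      ((Spec.structureSheaf R).presheaf.stalk p)).toRingEquiv
  exact ⟨CMChart.isCohenMacaulayLocalRing_of_ringEquiv e.symm, CMChart.isCohenMacaulayLocalRing_of_ringEquiv e⟩

theorem cone_cm [IsAlgClosed K] (I : Ideal (MvPolynomial (Fin N) K))
    (hI : ∃ T : Set (MvPolynomial (Fin N) K), (∀ f ∈ T, ∃ k : ℕ, f.IsHomogeneous k) ∧ I = Ideal.span T)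
    [hm : ((RingHom.ker (MvPolynomial.constantCoeff : MvPolynomial (Fin N) K →+* K)).map (Ideal.Quotient.mk I)).IsPrime]
    (hcm : LocCoh.IsCohenMacaulayLocalRing (Localization.AtPrime
      ((RingHom.ker (MvPolynomial.constantCoeff : MvPolynomial (Fin N) K →+* K)).map (Ideal.Quotient.mk I)))) :
    LocCoh.IsCohenMacaulayRing (MvPolynomial (Fin N) K ⧸ I) := by
  obtain ⟨T, hT, rfl⟩ := hI
  let R := MvPolynomial (Fin N) K ⧸ Ideal.span T
  let Z := {p : PrimeSpectrum R | ¬ LocCoh.IsCohenMacaulayLocalRing (Localization.AtPrime p.asIdeal)}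
  have hZ : IsClosed Z := isClosed_notCM (K := K) R
  let J : Ideal R := PrimeSpectrum.vanishingIdeal Z
  let J' : Ideal (MvPolynomial (Fin N) K) := J.comap (Ideal.Quotient.mk _)
  have hstab : ∀ t : K, t ≠ 0 → ∀ g ∈ J', scale t g ∈ J' := by
    intro t ht g hg
    have hmap : ∀ (s : K) (hs : s ≠ 0), Ideal.span T = (Ideal.span T).map (scaleEquiv (σ := Fin N) s hs).toRingEquiv := by
      intro s hs
      refine le_antisymm (fun f hf => ?_) (Ideal.map_le_iff_le_comap.2 fun f hf => scale_mem_span hT s hf)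
      have : f = (scaleEquiv s hs).toRingEquiv (scale s⁻¹ f) := ((scaleEquiv s hs).apply_symm_apply f).symm
      rw [this]
      exact Ideal.mem_map_of_mem _ (scale_mem_span hT s⁻¹ hf)
    let σ : R ≃+* R := Ideal.quotientEquiv _ _ (scaleEquiv t ht).toRingEquiv (hmap t ht)
    show Ideal.Quotient.mk (Ideal.span T) (scale t g) ∈ J
    rw [show Ideal.Quotient.mk (Ideal.span T) (scale t g) = σ (Ideal.Quotient.mk _ g) from rfl]
    rw [PrimeSpectrum.mem_vanishingIdeal]
    intro p hp
    have hq : (⟨p.asIdeal.comap σ.toRingHom, inferInstance⟩ : PrimeSpectrum R) ∈ Z := by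
      intro hq
      refine hp (CMChart.isCohenMacaulayLocalRing_of_ringEquiv ?_ hq)
      exact IsLocalization.ringEquivOfRingEquiv (M := (p.asIdeal.comap σ.toRingHom).primeCompl) (T := p.asIdeal.primeCompl)
        _ _ σ (by
          ext x
          simp only [Submonoid.mem_map, Ideal.mem_primeCompl_iff, Ideal.mem_comap]
          exact ⟨fun ⟨y, hy, h⟩ => h ▸ hy, fun hx => ⟨σ.symm x, by simpa using hx, by simp⟩⟩)
    exact (PrimeSpectrum.mem_vanishingIdeal _ _).1 hg _ hq
  refine { isCohenMacaulayLocalRing_localization := fun p hp => ?_ }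
  by_contra hne
  have hJ : J' ≠ ⊤ := fun h => by
    have h1 : (1 : R) ∈ J := by
      have : (1 : MvPolynomial (Fin N) K) ∈ J' := by rw [h]; trivial
      simpa [J'] using this
    exact hp.ne_top ((Ideal.eq_top_iff_one _).2 ((PrimeSpectrum.mem_vanishingIdeal _ _).1 h1 ⟨p, hp⟩ hne))
  have hle : J' ≤ RingHom.ker (MvPolynomial.constantCoeff : MvPolynomial (Fin N) K →+* K) := by
    intro g hg
    rw [RingHom.mem_ker]
    by_contra hc
    have h0 := homogeneousComponent_mem_of_scale J' hstab hg 0
    rw [homogeneousComponent_zero] at h0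
    exact hJ (Ideal.eq_top_of_isUnit_mem _ h0 ((isUnit_iff_ne_zero.2 (by simpa [constantCoeff_eq] using hc)).map C))
  have hmZ : (⟨_, hm⟩ : PrimeSpectrum R) ∈ Z := by
    rw [← hZ.closure_eq, ← PrimeSpectrum.zeroLocus_vanishingIdeal_eq_closure, PrimeSpectrum.mem_zeroLocus]
    intro x hx
    obtain ⟨g, rfl⟩ := Ideal.Quotient.mk_surjective x
    exact Ideal.mem_map_of_mem _ (hle hx)
  exact hmZ hcm

end Groth.Agent.SMT
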