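import Groth.Agent.SMT.Straighten
import Groth.Prelude.Def_CAlgX
import Mathlib.LinearAlgebra.Matrix.Block

/-! Plücker coordinates on the opposite big cell and minors. -/

noncomputable section

namespace Groth.Agent.SMT

open MvPolynomial W4bk4grassmannian

universe u

attribute [-simp] Fin.val_fin_le Fin.val_fin_lt

variable {d r : ℕ} {K : Type u} [CommRing K]

/-- The rows of `[I_d ; Z]` where the rows `S` of the identity are replaced by the rows `B` of `Z`. -/
def repl {k : ℕ} (S : Fin k → Fin d) (B : Fin k → Fin r) : Fin d → Fin (d + r) :=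
  Function.extend S (Fin.natAdd d ∘ B) (Fin.castAdd r)

theorem repl_apply {k : ℕ} {S : Fin k → Fin d} (hS : Function.Injective S) (B : Fin k → Fin r) (p : Fin k) :
    repl S B (S p) = Fin.natAdd d (B p) := hS.extend_apply _ _ p

theorem repl_apply' {k : ℕ} {S : Fin k → Fin d} (B : Fin k → Fin r) {t : Fin d} (h : ∀ p, S p ≠ t) :
    repl S B t = Fin.castAdd r t := Function.extend_apply' _ _ _ fun ⟨p, hp⟩ => h p hp

theorem det_of_unit_rows {R : Type*} [CommRing R] {k : ℕ} (S : Fin k → Fin d) (hS : Function.Injective S)
    (M : Matrix (Fin d) (Fin d) R) (h : ∀ t, (∀ p, S p ≠ t) → ∀ u, M t u = if t = u then 1 else 0) :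
    M.det = (M.submatrix S S).det := by
  classical
  let P : Fin d → Prop := fun t => ∀ p, S p ≠ t
  have h0 : ∀ i, P i → ∀ j, ¬ P j → M i j = 0 := fun i hi j hj => by
    rw [h i hi j, if_neg (fun e : i = j => hj (e ▸ hi))]
  rw [Matrix.twoBlockTriangular_det' M P h0]
  have h1 : M.toSquareBlockProp P = 1 := by
    ext i j
    simp only [Matrix.toSquareBlockProp_def, Matrix.of_apply, h i.1 i.2, Matrix.one_apply, Subtype.val_inj]
  rw [h1, Matrix.det_one, one_mul]
  let e : Fin k ≃ {t // ¬ P t} := Equiv.ofBijective (fun p => ⟨S p, fun hp => hp p rfl⟩)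
    ⟨fun a b hab => hS (congrArg Subtype.val hab), fun ⟨t, ht⟩ => by
      simp only [P, not_forall, ne_eq, not_not] at ht
      exact ⟨ht.choose, Subtype.ext ht.choose_spec⟩⟩
  rw [← Matrix.det_submatrix_equiv_self e]
  rfl

theorem cellMatrix_natAdd (a : Fin r) (u : Fin d) :
    cellMatrix K d r (Fin.natAdd d a) u = X (a, u) := by
  simp only [cellMatrix, Matrix.of_apply, Fin.val_natAdd]
  rw [dif_neg (by omega)]
  congr
  omega

theorem cellMatrix_castAdd (t : Fin d) (u : Fin d) :
    cellMatrix K d r (Fin.castAdd r t) u = if t = u then 1 else 0 := by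
  simp only [cellMatrix, Matrix.of_apply, Fin.val_castAdd, Fin.val_inj]
  rw [dif_pos t.isLt]

theorem det_repl {k : ℕ} {S : Fin k → Fin d} (hS : Function.Injective S) (B : Fin k → Fin r) :
    ((cellMatrix K d r).submatrix (repl S B) id).det = ((genMatrix K r d).submatrix B S).det := by
  rw [det_of_unit_rows S hS]
  · congr 1
    ext p q : 1
    simp only [Matrix.submatrix_apply, id, repl_apply hS, cellMatrix_natAdd, genMatrix, Matrix.of_apply]
  · intro t ht u
    simp only [Matrix.submatrix_apply, id, repl_apply' B ht, cellMatrix_castAdd]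

/-- Every index is a sorted replacement. -/
theorem exists_repl (θ : Idx d (d + r)) :
    ∃ (k : ℕ) (S : Fin k → Fin d) (B : Fin k → Fin r), StrictMono S ∧ StrictMono B ∧
      k = (Finset.univ.filter fun t => d ≤ (θ.1 t).val).card ∧
      ∃ h : (Finset.univ.image (repl S B)).card = d, sortIdx d (d + r) (repl S B) h = θ := by
  classical
  set Top := Finset.univ.filter fun t : Fin d => ¬ d ≤ (θ.1 t).val
  set Bot := Finset.univ.filter fun t : Fin d => d ≤ (θ.1 t).val
  let Scols : Finset (Fin d) := (Top.attach.image fun t => (⟨(θ.1 t.1).val, by have := t.2; simp [Top] at this; omega⟩ : Fin d))ᶜ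
  have hScard : Scols.card = Bot.card := by
    have h1 : (Top.attach.image fun t => (⟨(θ.1 t.1).val, by have := t.2; simp [Top] at this; omega⟩ : Fin d)).card = Top.card := by
      rw [Finset.card_image_of_injective _ (fun a b h => Subtype.ext (θ.2.injective (Fin.ext (by simpa using h)))),
        Finset.card_attach]
    rw [Finset.card_compl, h1, Fintype.card_fin]
    have := Finset.card_filter_add_card_filter_not (s := (Finset.univ : Finset (Fin d))) (fun t => d ≤ (θ.1 t).val)
    change Bot.card + Top.card = _ at this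
    rw [Finset.card_univ, Fintype.card_fin] at this
    omega
  let S := Scols.orderEmbOfFin hScard
  let Bpos := Bot.orderEmbOfFin (rfl : Bot.card = Bot.card)
  have hB : ∀ p, d ≤ (θ.1 (Bpos p)).val := fun p => (Finset.mem_filter.1 (Finset.orderEmbOfFin_mem Bot rfl p)).2
  let B : Fin Bot.card → Fin r := fun p => ⟨(θ.1 (Bpos p)).val - d, by have := (θ.1 (Bpos p)).isLt; have := hB p; omega⟩
  have hBmono : StrictMono B := fun a b hab => by
    have h1 : (θ.1 (Bpos a)).val < (θ.1 (Bpos b)).val := θ.2 (Bpos.strictMono hab)
    have := hB a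
    exact Fin.lt_def.2 (by simp only [B]; omega)
  have hinj : Function.Injective (repl S B) := by
    intro a b hab
    by_cases ha : ∀ p, S p ≠ a <;> by_cases hb : ∀ p, S p ≠ b
    · rw [repl_apply' B ha, repl_apply' B hb] at hab; exact Fin.castAdd_injective _ _ hab
    · push Not at hb
      obtain ⟨q, rfl⟩ := hb
      rw [repl_apply' B ha, repl_apply S.injective] at hab
      have := congrArg Fin.val hab
      simp at this; omega
    · push Not at ha
      obtain ⟨p, rfl⟩ := ha
      rw [repl_apply' B hb, repl_apply S.injective] at hab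
      have := congrArg Fin.val hab
      simp at this; omega
    · push Not at ha hb
      obtain ⟨p, rfl⟩ := ha
      obtain ⟨q, rfl⟩ := hb
      rw [repl_apply S.injective, repl_apply S.injective] at hab
      rw [hBmono.injective (Fin.natAdd_injective r d hab)]
  refine ⟨Bot.card, S, B, S.strictMono, hBmono, rfl, card_image_iff.2 hinj, sortIdx_eq _ _ θ fun t => ?_⟩
  by_cases ht : ∀ p, S p ≠ t
  · rw [repl_apply' B ht]
    have : t ∉ Scols := fun h => by
      rw [← Finset.image_orderEmbOfFin_univ Scols hScard] at h
      obtain ⟨p, -, hp⟩ := Finset.mem_image.1 h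
      exact ht p hp
    simp only [Scols, Finset.mem_compl, not_not, Finset.mem_image] at this
    obtain ⟨⟨s, hs⟩, -, rfl⟩ := this
    exact Finset.mem_image.2 ⟨s, Finset.mem_univ _, Fin.ext (by simp)⟩
  · push Not at ht
    obtain ⟨p, rfl⟩ := ht
    rw [repl_apply S.injective]
    have := hB p
    exact Finset.mem_image.2 ⟨Bpos p, Finset.mem_univ _, Fin.ext (by simp [B]; omega)⟩

/-- A Plücker coordinate of the cell is a minor up to sign. -/
theorem exists_cellMinor_eq (θ : Idx d (d + r)) :
    ∃ (k : ℕ) (S : Fin k → Fin d) (B : Fin k → Fin r) (ε : ℕ), StrictMono S ∧ StrictMono B ∧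
      k = (Finset.univ.filter fun t => d ≤ (θ.1 t).val).card ∧
      cellMinor K d r θ = (-1) ^ ε * ((genMatrix K r d).submatrix B S).det := by
  obtain ⟨k, S, B, hS, hB, hk, h, hθ⟩ := exists_repl θ
  refine ⟨k, S, B, invCount d (d + r) (repl S B), hS, hB, hk, ?_⟩
  rw [← det_repl hS.injective B, det_submatrix_sort _ _ h, hθ, cellMinor, ← mul_assoc, ← pow_add, ← two_mul, pow_mul]
  simp

/-- A minor is a Plücker coordinate of the cell up to sign. -/
theorem exists_eq_cellMinor {k : ℕ} {S : Fin k → Fin d} (hS : Function.Injective S) {B : Fin k → Fin r}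
    (hB : Function.Injective B) :
    ∃ (θ : Idx d (d + r)) (ε : ℕ), (Finset.univ.filter fun t => d ≤ (θ.1 t).val).card = k ∧
      ((genMatrix K r d).submatrix B S).det = (-1) ^ ε * cellMinor K d r θ := by
  classical
  have hinj : Function.Injective (repl S B) := by
    intro a b hab
    by_cases ha : ∀ p, S p ≠ a <;> by_cases hb : ∀ p, S p ≠ b
    · rw [repl_apply' B ha, repl_apply' B hb] at hab; exact Fin.castAdd_injective _ _ hab
    · push Not at hb
      obtain ⟨q, rfl⟩ := hb
      rw [repl_apply' B ha, repl_apply hS] at hab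
      have := congrArg Fin.val hab
      simp at this; omega
    · push Not at ha
      obtain ⟨p, rfl⟩ := ha
      rw [repl_apply' B hb, repl_apply hS] at hab
      have := congrArg Fin.val hab
      simp at this; omega
    · push Not at ha hb
      obtain ⟨p, rfl⟩ := ha
      obtain ⟨q, rfl⟩ := hb
      rw [repl_apply hS, repl_apply hS] at hab
      rw [hB (Fin.natAdd_injective r d hab)]
  have hc := card_image_iff.2 hinj
  refine ⟨sortIdx d (d + r) (repl S B) hc, invCount d (d + r) (repl S B), ?_, ?_⟩
  · calc (Finset.univ.filter fun t => d ≤ ((sortIdx d (d + r) (repl S B) hc).1 t).val).card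
        = ((Finset.univ.image (sortIdx d (d + r) (repl S B) hc).1).filter fun x => d ≤ x.val).card := by
          rw [Finset.filter_image, Finset.card_image_of_injective _ (sortIdx d (d + r) (repl S B) hc).2.injective]
      _ = ((Finset.univ.image (repl S B)).filter fun x => d ≤ x.val).card := by rw [image_sortIdx]
      _ = (Finset.univ.image S).card := by
          rw [Finset.filter_image, Finset.card_image_of_injective _ hinj]
          congr 1
          ext t
          simp only [Finset.mem_filter, Finset.mem_univ, true_and, Finset.mem_image]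
          constructor
          · intro h
            by_contra hc
            push Not at hc
            rw [repl_apply' B hc] at h
            have := t.isLt
            simp at h
            omega
          · rintro ⟨p, rfl⟩
            rw [repl_apply hS]; simp
      _ = k := by rw [Finset.card_image_of_injective _ hS, Finset.card_univ, Fintype.card_fin]
  · rw [← det_repl hS B, det_submatrix_sort _ _ hc, cellMinor]

theorem minor_mem_minorIdeal {R : Type u} [CommRing R] {a b : Type} [Fintype a] [Fintype b] (M : Matrix a b R)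
    (t : ℕ) : ∀ (k : ℕ) (f : Fin k → a) (g : Fin k → b), t ≤ k → (M.submatrix f g).det ∈ CAlgX.minorIdeal M t := by
  intro k
  induction k with
  | zero => intro f g h; obtain rfl : t = 0 := by omega
            exact Ideal.subset_span ⟨(f, g), rfl⟩
  | succ k ih =>
    intro f g h
    rcases h.eq_or_lt with rfl | h
    · exact Ideal.subset_span ⟨(f, g), rfl⟩
    · rw [Matrix.det_succ_row_zero]
      refine sum_mem fun j _ => Ideal.mul_mem_left _ _ ?_
      rw [Matrix.submatrix_submatrix]
      exact ih _ _ (by omega)

theorem bottom_count (θ : Idx d (d + r)) {t : ℕ} (hd : 0 < d) (ht : 0 < t) (htd : t ≤ d) :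
    d ≤ (θ.1 ⟨d - t, Nat.sub_lt hd ht⟩).val ↔ t ≤ (Finset.univ.filter fun s => d ≤ (θ.1 s).val).card := by
  constructor
  · intro h
    calc t = (Finset.Ici (⟨d - t, Nat.sub_lt hd ht⟩ : Fin d)).card := by rw [Fin.card_Ici]; simp; omega
      _ ≤ _ := Finset.card_le_card fun s hs => by
        rw [Finset.mem_filter]
        exact ⟨Finset.mem_univ _, h.trans (θ.2.monotone (Finset.mem_Ici.1 hs))⟩
  · intro h
    by_contra hc
    have : (Finset.univ.filter fun s => d ≤ (θ.1 s).val).card ≤ (Finset.Ioi (⟨d - t, Nat.sub_lt hd ht⟩ : Fin d)).card :=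
      Finset.card_le_card fun s hs => by
        rw [Finset.mem_Ioi]
        by_contra hle
        exact hc ((Finset.mem_filter.1 hs).2.trans (θ.2.monotone (not_lt.1 hle)))
    rw [Fin.card_Ioi] at this
    simp at this
    omega

theorem span_cellMinor_eq (t : ℕ) :
    Ideal.span {f : CellRing K d r | ∃ θ : Idx d (d + r),
      t ≤ (Finset.univ.filter fun s => d ≤ (θ.1 s).val).card ∧ f = cellMinor K d r θ} =
      CAlgX.minorIdeal (genMatrix K r d) t := by
  classical
  refine le_antisymm (Ideal.span_le.2 ?_) (Ideal.span_le.2 ?_)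
  · rintro _ ⟨θ, hθ, rfl⟩
    obtain ⟨k, S, B, ε, -, -, hk, he⟩ := exists_cellMinor_eq (K := K) θ
    rw [he]
    exact Ideal.mul_mem_left _ _ (minor_mem_minorIdeal _ _ _ _ _ (hk ▸ hθ))
  · rintro _ ⟨⟨B, S⟩, rfl⟩
    show ((genMatrix K r d).submatrix B S).det ∈ _
    by_cases hS : Function.Injective S
    swap
    · simp only [Function.Injective, not_forall] at hS
      obtain ⟨x, y, hxy, hne⟩ := hS
      rw [Matrix.det_zero_of_column_eq hne fun i => by simp [hxy]]
      exact zero_mem _
    by_cases hB : Function.Injective B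
    swap
    · simp only [Function.Injective, not_forall] at hB
      obtain ⟨x, y, hxy, hne⟩ := hB
      rw [Matrix.det_zero_of_row_eq hne (by funext i; simp [hxy])]
      exact zero_mem _
    obtain ⟨θ, ε, hθ, he⟩ := exists_eq_cellMinor (K := K) hS hB
    rw [he]
    exact Ideal.mul_mem_left _ _ (Ideal.subset_span ⟨θ, hθ.ge, rfl⟩)

end Groth.Agent.SMT
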