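import Groth.Prelude.Def_W4bk4grassmannianPl
import Mathlib.GroupTheory.Perm.Fin
import Mathlib.Data.Fintype.Sort
import Mathlib.RingTheory.MvPolynomial.Homogeneous
import Mathlib.Algebra.MvPolynomial.CommRing
import Mathlib.LinearAlgebra.Matrix.NonsingularInverse

/-! Combinatorics of I(d,n), signed sorting, minors of a matrix. -/

noncomputable section

namespace Groth.Agent.SMT

open MvPolynomial W4bk4grassmannian

universe u v

variable {d n : ℕ}

scoped instance : Fintype (Idx d n) := Fintype.ofFinite _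

theorem idx_le_iff {θ φ : Idx d n} : θ ≤ φ ↔ ∀ t, θ.1 t ≤ φ.1 t := Iff.rfl

theorem val_ge (θ : Idx d n) : ∀ t : Fin d, t.val ≤ (θ.1 t).val := by
  rintro ⟨k, hk⟩
  induction k with
  | zero => exact Nat.zero_le _
  | succ k ih =>
    have h1 := ih (by omega)
    have h2 : (θ.1 ⟨k, by omega⟩).val < (θ.1 ⟨k + 1, hk⟩).val := θ.2 (Nat.lt_succ_self k)
    simp only at h1 ⊢
    omega

/-- The sum of the entries. -/
def rowSum (θ : Idx d n) : ℕ := ∑ t, (θ.1 t).val

theorem rowSum_lt {θ φ : Idx d n} (h : θ < φ) : rowSum θ < rowSum φ := by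
  obtain ⟨t, ht⟩ : ∃ t, θ.1 t < φ.1 t := by
    by_contra hc
    push Not at hc
    exact h.not_ge hc
  exact Finset.sum_lt_sum (fun t _ => h.le t) ⟨t, Finset.mem_univ _, ht⟩

theorem rowSum_mono {θ φ : Idx d n} (h : θ ≤ φ) : rowSum θ ≤ rowSum φ :=
  Finset.sum_le_sum fun t _ => h t

theorem eq_of_le_of_rowSum {θ φ : Idx d n} (h : θ ≤ φ) (h' : rowSum φ ≤ rowSum θ) : θ = φ := by
  by_contra hne
  exact (rowSum_lt (lt_of_le_of_ne h hne)).not_ge h'

theorem sum_val_le_rowSum (θ : Idx d n) : ∑ t : Fin d, t.val ≤ rowSum θ :=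
  Finset.sum_le_sum fun t _ => val_ge θ t

theorem codeg_add (θ : Idx d n) : codeg θ + ∑ t : Fin d, t.val = rowSum θ := by
  rw [codeg, rowSum, ← Finset.sum_add_distrib]
  exact Finset.sum_congr rfl fun t _ => Nat.sub_add_cancel (val_ge θ t)

theorem codeg_lt {θ φ : Idx d n} (h : θ < φ) : codeg θ < codeg φ := by
  have := rowSum_lt h; have := codeg_add θ; have := codeg_add φ; omega

theorem le_sup_left (i j : Idx d n) : i ≤ sup i j := fun _ => le_max_left _ _
theorem le_sup_right (i j : Idx d n) : j ≤ sup i j := fun _ => le_max_right _ _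
theorem sup_le {i j k : Idx d n} (h : i ≤ k) (h' : j ≤ k) : sup i j ≤ k := fun t => max_le (h t) (h' t)
theorem inf_le_left (i j : Idx d n) : inf i j ≤ i := fun _ => min_le_left _ _
theorem inf_le_right (i j : Idx d n) : inf i j ≤ j := fun _ => min_le_right _ _
theorem le_inf {i j k : Idx d n} (h : k ≤ i) (h' : k ≤ j) : k ≤ inf i j := fun t => le_min (h t) (h' t)

theorem rowSum_sup_add_inf (i j : Idx d n) : rowSum (sup i j) + rowSum (inf i j) = rowSum i + rowSum j := by
  simp only [rowSum, ← Finset.sum_add_distrib]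
  refine Finset.sum_congr rfl fun t _ => ?_
  show (max (i.1 t) (j.1 t)).val + (min (i.1 t) (j.1 t)).val = _
  rcases le_total (i.1 t) (j.1 t) with h | h
  · rw [max_eq_right h, min_eq_left h, add_comm]
  · rw [max_eq_left h, min_eq_right h]

/-- The least index `(0, …, d-1)`. -/
def botIdx (h : d ≤ n) : Idx d n := ⟨fun t => ⟨t.val, lt_of_lt_of_le t.isLt h⟩, fun _ _ h' => h'⟩

theorem botIdx_le (h : d ≤ n) (θ : Idx d n) : botIdx h ≤ θ := fun t => val_ge θ t

/-! ### sorting -/

theorem card_image_iff {a : Fin d → Fin n} :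
    (Finset.univ.image a).card = d ↔ Function.Injective a := by
  conv_lhs => rhs; rw [← Fintype.card_fin d, ← Finset.card_univ]
  rw [Finset.card_image_iff, Finset.coe_univ, Set.injOn_univ]

theorem image_sortIdx (a : Fin d → Fin n) (h : (Finset.univ.image a).card = d) :
    Finset.univ.image (sortIdx d n a h).1 = Finset.univ.image a :=
  Finset.image_orderEmbOfFin_univ _ h

theorem sortIdx_eq (a : Fin d → Fin n) (h : (Finset.univ.image a).card = d) (θ : Idx d n)
    (hθ : ∀ t, a t ∈ Finset.univ.image θ.1) : sortIdx d n a h = θ := by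
  have hsub : Finset.univ.image a = Finset.univ.image θ.1 := by
    refine Finset.eq_of_subset_of_card_le (fun x hx => ?_) ?_
    · obtain ⟨t, -, rfl⟩ := Finset.mem_image.1 hx; exact hθ t
    · rw [h]; exact Finset.card_image_le.trans (by simp)
  refine Subtype.ext (Finset.orderEmbOfFin_unique h (fun t => ?_) θ.2).symm
  rw [hsub]
  exact Finset.mem_image_of_mem _ (Finset.mem_univ t)

theorem sortIdx_self (θ : Idx d n) (h : (Finset.univ.image θ.1).card = d) :
    sortIdx d n θ.1 h = θ :=
  sortIdx_eq _ h θ fun t => Finset.mem_image_of_mem _ (Finset.mem_univ t)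

theorem rowSum_sortIdx (a : Fin d → Fin n) (h : (Finset.univ.image a).card = d) :
    rowSum (sortIdx d n a h) = ∑ t, (a t).val := by
  have h1 := congrArg (fun s : Finset (Fin n) => ∑ x ∈ s, x.val) (image_sortIdx a h)
  beta_reduce at h1
  rwa [Finset.sum_image fun x _ y _ e => (sortIdx d n a h).2.injective e,
    Finset.sum_image fun x _ y _ e => card_image_iff.1 h e] at h1

theorem sign_eq_invCount (π : Equiv.Perm (Fin d)) :
    ((Equiv.Perm.sign π : ℤˣ) : ℤ) = (-1) ^ invCount d d π := by
  classical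
  rw [Equiv.Perm.sign_eq_prod_prod_Ioi, Units.coe_prod]
  have : invCount d d π = ∑ i, ((Finset.Ioi i).filter fun j => π j < π i).card := by
    rw [invCount, ← Finset.card_sigma]
    refine Finset.card_bij (fun p _ => ⟨p.1, p.2⟩) ?_ ?_ ?_
    · intro p hp
      simp only [Finset.mem_filter, Finset.mem_univ, true_and, Finset.mem_sigma, Finset.mem_Ioi] at hp ⊢
      exact hp
    · intro p _ q _ h
      simp only [Sigma.mk.injEq, heq_eq_eq] at h
      exact Prod.ext h.1 h.2
    · intro q hq
      simp only [Finset.mem_filter, Finset.mem_univ, true_and, Finset.mem_sigma, Finset.mem_Ioi] at hq ⊢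
      exact ⟨(q.1, q.2), hq, rfl⟩
  rw [this, ← Finset.prod_pow_eq_pow_sum]
  refine Finset.prod_congr rfl fun i _ => ?_
  rw [Units.coe_prod, Finset.prod_congr rfl (g := fun j => if π j < π i then (-1 : ℤ) else 1) fun j hj => ?_,
    Finset.prod_ite, Finset.prod_const, Finset.prod_const_one, mul_one]
  have hne : π i ≠ π j := fun h => (Finset.mem_Ioi.1 hj).ne (π.injective h)
  rcases hne.lt_or_gt with h | h
  · rw [if_pos h, if_neg h.not_gt]; rfl
  · rw [if_neg h.not_gt, if_pos h]; rfl

theorem exists_perm (a : Fin d → Fin n) (h : (Finset.univ.image a).card = d) :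
    ∃ π : Equiv.Perm (Fin d), (∀ t, a t = (sortIdx d n a h).1 (π t)) ∧
      invCount d d π = invCount d n a := by
  classical
  set θ := sortIdx d n a h
  have hex : ∀ t, ∃ u, θ.1 u = a t := fun t => by
    have : a t ∈ Finset.univ.image θ.1 := by
      rw [image_sortIdx]; exact Finset.mem_image_of_mem _ (Finset.mem_univ t)
    obtain ⟨u, -, hu⟩ := Finset.mem_image.1 this
    exact ⟨u, hu⟩
  choose f hf using hex
  have hfi : Function.Injective f := fun x y e => card_image_iff.1 h (by rw [← hf x, ← hf y, e])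
  refine ⟨Equiv.ofBijective f ((Finite.injective_iff_bijective).1 hfi), fun t => (hf t).symm, ?_⟩
  unfold invCount
  congr 1
  refine Finset.filter_congr fun p _ => and_congr_right fun _ => ?_
  rw [← hf p.1, ← hf p.2]
  exact θ.2.lt_iff_lt.symm

/-! ### minors of a matrix -/

variable {K : Type u} [CommRing K] {R : Type v} [CommRing R] [Algebra K R]

/-- Evaluation of the Plücker coordinates at the minors of a matrix over an algebra. -/
def plk (M : Matrix (Fin n) (Fin d) R) : PlRing K d n →ₐ[K] R :=
  MvPolynomial.aeval fun θ : Idx d n => (M.submatrix θ.1 id).det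

@[simp]
theorem plk_X (M : Matrix (Fin n) (Fin d) R) (θ : Idx d n) :
    plk (K := K) M (X θ) = (M.submatrix θ.1 id).det := MvPolynomial.aeval_X _ _

theorem det_submatrix_of_repeat (M : Matrix (Fin n) (Fin d) R) (a : Fin d → Fin n)
    (h : (Finset.univ.image a).card ≠ d) : (M.submatrix a id).det = 0 := by
  have : ¬ Function.Injective a := fun hi => h (card_image_iff.2 hi)
  simp only [Function.Injective, not_forall] at this
  obtain ⟨x, y, hxy, hne⟩ := this
  exact Matrix.det_zero_of_row_eq hne (by ext u; simp [Matrix.submatrix, hxy])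

theorem det_submatrix_sort (M : Matrix (Fin n) (Fin d) R) (a : Fin d → Fin n)
    (h : (Finset.univ.image a).card = d) :
    (M.submatrix a id).det = (-1) ^ invCount d n a * (M.submatrix (sortIdx d n a h).1 id).det := by
  obtain ⟨π, hπ, hinv⟩ := exists_perm a h
  have : M.submatrix a id = (M.submatrix (sortIdx d n a h).1 id).submatrix π id := by
    ext t u; simp [Matrix.submatrix, hπ t]
  rw [this, Matrix.det_permute, sign_eq_invCount, hinv]
  push_cast
  rfl

theorem plk_coord (M : Matrix (Fin n) (Fin d) R) (a : Fin d → Fin n) :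
    plk (K := K) M (coord K d n a) = (M.submatrix a id).det := by
  unfold coord
  split_ifs with h
  · rw [map_mul, map_pow, map_neg, map_one, plk_X, det_submatrix_sort M a h]
  · rw [map_zero, det_submatrix_of_repeat M a h]

theorem plk_comp {R' : Type*} [CommRing R'] [Algebra K R'] (φ : R →ₐ[K] R')
    (M : Matrix (Fin n) (Fin d) R) : φ.comp (plk M) = plk (M.map φ) := by
  refine MvPolynomial.algHom_ext fun θ => ?_
  rw [AlgHom.comp_apply, plk_X, plk_X, AlgHom.map_det]
  rfl

theorem pluckerMap_eq : pluckerMap K d n = plk (Matrix.of fun i t => (X (i, t) : MatRing K d n)) := rfl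

theorem evalMinors_eq (A : Matrix (Fin n) (Fin d) K) : evalMinors K d n A = plk A := rfl

end Groth.Agent.SMT
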