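import Groth.Agent.SMT.Prime
import Groth.Agent.SMT.Cell
import Mathlib.LinearAlgebra.Matrix.NonsingularInverse

/-! Ideals on the opposite big cell by dehomogenization. -/

noncomputable section

namespace Groth.Agent.SMT

open MvPolynomial W4bk4grassmannian

universe u

attribute [-simp] Fin.val_fin_le Fin.val_fin_lt

variable {d r : ℕ} {K : Type u}

/-- Restriction of Plücker polynomials to the opposite big cell. -/
def chi (K : Type u) [CommRing K] (d r : ℕ) : PlRing K d (d + r) →ₐ[K] CellRing K d r := plk (cellMatrix K d r)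

/-- The least index. -/
abbrev bot (d r : ℕ) : Idx d (d + r) := botIdx (Nat.le_add_right d r)

/-- The number of rows from the lower block. -/
def botCount (θ : Idx d (d + r)) : ℕ := (Finset.univ.filter fun s => d ≤ (θ.1 s).val).card

variable [Field K]

theorem chi_X (θ : Idx d (d + r)) : chi K d r (X θ) = cellMinor K d r θ := plk_X _ θ

theorem chi_bot : chi K d r (X (bot d r)) = 1 := by
  rw [chi, plk_X]
  refine Eq.trans ?_ (Matrix.det_one (n := Fin d) (R := CellRing K d r))
  congr 1
  ext s u : 1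
  simp only [Matrix.submatrix_apply, id, Matrix.one_apply]
  exact cellMatrix_castAdd s u

theorem botCount_bot : botCount (bot d r) = 0 := by
  rw [botCount, Finset.card_eq_zero, Finset.filter_eq_empty_iff]
  intro s _
  simp [botIdx]

theorem chi_surjective : Function.Surjective (chi K d r) := by
  rw [← AlgHom.range_eq_top, ← top_le_iff, ← MvPolynomial.adjoin_range_X, Algebra.adjoin_le_iff]
  rintro _ ⟨⟨a, u⟩, rfl⟩
  obtain ⟨θ, ε, -, he⟩ := exists_eq_cellMinor (K := K) (S := fun _ : Fin 1 => u)
    (fun _ _ _ => Subsingleton.elim _ _) (B := fun _ : Fin 1 => a) (fun _ _ _ => Subsingleton.elim _ _)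
  refine ⟨(-1) ^ ε * X θ, ?_⟩
  show chi K d r _ = _
  rw [map_mul, map_pow, map_neg, map_one, chi_X, ← he, Matrix.det_fin_one]
  rfl

theorem exists_homog_lift (c : CellRing K d r) :
    ∃ N0, ∀ N, N0 ≤ N → ∃ G : PlRing K d (d + r), G.IsHomogeneous N ∧ chi K d r G = c := by
  obtain ⟨F, rfl⟩ := chi_surjective c
  induction F using MvPolynomial.induction_on' with
  | monomial e a =>
    refine ⟨e.degree, fun N hN => ⟨monomial e a * X (bot d r) ^ (N - e.degree), ?_, ?_⟩⟩
    · have h := (isHomogeneous_monomial a (n := e.degree) (d := e) rfl).mul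
        ((isHomogeneous_X K (bot d r)).pow (N - e.degree))
      rwa [one_mul, Nat.add_sub_cancel' hN] at h
    · rw [map_mul, map_pow, chi_bot, one_pow, mul_one]
  | add p q hp hq =>
    obtain ⟨N1, h1⟩ := hp
    obtain ⟨N2, h2⟩ := hq
    refine ⟨max N1 N2, fun N hN => ?_⟩
    obtain ⟨G1, g1, e1⟩ := h1 N (le_of_max_le_left hN)
    obtain ⟨G2, g2, e2⟩ := h2 N (le_of_max_le_right hN)
    exact ⟨G1 + G2, g1.add g2, by rw [map_add, map_add, e1, e2]⟩

/-- The ideal of the cell cut out by the coordinates outside `D`. -/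
def cellIdeal (K : Type u) [Field K] (D : Set (Idx d (d + r))) : Ideal (CellRing K d r) :=
  Ideal.span ((fun θ => cellMinor K d r θ) '' Dᶜ)

theorem chi_mem_cellIdeal {D : Set (Idx d (d + r))} {p : PlRing K d (d + r)} (hp : p ∈ idealOn K D) :
    chi K d r p ∈ cellIdeal K D := by
  suffices idealOn K D ≤ (cellIdeal K D).comap (chi K d r) from this hp
  refine _root_.sup_le ?_ ?_
  · rw [plIdealTop, Ideal.span_le]
    rintro _ ⟨i, j, s, -, rfl⟩
    rw [SetLike.mem_coe, Ideal.mem_comap, chi, plk_shuffleRel]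
    exact zero_mem _
  · rw [Ideal.span_le]
    rintro _ ⟨θ, hθ, rfl⟩
    rw [SetLike.mem_coe, Ideal.mem_comap, chi_X]
    exact Ideal.subset_span ⟨θ, hθ, rfl⟩

theorem exists_homog_lift_mem {D : Set (Idx d (d + r))} {c : CellRing K d r} (hc : c ∈ cellIdeal K D) :
    ∃ N0, ∀ N, N0 ≤ N → ∃ G : PlRing K d (d + r), G.IsHomogeneous N ∧ chi K d r G = c ∧ G ∈ idealOn K D := by
  induction hc using Submodule.span_induction with
  | mem x hx =>
    obtain ⟨θ, hθ, rfl⟩ := hx
    refine ⟨1, fun N hN => ⟨X θ * X (bot d r) ^ (N - 1), ?_, ?_, Ideal.mul_mem_right _ _ (mem_idealOn_of_notMem hθ)⟩⟩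
    · have h := (isHomogeneous_X K θ).mul ((isHomogeneous_X K (bot d r)).pow (N - 1))
      rwa [one_mul, Nat.add_sub_cancel' hN] at h
    · rw [map_mul, map_pow, chi_bot, one_pow, mul_one, chi_X]
  | zero => exact ⟨0, fun N _ => ⟨0, isHomogeneous_zero _ _ _, map_zero _, zero_mem _⟩⟩
  | add x y _ _ hx hy =>
    obtain ⟨N1, h1⟩ := hx
    obtain ⟨N2, h2⟩ := hy
    refine ⟨max N1 N2, fun N hN => ?_⟩
    obtain ⟨G1, g1, e1, m1⟩ := h1 N (le_of_max_le_left hN)
    obtain ⟨G2, g2, e2, m2⟩ := h2 N (le_of_max_le_right hN)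
    exact ⟨G1 + G2, g1.add g2, by rw [map_add, e1, e2], add_mem m1 m2⟩
  | smul a x _ hx =>
    obtain ⟨N1, h1⟩ := hx
    obtain ⟨N2, h2⟩ := exists_homog_lift a
    refine ⟨N2 + N1, fun N hN => ?_⟩
    obtain ⟨G2, g2, e2⟩ := h2 N2 le_rfl
    obtain ⟨G1, g1, e1, m1⟩ := h1 (N - N2) (by omega)
    refine ⟨G2 * G1, ?_, by rw [map_mul, e2, e1]; rfl, Ideal.mul_mem_left _ _ m1⟩
    have h := g2.mul g1
    rwa [Nat.add_sub_cancel' (by omega : N2 ≤ N)] at h

theorem aeval_smul_homogeneous {σ : Type*} {F : Type*} [CommRing F] [Algebra K F] {G : MvPolynomial σ K} {N : ℕ}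
    (hG : G.IsHomogeneous N) (c : F) (v : σ → F) :
    aeval (fun s => c * v s) G = c ^ N * aeval v G := by
  conv_lhs => rw [G.as_sum, map_sum]
  conv_rhs => rw [G.as_sum, map_sum, Finset.mul_sum]
  refine Finset.sum_congr rfl fun e he => ?_
  simp only [aeval_monomial, Finsupp.prod, mul_pow, Finset.prod_mul_distrib, Finset.prod_pow_eq_pow_sum]
  have hdeg : ∑ x ∈ e.support, e x = N := (hG.degree_eq_sum_deg_support he).symm
  rw [hdeg]
  ring

theorem mem_of_chi_eq_zero [Infinite K] (hd : 0 < d) {G : PlRing K d (d + r)} {N : ℕ} (hG : G.IsHomogeneous N)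
    (h : chi K d r G = 0) : G ∈ idealOn K (Set.univ : Set (Idx d (d + r))) := by
  classical
  rw [idealOn_univ_eq hd (Nat.le_add_right d r), ← ker_pluckerMap, RingHom.mem_ker]
  let F := FractionRing (MatRing K d (d + r))
  let A : Matrix (Fin (d + r)) (Fin d) F := Matrix.of fun i t => algebraMap (MatRing K d (d + r)) F (X (i, t))
  set T := A.submatrix (bot d r).1 id
  have hT : T.det ≠ 0 := by
    have h1 : T.det = algebraMap (MatRing K d (d + r)) F (pluckerMap K d (d + r) (X (bot d r))) := by
      rw [pluckerMap_eq, plk_X, RingHom.map_det]; rfl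
    rw [h1, Ne, map_eq_zero_iff _ (IsFractionRing.injective _ F)]
    intro h0
    have := psi_X_ne_zero (K := K) (lo := fun _ => 0) (w := bot d r) (θ := bot d r) ⟨le_rfl, fun _ => Nat.zero_le _⟩
    rw [← restr_comp_pluckerMap, AlgHom.comp_apply, h0, map_zero] at this
    exact this rfl
  have hinv : T * T⁻¹ = 1 := Matrix.mul_nonsing_inv T (isUnit_iff_ne_zero.2 hT)
  let φ : CellRing K d r →ₐ[K] F := aeval fun p => (A * T⁻¹) (Fin.natAdd d p.1) p.2
  have hmat : (cellMatrix K d r).map φ = A * T⁻¹ := by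
    ext i u
    rw [Matrix.map_apply]
    induction i using Fin.addCases with
    | left i =>
      rw [cellMatrix_castAdd]
      have h2 := congrFun (congrFun hinv i) u
      rw [Matrix.one_apply, Matrix.mul_apply] at h2
      rw [Matrix.mul_apply]
      refine Eq.trans ?_ h2.symm
      split_ifs <;> simp
    | right i => rw [cellMatrix_natAdd, aeval_X]
  have e1 : φ (chi K d r G) = aeval (fun θ : Idx d (d + r) => T⁻¹.det * (A.submatrix θ.1 id).det) G := by
    rw [← AlgHom.comp_apply]
    congr 1
    refine MvPolynomial.algHom_ext fun θ => ?_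
    rw [AlgHom.comp_apply, chi, plk_X, aeval_X, AlgHom.map_det, AlgHom.mapMatrix_apply, ← Matrix.submatrix_map, hmat,
      show (A * T⁻¹).submatrix θ.1 id = A.submatrix θ.1 id * T⁻¹ by ext a b; simp [Matrix.mul_apply],
      Matrix.det_mul, mul_comm]
  have e2 : aeval (fun θ : Idx d (d + r) => (A.submatrix θ.1 id).det) G =
      algebraMap (MatRing K d (d + r)) F (pluckerMap K d (d + r) G) := by
    rw [← IsScalarTower.toAlgHom_apply K, ← AlgHom.comp_apply]
    congr 1
    refine MvPolynomial.algHom_ext fun θ => ?_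
    rw [AlgHom.comp_apply, aeval_X, pluckerMap_eq, plk_X, IsScalarTower.toAlgHom_apply, RingHom.map_det]
    rfl
  rw [h, map_zero, aeval_smul_homogeneous hG, e2] at e1
  have hc : T⁻¹.det ^ N ≠ 0 := pow_ne_zero _ fun h0 => by
    have h2 := congrArg Matrix.det hinv
    rw [Matrix.det_mul, h0, mul_zero, Matrix.det_one] at h2
    exact zero_ne_one h2
  exact IsFractionRing.injective (MatRing K d (d + r)) F (((mul_eq_zero.1 e1.symm).resolve_left hc).trans (map_zero _).symm)

/-- The comparison of a homogeneous ideal with its dehomogenization. -/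
theorem pow_mul_mem_idealOn [Infinite K] (hd : 0 < d) {D : Set (Idx d (d + r))} {G : PlRing K d (d + r)} {N : ℕ}
    (hG : G.IsHomogeneous N) (h : chi K d r G ∈ cellIdeal K D) :
    ∃ m, X (bot d r) ^ m * G ∈ idealOn K D := by
  obtain ⟨N0, h0⟩ := exists_homog_lift_mem h
  obtain ⟨H, hH, he, hm⟩ := h0 (N0 + N) (Nat.le_add_right _ _)
  refine ⟨N0, ?_⟩
  have hhom : (X (bot d r) ^ N0 * G).IsHomogeneous (N0 + N) := by
    have := ((isHomogeneous_X K (bot d r)).pow N0).mul hG
    rwa [one_mul] at this
  have := idealOn_anti (K := K) (Set.subset_univ D) (mem_of_chi_eq_zero hd (hhom.sub hH) (by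
    rw [map_sub, map_mul, map_pow, chi_bot, one_pow, one_mul, he, sub_self]))
  have h2 := add_mem this hm
  rwa [sub_add_cancel] at h2

theorem isPrime_cellIdeal [Infinite K] (hd : 0 < d) {D : Set (Idx d (d + r))} (hP : (idealOn K D).IsPrime)
    (hbot : (X (bot d r) : PlRing K d (d + r)) ∉ idealOn K D) : (cellIdeal K D).IsPrime := by
  have hX : ∀ m, (X (bot d r) : PlRing K d (d + r)) ^ m ∉ idealOn K D := fun m h => hbot (hP.mem_of_pow_mem m h)
  refine ⟨fun htop => ?_, fun {a b} hab => ?_⟩
  · obtain ⟨m, hm⟩ := pow_mul_mem_idealOn hd (D := D) (isHomogeneous_one (Idx d (d + r)) K) (by rw [map_one, htop]; trivial)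
    exact hX m (by rwa [mul_one] at hm)
  · obtain ⟨N1, h1⟩ := exists_homog_lift a
    obtain ⟨N2, h2⟩ := exists_homog_lift b
    obtain ⟨G1, g1, e1⟩ := h1 N1 le_rfl
    obtain ⟨G2, g2, e2⟩ := h2 N2 le_rfl
    obtain ⟨m, hm⟩ := pow_mul_mem_idealOn hd (D := D) (g1.mul g2) (by rw [map_mul, e1, e2]; exact hab)
    rcases hP.mem_or_mem hm with h | h
    · exact absurd h (hX m)
    rcases hP.mem_or_mem h with h | h
    · exact .inl (e1 ▸ chi_mem_cellIdeal h)
    · exact .inr (e2 ▸ chi_mem_cellIdeal h)

theorem cellIdeal_botCount (t : ℕ) :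
    cellIdeal K {θ : Idx d (d + r) | botCount θ < t} = CAlgX.minorIdeal (genMatrix K r d) t := by
  rw [← span_cellMinor_eq, cellIdeal]
  congr 1
  ext f
  simp only [Set.mem_image, Set.mem_compl_iff, Set.mem_ofPred_eq, not_lt, botCount]
  exact ⟨fun ⟨θ, h, e⟩ => ⟨θ, h, e.symm⟩, fun ⟨θ, h, e⟩ => ⟨θ, h, e.symm⟩⟩

theorem botCount_le (θ : Idx d (d + r)) : botCount θ ≤ min d r := by
  refine le_min ((Finset.card_le_univ _).trans (by simp)) ?_
  calc botCount θ = ((Finset.univ.filter fun s => d ≤ (θ.1 s).val).image θ.1).card :=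
        (Finset.card_image_of_injective _ θ.2.injective).symm
    _ ≤ (Finset.univ.image (Fin.natAdd d : Fin r → Fin (d + r))).card := Finset.card_le_card fun x hx => by
        obtain ⟨s, hs, rfl⟩ := Finset.mem_image.1 hx
        have := (θ.1 s).isLt
        have := (Finset.mem_filter.1 hs).2
        exact Finset.mem_image.2 ⟨⟨(θ.1 s).val - d, by omega⟩, Finset.mem_univ _, Fin.ext (by simp; omega)⟩
    _ ≤ r := Finset.card_image_le.trans (by simp)

/-- The Schubert index of the matrices of rank at most `c`. -/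
def rankIdx (d r c : ℕ) (hcd : c ≤ d) (hcr : c ≤ r) : Idx d (d + r) :=
  ⟨fun s => if s.val < d - c then ⟨c + s.val, by have := s.isLt; omega⟩ else ⟨r + s.val, by have := s.isLt; omega⟩,
    fun a b hab => by
      have : a.val < b.val := hab
      have := b.isLt
      rw [Fin.lt_def]
      simp only
      split_ifs <;> simp only <;> omega⟩

theorem botCount_le_iff {c : ℕ} (hcd : c ≤ d) (hcr : c ≤ r) (θ : Idx d (d + r)) :
    botCount θ ≤ c ↔ θ ≤ rankIdx d r c hcd hcr := by
  constructor
  · intro h s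
    show (θ.1 s).val ≤ ((rankIdx d r c hcd hcr).1 s).val
    simp only [rankIdx]
    split_ifs with hs <;> simp only
    · let top : Fin d := ⟨d - c - 1, by omega⟩
      have htop : (θ.1 top).val < d := by
        by_contra hc'
        have hsub : (Finset.Ici top).card ≤ botCount θ := Finset.card_le_card fun x hx => by
          rw [Finset.mem_filter]
          exact ⟨Finset.mem_univ _, (not_lt.1 hc').trans (θ.2.monotone (Finset.mem_Ici.1 hx))⟩
        rw [Fin.card_Ici] at hsub
        simp only [top] at hsub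
        omega
      have key : ∀ k : ℕ, ∀ s : Fin d, s.val + k = d - c - 1 → (θ.1 s).val + k ≤ (θ.1 top).val := by
        intro k
        induction k with
        | zero => intro s hs; rw [show s = top from Fin.ext (by simpa [top] using hs)]; simp
        | succ k ih =>
          intro s hs
          have h1 := ih ⟨s.val + 1, by omega⟩ (by simp; omega)
          have h2 : (θ.1 s).val < (θ.1 ⟨s.val + 1, by omega⟩).val := θ.2 (Fin.lt_def.2 (by simp))
          omega
      have := key (d - c - 1 - s.val) s (by omega)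
      omega
    · have := val_le θ s
      omega
  · intro h
    have hsub : (Finset.univ.filter fun s => d ≤ (θ.1 s).val).card ≤
        ((Finset.univ : Finset (Fin d)).filter fun s => d - c ≤ s.val).card := Finset.card_le_card fun s hs => by
      rw [Finset.mem_filter] at hs ⊢
      refine ⟨hs.1, ?_⟩
      have h1 : (θ.1 s).val ≤ ((rankIdx d r c hcd hcr).1 s).val := h s
      simp only [rankIdx] at h1
      split_ifs at h1 with h2
      · simp only at h1; omega
      · omega
    refine hsub.trans ?_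
    calc ((Finset.univ : Finset (Fin d)).filter fun s => d - c ≤ s.val).card
        = (((Finset.univ : Finset (Fin d)).filter fun s => d - c ≤ s.val).image Fin.val).card :=
          (Finset.card_image_of_injective _ Fin.val_injective).symm
      _ ≤ (Finset.Ico (d - c) d).card := Finset.card_le_card fun x hx => by
          obtain ⟨s, hs, rfl⟩ := Finset.mem_image.1 hx
          exact Finset.mem_Ico.2 ⟨(Finset.mem_filter.1 hs).2, s.isLt⟩
      _ ≤ c := by rw [Nat.card_Ico]; omega

theorem isPrime_minorIdeal [Infinite K] (hd : 0 < d) {t : ℕ} (ht : 0 < t) :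
    (CAlgX.minorIdeal (genMatrix K r d) t).IsPrime := by
  have h1 : {θ : Idx d (d + r) | botCount θ < t} =
      {θ | θ ≤ rankIdx d r (min (t - 1) (min d r)) (by omega) (by omega)} := Set.ext fun θ => by
    show botCount θ < t ↔ θ ≤ _
    rw [← botCount_le_iff]
    have := botCount_le θ
    omega
  rw [← cellIdeal_botCount, h1]
  exact isPrime_cellIdeal hd (isPrime_idealOn_le hd _) (X_notMem_idealOn hd (botIdx_le _ _))

theorem isRadical_cellIdeal [Infinite K] (hd : 0 < d) {D : Set (Idx d (d + r))} (hR : (idealOn K D).IsRadical) :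
    (cellIdeal K D).IsRadical := by
  intro a ⟨k, hk⟩
  obtain ⟨N, h1⟩ := exists_homog_lift a
  obtain ⟨G, g, e⟩ := h1 N le_rfl
  obtain ⟨m, hm⟩ := pow_mul_mem_idealOn hd (D := D) (g.pow k) (by rw [map_pow, e]; exact hk)
  have h2 : X (bot d r) * G ∈ idealOn K D := hR ⟨m + k, by
    rw [mul_pow, pow_add, pow_add]
    have := Ideal.mul_mem_right (X (bot d r) ^ k * G ^ m) _ hm
    rwa [show X (bot d r) ^ m * G ^ k * (X (bot d r) ^ k * G ^ m) =
      X (bot d r) ^ m * X (bot d r) ^ k * (G ^ m * G ^ k) by ring] at this⟩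
  have h3 := chi_mem_cellIdeal h2
  rwa [map_mul, chi_bot, one_mul, e] at h3

theorem cellIdeal_lt (w : Idx d (d + r)) :
    cellIdeal K {θ | θ ≤ w} ⊔ Ideal.span {cellMinor K d r w} = cellIdeal K {θ | θ < w} := by
  rw [cellIdeal, cellIdeal, ← Ideal.span_union, ← Set.image_singleton (f := fun θ => cellMinor K d r θ),
    ← Set.image_union]
  congr 2
  ext φ
  simp only [Set.mem_union, Set.mem_compl_iff, Set.mem_ofPred_eq, Set.mem_singleton_iff]
  constructor
  · rintro (h | rfl)
    · exact fun h' => h h'.le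
    · exact lt_irrefl _
  · intro h
    by_cases h' : φ = w
    · exact .inr h'
    · exact .inl fun h'' => h (lt_of_le_of_ne h'' h')

theorem cellMinor_rankIdx {c : ℕ} (hcd : c ≤ d) (hcr : c ≤ r) :
    ∃ ε : ℕ, ((genMatrix K r d).submatrix (fun p : Fin c => (⟨r - c + p.val, by omega⟩ : Fin r))
      (Fin.castLE hcd)).det = (-1) ^ ε * cellMinor K d r (rankIdx d r c hcd hcr) := by
  classical
  set S : Fin c → Fin d := Fin.castLE hcd
  set B : Fin c → Fin r := fun p => ⟨r - c + p.val, by omega⟩
  have hS : Function.Injective S := Fin.castLE_injective _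
  have key : ∀ t, repl S B t ∈ Finset.univ.image (rankIdx d r c hcd hcr).1 := by
    intro t
    by_cases ht : t.val < c
    · rw [show t = S ⟨t.val, ht⟩ from rfl, repl_apply hS]
      refine Finset.mem_image.2 ⟨⟨d - c + t.val, by omega⟩, Finset.mem_univ _, Fin.ext ?_⟩
      simp only [rankIdx, B, Fin.val_natAdd]
      rw [if_neg (by omega)]
      simp only; omega
    · rw [repl_apply' B (fun (p : Fin c) (e : S p = t) => ht (by rw [← e]; exact p.isLt))]
      refine Finset.mem_image.2 ⟨⟨t.val - c, by have := t.isLt; omega⟩, Finset.mem_univ _, Fin.ext ?_⟩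
      simp only [rankIdx, Fin.val_castAdd]
      rw [if_pos (by have := t.isLt; omega)]
      simp only; omega
  have hinj : Function.Injective (repl S B) := by
    intro a b hab
    have hab' := congrArg Fin.val hab
    by_cases ha : a.val < c <;> by_cases hb : b.val < c
    · rw [show a = S ⟨a.val, ha⟩ from rfl, show b = S ⟨b.val, hb⟩ from rfl, repl_apply hS, repl_apply hS] at hab'
      simp only [B, Fin.val_natAdd] at hab'
      exact Fin.ext (by omega)
    · rw [show a = S ⟨a.val, ha⟩ from rfl, repl_apply hS, repl_apply' B (fun (p : Fin c) (e : S p = b) => hb (by rw [← e]; exact p.isLt))] at hab'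
      simp only [B, Fin.val_natAdd, Fin.val_castAdd] at hab'
      omega
    · rw [show b = S ⟨b.val, hb⟩ from rfl, repl_apply hS, repl_apply' B (fun (p : Fin c) (e : S p = a) => ha (by rw [← e]; exact p.isLt))] at hab'
      simp only [B, Fin.val_natAdd, Fin.val_castAdd] at hab'
      omega
    · rw [repl_apply' B (fun (p : Fin c) (e : S p = a) => ha (by rw [← e]; exact p.isLt)), repl_apply' B (fun (p : Fin c) (e : S p = b) => hb (by rw [← e]; exact p.isLt))] at hab
      exact Fin.castAdd_injective _ _ hab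
  have hc := card_image_iff.2 hinj
  refine ⟨invCount d (d + r) (repl S B), ?_⟩
  rw [← det_repl hS B, det_submatrix_sort _ _ hc, sortIdx_eq _ hc _ key, cellMinor]

end Groth.Agent.SMT
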