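import Groth.Agent.SMT.Union
import Mathlib.Algebra.Order.Rearrangement
import Mathlib.Data.Finsupp.Weight

/-! Diagonal leading terms of products of minors. -/

noncomputable section

namespace Groth.Agent.SMT

open MvPolynomial W4bk4grassmannian

universe u

attribute [-simp] Fin.val_fin_le Fin.val_fin_lt

variable {d n : ℕ}

/-- The weight of a matrix variable. -/
def varW (p : Fin n × Fin d) : ℕ := p.2.val * p.1.val

/-- The diagonal weight of an index. -/
def diagW (θ : Idx d n) : ℕ := ∑ t, t.val * (θ.1 t).val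

/-- The diagonal monomial of a minor. -/
def diag1 (θ : Idx d n) : Fin n × Fin d →₀ ℕ := ∑ t, Finsupp.single (θ.1 t, t) 1

/-- The diagonal monomial of a product of minors. -/
abbrev diag (e : Idx d n →₀ ℕ) : Fin n × Fin d →₀ ℕ := Finsupp.weight diag1 e

theorem diag1_apply (θ : Idx d n) (i : Fin n) (t : Fin d) :
    diag1 θ (i, t) = if θ.1 t = i then 1 else 0 := by
  rw [diag1, Finsupp.finsetSum_apply, Finset.sum_eq_single t]
  · simp [Finsupp.single_apply]
  · intro u _ hu; simp [hu]
  · simp

theorem weight_diag1 (θ : Idx d n) : Finsupp.weight varW (diag1 θ) = diagW θ := by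
  rw [diag1, map_sum, diagW]
  exact Finset.sum_congr rfl fun t _ => by simp [Finsupp.weight_apply, varW]

theorem weight_diag (e : Idx d n →₀ ℕ) : Finsupp.weight varW (diag e) = Finsupp.weight diagW e := by
  induction e using Finsupp.induction_linear with
  | zero => simp
  | add f g hf hg => simp only [diag, map_add] at hf hg ⊢; rw [hf, hg]
  | single a b =>
    rw [diag, show Finsupp.weight diag1 (Finsupp.single a b) = b • diag1 a by simp [Finsupp.weight_apply],
      map_nsmul, weight_diag1]
    simp [Finsupp.weight_apply]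

theorem diagW_sup_add_inf (i j : Idx d n) : diagW (sup i j) + diagW (inf i j) = diagW i + diagW j := by
  simp only [diagW, ← Finset.sum_add_distrib]
  refine Finset.sum_congr rfl fun t _ => ?_
  show t.val * (max (i.1 t) (j.1 t)).val + t.val * (min (i.1 t) (j.1 t)).val = _
  rcases le_total (i.1 t) (j.1 t) with h | h
  · rw [max_eq_right h, min_eq_left h, add_comm]
  · rw [max_eq_left h, min_eq_right h]

theorem diag_pair (i j : Idx d n) :
    diag (Finsupp.single (sup i j) 1 + Finsupp.single (inf i j) 1) =
      diag (Finsupp.single i 1 + Finsupp.single j 1) := by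
  simp only [diag, map_add, Finsupp.weight_apply, Finsupp.sum_single_index, zero_smul, one_smul]
  ext ⟨a, t⟩
  simp only [Finsupp.add_apply, diag1_apply]
  change (if max (i.1 t) (j.1 t) = a then 1 else 0) + (if min (i.1 t) (j.1 t) = a then 1 else 0) = _
  rcases le_total (i.1 t) (j.1 t) with h | h
  · rw [max_eq_right h, min_eq_left h, add_comm]
  · rw [max_eq_left h, min_eq_right h]

theorem mem_support_diag {e : Idx d n →₀ ℕ} {i : Fin n} {t : Fin d} :
    (i, t) ∈ (diag e).support ↔ ∃ θ ∈ e.support, θ.1 t = i := by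
  rw [Finsupp.mem_support_iff, diag, Finsupp.weight_apply, Finsupp.sum, Finsupp.finsetSum_apply, Ne,
    Finset.sum_eq_zero_iff]
  push Not
  refine exists_congr fun θ => and_congr_right fun hθ => ?_
  simp [diag1_apply, Finsupp.mem_support_iff.1 hθ]

theorem eq_zero_of_diag (hd : 0 < d) {e : Idx d n →₀ ℕ} (h : diag e = 0) : e = 0 := by
  ext θ
  by_contra hne
  have : (θ.1 ⟨0, hd⟩, ⟨0, hd⟩) ∈ (diag e).support :=
    mem_support_diag.2 ⟨θ, Finsupp.mem_support_iff.2 hne, rfl⟩
  rw [h] at this
  simp at this

theorem diag_inj (hd : 0 < d) : ∀ {e e' : Idx d n →₀ ℕ}, IsStd e → IsStd e' → diag e = diag e' → e = e' := by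
  intro e
  induction hk : e.degree using Nat.strong_induction_on generalizing e with
  | _ k ih =>
    intro e' he he' h
    rcases e.support.eq_empty_or_nonempty with hne | hne
    · rw [Finsupp.support_eq_empty] at hne
      subst hne
      exact (eq_zero_of_diag hd (h.symm.trans (map_zero _))).symm
    have hne' : e'.support.Nonempty := by
      by_contra hc
      rw [Finset.not_nonempty_iff_eq_empty, Finsupp.support_eq_empty] at hc
      subst hc
      rw [eq_zero_of_diag hd (h.trans (map_zero _))] at hne
      simp at hne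
    obtain ⟨θ, hθ, hmax⟩ := exists_top he hne
    obtain ⟨θ', hθ', hmax'⟩ := exists_top he' hne'
    have hθθ : θ = θ' := by
      refine le_antisymm (fun t => ?_) (fun t => ?_)
      · obtain ⟨φ, hφ, hφt⟩ := mem_support_diag.1 (h ▸ mem_support_diag.2 ⟨θ, hθ, rfl⟩ :
          (θ.1 t, t) ∈ (diag e').support)
        exact hφt ▸ hmax' φ hφ t
      · obtain ⟨φ, hφ, hφt⟩ := mem_support_diag.1 (h.symm ▸ mem_support_diag.2 ⟨θ', hθ', rfl⟩ :
          (θ'.1 t, t) ∈ (diag e).support)
        exact hφt ▸ hmax φ hφ t
    subst hθθ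
    have e1 := tsub_add_cancel_of_le (Finsupp.single_le_iff.2 (Nat.one_le_iff_ne_zero.2 (Finsupp.mem_support_iff.1 hθ)))
    have e2 := tsub_add_cancel_of_le (Finsupp.single_le_iff.2 (Nat.one_le_iff_ne_zero.2 (Finsupp.mem_support_iff.1 hθ')))
    have hlt : (e - Finsupp.single θ 1).degree < k := by
      have := congrArg Finsupp.degree e1
      rw [map_add, Finsupp.degree_single] at this
      omega
    have := ih _ hlt rfl (isStd_mono tsub_le_self he) (isStd_mono tsub_le_self he') (by
      rw [← e1, ← e2] at h
      simp only [diag, map_add] at h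
      exact add_right_cancel h)
    rw [← e1, ← e2, this]

variable {K : Type u} [CommRing K]

/-- `m` is the strictly heaviest monomial of `f`, with coefficient `1`. -/
def Lead (f : MatRing K d n) (m : Fin n × Fin d →₀ ℕ) : Prop :=
  coeff m f = 1 ∧ ∀ m', coeff m' f ≠ 0 → m' ≠ m → Finsupp.weight varW m' < Finsupp.weight varW m

theorem Lead.one : Lead (1 : MatRing K d n) 0 := by
  classical
  refine ⟨coeff_zero_one, fun m' h hne => absurd ?_ h⟩
  rw [coeff_one, if_neg (Ne.symm hne)]

theorem Lead.le {f : MatRing K d n} {m m'} (h : Lead f m) (h' : coeff m' f ≠ 0) :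
    Finsupp.weight varW m' ≤ Finsupp.weight varW m := by
  rcases eq_or_ne m' m with rfl | hne
  · exact le_rfl
  · exact (h.2 _ h' hne).le

theorem Lead.mul {f g : MatRing K d n} {m m'} (hf : Lead f m) (hg : Lead g m') : Lead (f * g) (m + m') := by
  classical
  constructor
  · rw [coeff_mul, Finset.sum_eq_single (m, m'), hf.1, hg.1, one_mul]
    · rintro ⟨a, b⟩ hab hne
      rw [Finset.mem_antidiagonal] at hab
      by_contra h
      have ha := left_ne_zero_of_mul h
      have hb := right_ne_zero_of_mul h
      dsimp only at ha hb hab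
      have hw := congrArg (Finsupp.weight varW) hab
      simp only [map_add] at hw
      rcases eq_or_ne a m with rfl | hne'
      · exact hne (Prod.ext rfl (add_left_cancel hab))
      · have := hf.2 a ha hne'
        have := hg.le hb
        omega
    · intro h; apply absurd _ h; rw [Finset.mem_antidiagonal]
  · intro c hc hne
    rw [coeff_mul] at hc
    obtain ⟨⟨a, b⟩, hab, h⟩ := Finset.exists_ne_zero_of_sum_ne_zero hc
    rw [Finset.mem_antidiagonal] at hab
    subst hab
    have ha := left_ne_zero_of_mul h
    have hb := right_ne_zero_of_mul h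
    dsimp only at ha hb hne ⊢
    rw [map_add, map_add]
    rcases eq_or_ne a m with rfl | hne'
    · have := hg.2 b hb (fun e => hne (by rw [e]))
      omega
    · have := hf.2 a ha hne'
      have := hg.le hb
      omega

theorem Lead.pow {f : MatRing K d n} {m} (hf : Lead f m) : ∀ k : ℕ, Lead (f ^ k) (k • m)
  | 0 => by simpa using Lead.one
  | k + 1 => by rw [pow_succ, add_smul, one_smul]; exact (Lead.pow hf k).mul hf

theorem Lead.prod {ι : Type*} (s : Finset ι) {f : ι → MatRing K d n} {m : ι → Fin n × Fin d →₀ ℕ}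
    (h : ∀ i ∈ s, Lead (f i) (m i)) : Lead (∏ i ∈ s, f i) (∑ i ∈ s, m i) := by
  classical
  induction s using Finset.induction_on with
  | empty => simpa using Lead.one
  | insert a s ha ih =>
    rw [Finset.prod_insert ha, Finset.sum_insert ha]
    exact (h a (Finset.mem_insert_self a s)).mul (ih fun i hi => h i (Finset.mem_insert_of_mem hi))

theorem lead_minor {lo : Fin d → ℕ} {w θ : Idx d n} (h : θ ∈ band lo w) :
    Lead (psi K lo w (X θ)) (diag1 θ) := by
  classical
  have hex : psi K lo w (X θ) = ∑ σ : Equiv.Perm (Fin d),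
      if ∀ u, lo u ≤ (θ.1 (σ u)).val ∧ θ.1 (σ u) ≤ w.1 u then
        ((Equiv.Perm.sign σ : ℤ) : K) • monomial (∑ u, Finsupp.single (θ.1 (σ u), u) 1) (1 : K) else 0 := by
    rw [psi, plk_X, Matrix.det_apply]
    refine Finset.sum_congr rfl fun σ _ => ?_
    split_ifs with hσ
    · rw [monomial_sum_one, Int.cast_smul_eq_zsmul, Units.smul_def]
      congr 1
      refine Finset.prod_congr rfl fun u _ => ?_
      simp [genB, hσ u, X]
    · push Not at hσ
      obtain ⟨u, hu⟩ := hσ
      rw [Finset.prod_eq_zero (Finset.mem_univ u), smul_zero]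
      simp only [Matrix.submatrix_apply, id, genB, Matrix.of_apply]
      exact if_neg fun hh => (hu hh.1).not_ge hh.2
  have hlt : ∀ σ : Equiv.Perm (Fin d), σ ≠ 1 →
      Finsupp.weight varW (∑ u, Finsupp.single (θ.1 (σ u), u) 1) < Finsupp.weight varW (diag1 θ) := by
    intro σ hσ
    rw [weight_diag1, map_sum, diagW]
    have hmono : Monovary (fun u : Fin d => u.val) (fun u => (θ.1 u).val) := fun a b hab =>
      le_of_lt (Fin.lt_def.1 (θ.2.lt_iff_lt.1 (Fin.lt_def.2 hab)))
    refine lt_of_eq_of_lt (Finset.sum_congr rfl fun u _ => ?_)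
      ((hmono.sum_mul_comp_perm_lt_sum_mul_iff (σ := σ)).2 fun hm => hσ ?_)
    · simp [Finsupp.weight_apply, varW]
    · have hs : StrictMono σ := by
        intro a b hab
        by_contra hc
        rcases lt_or_eq_of_le (not_lt.1 hc) with h' | h'
        · have := hm (i := b) (j := a) (Fin.lt_def.1 (θ.2 h'))
          exact absurd (Fin.lt_def.1 hab) (not_lt.2 this)
        · exact hab.ne (σ.injective h').symm
      ext u : 1
      rw [Equiv.Perm.one_apply]
      exact congrFun ((hs.range_inj strictMono_id).1 (by simp)) u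
  have hne : ∀ σ : Equiv.Perm (Fin d), σ ≠ 1 → (∑ u, Finsupp.single (θ.1 (σ u), u) 1) ≠ diag1 θ :=
    fun σ hσ e => (hlt σ hσ).ne (by rw [e])
  rw [hex]
  constructor
  · rw [coeff_sum, Finset.sum_eq_single 1]
    · rw [if_pos (show ∀ u, lo u ≤ (θ.1 ((1 : Equiv.Perm (Fin d)) u)).val ∧ θ.1 ((1 : Equiv.Perm (Fin d)) u) ≤ w.1 u from
        fun u => ⟨h.2 u, h.1 u⟩), coeff_smul, coeff_monomial]
      simp [diag1]
    · intro σ _ hσ
      split_ifs
      · rw [coeff_smul, coeff_monomial, if_neg (hne σ hσ), smul_zero]
      · exact coeff_zero _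
    · simp
  · intro m' hm' hne'
    rw [coeff_sum] at hm'
    obtain ⟨σ, -, hσ⟩ := Finset.exists_ne_zero_of_sum_ne_zero hm'
    split_ifs at hσ
    · rw [coeff_smul, coeff_monomial] at hσ
      split_ifs at hσ with he
      · subst he
        exact hlt σ fun e => hne' (by subst e; rfl)
      · simp at hσ
    · simp at hσ

theorem lead_monomial {lo : Fin d → ℕ} {w : Idx d n} {e : Idx d n →₀ ℕ} (h : ↑e.support ⊆ band lo w) :
    Lead (psi K lo w (monomial e 1)) (diag e) := by
  rw [monomial_eq, map_one, one_mul, Finsupp.prod, map_prod, diag, Finsupp.weight_apply]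
  exact Lead.prod _ fun θ hθ => by rw [map_pow]; exact (lead_minor (h hθ)).pow _

theorem coeff_psi_diag (hd : 0 < d) {lo : Fin d → ℕ} {w : Idx d n} {q : PlRing K d n}
    (hq : q ∈ restrictSupport K (stdIn (band lo w))) {e : Idx d n →₀ ℕ} (he : e ∈ q.support)
    (hmax : ∀ g ∈ q.support, Finsupp.weight diagW g ≤ Finsupp.weight diagW e) :
    coeff (diag e) (psi K lo w q) = q.coeff e := by
  classical
  conv_lhs => rw [q.as_sum, map_sum, coeff_sum]
  rw [Finset.sum_eq_single e]
  · rw [show monomial e (q.coeff e) = q.coeff e • monomial e (1 : K) by rw [smul_monomial, smul_eq_mul, mul_one],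
      map_smul, coeff_smul, (lead_monomial (hq (Finset.mem_coe.2 he)).2).1, smul_eq_mul, mul_one]
  · intro g hg hne
    rw [show monomial g (q.coeff g) = q.coeff g • monomial g (1 : K) by rw [smul_monomial, smul_eq_mul, mul_one],
      map_smul, coeff_smul, smul_eq_mul]
    refine mul_eq_zero_of_right _ ?_
    by_contra hc
    have hl := lead_monomial (K := K) (hq (Finset.mem_coe.2 hg)).2
    have hne' : diag e ≠ diag g := fun he' =>
      hne (diag_inj hd (hq (Finset.mem_coe.2 hg)).1 (hq (Finset.mem_coe.2 he)).1 he'.symm)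
    have := hl.2 _ hc hne'
    rw [weight_diag, weight_diag] at this
    exact absurd this (not_lt.2 (hmax g hg))
  · exact fun h => absurd he h

theorem weight_lt_of_psi (hd : 0 < d) {lo : Fin d → ℕ} {w : Idx d n} {q : PlRing K d n}
    (hq : q ∈ restrictSupport K (stdIn (band lo w))) {N : ℕ}
    (hF : ∀ m, coeff m (psi K lo w q) ≠ 0 → Finsupp.weight varW m < N) :
    ∀ e ∈ q.support, Finsupp.weight diagW e < N := by
  intro e he
  obtain ⟨g, hg, hmax⟩ := q.support.exists_max_image (fun g => Finsupp.weight diagW g) ⟨e, he⟩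
  refine (hmax e he).trans_lt ?_
  have := hF (diag g) (by rw [coeff_psi_diag hd hq hg hmax]; exact mem_support_iff.1 hg)
  rwa [weight_diag] at this

/-- The weight of a straightened monomial does not exceed the diagonal weight. -/
theorem weight_le_of_monomial (hd : 0 < d) {lo : Fin d → ℕ} {w : Idx d n} {q : PlRing K d n}
    (hq : q ∈ restrictSupport K (stdIn (band lo w))) {e : Idx d n →₀ ℕ} (he : ↑e.support ⊆ band lo w)
    (h : psi K lo w q = psi K lo w (monomial e 1)) :
    ∀ g ∈ q.support, Finsupp.weight diagW g ≤ Finsupp.weight diagW e := fun g hg =>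
  Nat.lt_succ_iff.1 <| weight_lt_of_psi hd hq (N := Finsupp.weight diagW e + 1) (fun m hm => by
    rw [h] at hm
    have := (lead_monomial he).le hm
    rw [weight_diag] at this
    omega) g hg

/-- Straightening of a pair: besides `sup * inf` only lighter terms occur. -/
theorem weight_lt_of_pair (hd : 0 < d) {lo : Fin d → ℕ} {w i j : Idx d n}
    (hi : i ∈ band lo w) (hj : j ∈ band lo w) {q : PlRing K d n}
    (hq : q ∈ restrictSupport K (stdIn (band lo w)))
    (h : psi K lo w q = psi K lo w (X i * X j - X (sup i j) * X (inf i j))) :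
    ∀ g ∈ q.support, Finsupp.weight diagW g < diagW i + diagW j := by
  classical
  have hs : sup i j ∈ band lo w := ⟨sup_le hi.1 hj.1, fun t => (hi.2 t).trans (le_sup_left i j t)⟩
  have ht : inf i j ∈ band lo w := ⟨(inf_le_left i j).trans hi.1, fun t => by
    show lo t ≤ (min (i.1 t) (j.1 t)).val
    rcases le_total (i.1 t) (j.1 t) with h | h
    · rw [min_eq_left h]; exact hi.2 t
    · rw [min_eq_right h]; exact hj.2 t⟩
  have hsub : ∀ a b, a ∈ band lo w → b ∈ band lo w →
      (↑(Finsupp.single a 1 + Finsupp.single b 1 : Idx d n →₀ ℕ).support : Set (Idx d n)) ⊆ band lo w := by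
    intro a b ha hb c hc
    have := Finsupp.support_add (Finset.mem_coe.1 hc)
    rw [Finset.mem_union] at this
    rcases this with h | h <;> have := Finsupp.support_single_subset h <;> simp at this <;> subst this <;> assumption
  have hl1 := lead_monomial (K := K) (hsub i j hi hj)
  have hl2 := lead_monomial (K := K) (hsub _ _ hs ht)
  rw [diag_pair] at hl2
  refine fun g hg => weight_lt_of_psi hd hq (N := diagW i + diagW j) (fun m hm => ?_) g hg
  have hXX : ∀ a b : Idx d n, (X a * X b : PlRing K d n) = monomial (Finsupp.single a 1 + Finsupp.single b 1) 1 :=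
    fun a b => by simp [X, monomial_mul]
  rw [h, map_sub, coeff_sub, hXX, hXX] at hm
  have hW : diagW i + diagW j = Finsupp.weight varW (diag (Finsupp.single i 1 + Finsupp.single j 1)) := by
    rw [weight_diag, map_add, Finsupp.weight_apply, Finsupp.weight_apply, Finsupp.sum_single_index (by simp),
      Finsupp.sum_single_index (by simp), one_smul, one_smul]
  rw [hW]
  rcases eq_or_ne m (diag (Finsupp.single i 1 + Finsupp.single j 1)) with rfl | hne
  · rw [hl1.1, hl2.1, sub_self] at hm; exact absurd rfl hm
  · by_contra hc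
    exact hm (by rw [not_ne_iff.1 fun h1 => hc (hl1.2 m h1 hne), not_ne_iff.1 fun h2 => hc (hl2.2 m h2 hne), sub_zero])

end Groth.Agent.SMT
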