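import Groth.Agent.SMT.Straighten
import Mathlib.Algebra.MvPolynomial.Division
import Mathlib.RingTheory.Ideal.Maps
import Mathlib.Algebra.MvPolynomial.NoZeroDivisors

/-! Linear independence of standard monomials on Schubert and Richardson cones. -/

noncomputable section

namespace Groth.Agent.SMT

open MvPolynomial W4bk4grassmannian

universe u

attribute [-simp] Fin.val_fin_le Fin.val_fin_lt

variable {d n : ℕ} {K : Type u} [CommRing K]

theorem det_eq_zero_of_block {R : Type*} [CommRing R] (M : Matrix (Fin d) (Fin d) R) (t : Fin d)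
    (h : ∀ s u, t ≤ s → u ≤ t → M s u = 0) : M.det = 0 := by
  rw [Matrix.det_apply]
  refine Finset.sum_eq_zero fun σ _ => ?_
  obtain ⟨u, hu, hσu⟩ : ∃ u, u ≤ t ∧ t ≤ σ u := by
    by_contra hc
    push Not at hc
    have : ((Finset.Iic t).image σ).card ≤ (Finset.Iio t).card := Finset.card_le_card fun x hx => by
      obtain ⟨u, hu, rfl⟩ := Finset.mem_image.1 hx
      exact Finset.mem_Iio.2 (hc u (Finset.mem_Iic.1 hu))
    rw [Finset.card_image_of_injective _ σ.injective, Fin.card_Iic, Fin.card_Iio] at this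
    omega
  have h0 : ∏ i, M (σ i) i = 0 := Finset.prod_eq_zero (Finset.mem_univ u) (h _ _ hσu hu)
  simp [h0]

theorem det_eq_zero_of_block' {R : Type*} [CommRing R] (M : Matrix (Fin d) (Fin d) R) (t : Fin d)
    (h : ∀ s u, s ≤ t → t ≤ u → M s u = 0) : M.det = 0 := by
  rw [← Matrix.det_transpose]
  exact det_eq_zero_of_block M.transpose t fun s u hs hu => h u s hu hs

variable (K)

/-- The band matrix: column `t` is supported in the rows `lo t ≤ i ≤ w t`. -/
def genB (lo : Fin d → ℕ) (w : Idx d n) : Matrix (Fin n) (Fin d) (MatRing K d n) :=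
  Matrix.of fun i t => if lo t ≤ i.val ∧ i ≤ w.1 t then X (i, t) else 0

/-- The Plücker map of the band. -/
def psi (lo : Fin d → ℕ) (w : Idx d n) : PlRing K d n →ₐ[K] MatRing K d n := plk (genB K lo w)

/-- The interval `{θ | lo ≤ θ ≤ w}`. -/
def band (lo : Fin d → ℕ) (w : Idx d n) : Set (Idx d n) := {θ | θ ≤ w ∧ ∀ t, lo t ≤ (θ.1 t).val}

theorem band_zero (w : Idx d n) : band (fun _ => 0) w = {θ | θ ≤ w} := by
  ext θ; simp [band]

/-- Setting the entries outside a smaller band to zero. -/
def restr (lo : Fin d → ℕ) (w : Idx d n) : MatRing K d n →ₐ[K] MatRing K d n :=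
  aeval fun p => genB K lo w p.1 p.2

variable {K}

theorem restr_comp_psi {lo lo' : Fin d → ℕ} {w w' : Idx d n} (hlo : ∀ t, lo t ≤ lo' t) (hw : w' ≤ w) :
    (restr K lo' w').comp (psi K lo w) = psi K lo' w' := by
  rw [psi, plk_comp, psi]
  congr 1
  ext i t : 1
  simp only [Matrix.map_apply, genB, Matrix.of_apply, restr]
  split_ifs with h1 h2 h2
  · simp [genB, h2]
  · simp [genB, h2]
  · exact absurd ⟨(hlo t).trans h2.1, h2.2.trans (hw t)⟩ h1
  · simp

theorem restr_comp_pluckerMap (lo : Fin d → ℕ) (w : Idx d n) :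
    (restr K lo w).comp (pluckerMap K d n) = psi K lo w := by
  rw [pluckerMap_eq, plk_comp, psi]
  congr 1
  ext i t : 1
  simp [restr]

theorem psi_X_eq_zero {lo : Fin d → ℕ} (hlo : Monotone lo) {w θ : Idx d n} (h : θ ∉ band lo w) :
    psi K lo w (X θ) = 0 := by
  simp only [band, Set.mem_ofPred_eq, not_and_or, idx_le_iff, not_forall, not_le] at h
  rw [psi, plk_X]
  rcases h with ⟨t, ht⟩ | ⟨t, ht⟩
  · refine det_eq_zero_of_block _ t fun s u hs hu => ?_
    simp only [Matrix.submatrix_apply, genB, Matrix.of_apply, id]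
    exact if_neg fun h => ((w.2.monotone hu).trans_lt (ht.trans_le (θ.2.monotone hs))).not_ge h.2
  · refine det_eq_zero_of_block' _ t fun s u hs hu => ?_
    simp only [Matrix.submatrix_apply, genB, Matrix.of_apply, id]
    exact if_neg fun h =>
      ((Fin.le_def.1 (θ.2.monotone hs)).trans_lt (ht.trans_le (hlo hu))).not_ge h.1

/-- The coordinate point of `θ`. -/
def idPoint (θ : Idx d n) : Fin n × Fin d → K := fun p => if p.1 = θ.1 p.2 then 1 else 0

theorem eval_idPoint {lo : Fin d → ℕ} {w θ : Idx d n} (h : θ ∈ band lo w) :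
    aeval (idPoint (K := K) θ) (psi K lo w (X θ)) = 1 := by
  rw [psi, plk_X, AlgHom.map_det]
  refine Eq.trans ?_ (Matrix.det_one (n := Fin d) (R := K))
  congr 1
  ext s u
  simp only [AlgHom.mapMatrix_apply, Matrix.map_apply, Matrix.submatrix_apply, id, genB, Matrix.of_apply]
  by_cases hsu : s = u
  · subst hsu
    rw [if_pos ⟨h.2 s, h.1 s⟩, aeval_X, idPoint, Matrix.one_apply_eq, if_pos rfl]
  · rw [Matrix.one_apply_ne hsu]
    split_ifs
    · rw [aeval_X, idPoint, if_neg (fun e => hsu (θ.2.injective e))]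
    · rw [map_zero]

theorem psi_X_ne_zero [Nontrivial K] {lo : Fin d → ℕ} {w θ : Idx d n} (h : θ ∈ band lo w) :
    psi K lo w (X θ) ≠ 0 := fun h0 => by
  have := eval_idPoint (K := K) h
  rw [h0, map_zero] at this
  exact zero_ne_one this

theorem constantCoeff_psi (hd : 0 < d) (lo : Fin d → ℕ) (w : Idx d n) (p : PlRing K d n) :
    aeval (fun _ => (0 : K)) (psi K lo w p) = constantCoeff p := by
  have hzero : (aeval (fun _ => (0 : K))).comp (psi K lo w) = aeval (fun _ : Idx d n => (0 : K)) := by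
    refine MvPolynomial.algHom_ext fun θ => ?_
    rw [AlgHom.comp_apply, psi, plk_X, AlgHom.map_det, aeval_X]
    refine Matrix.det_eq_zero_of_row_eq_zero (n := Fin d) ⟨0, hd⟩ fun u => ?_
    simp only [AlgHom.mapMatrix_apply, Matrix.map_apply, Matrix.submatrix_apply, genB, Matrix.of_apply]
    split_ifs <;> simp
  rw [← AlgHom.comp_apply, hzero]
  exact aeval_zero' p

theorem isStd_mono {e e' : Idx d n →₀ ℕ} (h : e' ≤ e) (he : IsStd e) : IsStd e' :=
  he.mono (Finset.coe_subset.2 (Finsupp.support_mono h))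

theorem exists_top {e : Idx d n →₀ ℕ} (he : IsStd e) (hne : e.support.Nonempty) :
    ∃ θ ∈ e.support, ∀ φ ∈ e.support, φ ≤ θ := by
  obtain ⟨θ, hθ, hmax⟩ := e.support.exists_maximal hne
  refine ⟨θ, hθ, fun φ hφ => ?_⟩
  rcases he.total hφ hθ with h | h
  · exact h
  · exact hmax hφ h

theorem indep [IsDomain K] (hd : 0 < d) {lo : Fin d → ℕ} (hlo : Monotone lo) :
    ∀ (w : Idx d n), w ∈ band lo w → ∀ (p : PlRing K d n), p ∈ restrictSupport K (stdIn (band lo w)) →
      psi K lo w p = 0 → p = 0 := by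
  classical
  intro w
  induction hk : rowSum w using Nat.strong_induction_on generalizing w with
  | _ k ih =>
    intro hw p hp hψ
    induction hN : p.totalDegree using Nat.strong_induction_on generalizing p with
    | _ N ihp =>
      have hsupp : ∀ e ∈ p.support, IsStd e ∧ ↑e.support ⊆ band lo w := fun e he =>
        hp (Finset.mem_coe.2 he)
      have hlow : ∀ φ ∈ band lo w, φ ≠ w → ∀ e : Idx d n →₀ ℕ, (∀ θ ∈ e.support, θ ≤ φ) → p.coeff e = 0 := by
        intro φ hφ hne e he
        set q : PlRing K d n := ∑ g ∈ p.support.filter (fun g => ∀ θ ∈ g.support, θ ≤ φ), monomial g (p.coeff g)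
        have hq : psi K lo φ q = 0 := by
          have h1 : psi K lo φ p = 0 := by
            rw [← restr_comp_psi (K := K) (fun _ => le_rfl) hφ.1, AlgHom.comp_apply, hψ, map_zero]
          rw [← h1]
          conv_rhs => rw [p.as_sum]
          rw [map_sum, map_sum]
          refine Finset.sum_subset (Finset.filter_subset _ _) fun g hg hg' => ?_
          simp only [Finset.mem_filter, hg, true_and, not_forall] at hg'
          obtain ⟨θ, hθ, hθφ⟩ := hg'
          obtain ⟨g', rfl⟩ : ∃ g', g = Finsupp.single θ 1 + g' := ⟨g - Finsupp.single θ 1,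
            (add_tsub_cancel_of_le (Finsupp.single_le_iff.2 (Nat.one_le_iff_ne_zero.2 (Finsupp.mem_support_iff.1 hθ)))).symm⟩
          rw [show monomial (Finsupp.single θ 1 + g') (p.coeff _) = X θ * monomial g' (p.coeff (Finsupp.single θ 1 + g')) by
            simp [X, monomial_mul], map_mul, psi_X_eq_zero hlo fun h => hθφ h.1, zero_mul]
        have hqs : q ∈ restrictSupport K (stdIn (band lo φ)) := by
          refine sum_mem fun g hg => (monomial_mem_restrictSupport K).2 (.inl ?_)
          obtain ⟨hg1, hg2⟩ := Finset.mem_filter.1 hg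
          exact ⟨(hsupp g hg1).1, fun θ hθ => ⟨hg2 θ hθ, ((hsupp g hg1).2 hθ).2⟩⟩
        have := ih _ (hk ▸ rowSum_lt (lt_of_le_of_ne hφ.1 hne)) φ rfl ⟨le_rfl, hφ.2⟩ q hqs hq
        have hc := congrArg (coeff e) this
        simp only [q, coeff_sum, coeff_monomial, Finset.sum_ite_eq', coeff_zero, Finset.mem_filter] at hc
        by_cases hep : e ∈ p.support
        · rwa [if_pos ⟨hep, he⟩] at hc
        · exact notMem_support_iff.1 hep
      have hc0 : constantCoeff p = 0 := by rw [← constantCoeff_psi hd lo w, hψ, map_zero]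
      have hall : ∀ e ∈ p.support, w ∈ e.support := by
        intro e he
        by_contra hwe
        rcases e.support.eq_empty_or_nonempty with h | h
        · rw [Finsupp.support_eq_empty] at h
          subst h
          exact mem_support_iff.1 he (by rw [← constantCoeff_eq]; exact hc0)
        · obtain ⟨θ, hθ, hmax⟩ := exists_top (hsupp e he).1 h
          exact mem_support_iff.1 he
            (hlow θ ((hsupp e he).2 hθ) (fun h => hwe (h ▸ hθ)) e hmax)
      obtain ⟨q, hq⟩ : (X w : PlRing K d n) ∣ p := by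
        conv_rhs => rw [p.as_sum]
        refine Finset.dvd_sum fun e he => ⟨monomial (e - Finsupp.single w 1) (p.coeff e), ?_⟩
        rw [X, monomial_mul, one_mul, add_tsub_cancel_of_le]
        exact Finsupp.single_le_iff.2 (Nat.one_le_iff_ne_zero.2 (Finsupp.mem_support_iff.1 (hall e he)))
      rcases eq_or_ne q 0 with rfl | hq0
      · rw [hq, mul_zero]
      exfalso
      refine hq0 (ihp q.totalDegree ?_ q ?_ ?_ rfl)
      · rw [← hN, hq, totalDegree_mul_of_isDomain (X_ne_zero w) hq0, totalDegree_X]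
        omega
      · intro e he
        have h1 : Finsupp.single w 1 + e ∈ p.support := by
          rw [hq, mem_support_iff, coeff_X_mul]; exact mem_support_iff.1 he
        have h2 : e ≤ Finsupp.single w 1 + e := le_add_self
        exact ⟨isStd_mono h2 (hsupp _ h1).1,
          (Finset.coe_subset.2 (Finsupp.support_mono h2)).trans (hsupp _ h1).2⟩
      · rw [hq, map_mul, mul_eq_zero] at hψ
        exact hψ.resolve_left (psi_X_ne_zero hw)

theorem indep_union [IsDomain K] (hd : 0 < d) {lo : Fin d → ℕ} (hlo : Monotone lo) {ι : Type*} (w : ι → Idx d n)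
    (hw : ∀ i, w i ∈ band lo (w i)) [Nonempty ι] (p : PlRing K d n)
    (hp : p ∈ restrictSupport K (stdIn (⋃ i, band lo (w i)))) (hψ : ∀ i, psi K lo (w i) p = 0) : p = 0 := by
  classical
  ext e
  rw [coeff_zero]
  by_contra he
  have he' := hp (Finset.mem_coe.2 (mem_support_iff.2 he))
  obtain ⟨i, hi⟩ : ∃ i, ↑e.support ⊆ band lo (w i) := by
    rcases e.support.eq_empty_or_nonempty with h | h
    · exact ⟨Classical.arbitrary ι, by simp [h]⟩
    · obtain ⟨θ, hθ, hmax⟩ := exists_top he'.1 h
      obtain ⟨i, hi⟩ := Set.mem_iUnion.1 (he'.2 hθ)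
      exact ⟨i, fun φ hφ => ⟨(hmax φ hφ).trans hi.1, by
        obtain ⟨j, hj⟩ := Set.mem_iUnion.1 (he'.2 hφ)
        exact hj.2⟩⟩
  set q : PlRing K d n := ∑ g ∈ p.support.filter (fun g => ↑g.support ⊆ band lo (w i)), monomial g (p.coeff g)
  have hq : psi K lo (w i) q = 0 := by
    rw [← hψ i]
    conv_rhs => rw [p.as_sum]
    rw [map_sum, map_sum]
    refine Finset.sum_subset (Finset.filter_subset _ _) fun g hg hg' => ?_
    simp only [Finset.mem_filter, hg, true_and] at hg'
    obtain ⟨θ, hθ, hθi⟩ := Set.not_subset.1 hg'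
    obtain ⟨g', rfl⟩ : ∃ g', g = Finsupp.single θ 1 + g' := ⟨g - Finsupp.single θ 1,
      (add_tsub_cancel_of_le (Finsupp.single_le_iff.2 (Nat.one_le_iff_ne_zero.2 (Finsupp.mem_support_iff.1 hθ)))).symm⟩
    rw [show monomial (Finsupp.single θ 1 + g') (p.coeff _) = X θ * monomial g' (p.coeff (Finsupp.single θ 1 + g')) by
      simp [X, monomial_mul], map_mul, psi_X_eq_zero hlo hθi, zero_mul]
  have hq0 := indep hd hlo (w i) (hw i) q
    (sum_mem fun g hg => (monomial_mem_restrictSupport K).2
      (.inl ⟨(hp (Finset.mem_coe.2 (Finset.mem_filter.1 hg).1)).1, (Finset.mem_filter.1 hg).2⟩)) hq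
  have hc := congrArg (coeff e) hq0
  simp only [q, coeff_sum, coeff_monomial, Finset.sum_ite_eq', coeff_zero, Finset.mem_filter] at hc
  rw [if_pos ⟨mem_support_iff.2 he, hi⟩] at hc
  exact he hc

theorem psi_plIdealTop (lo : Fin d → ℕ) (w : Idx d n) {p : PlRing K d n} (hp : p ∈ plIdealTop K) :
    psi K lo w p = 0 := by
  suffices plIdealTop K ≤ RingHom.ker (psi K lo w) from this hp
  rw [plIdealTop, Ideal.span_le]
  rintro _ ⟨i, j, r, -, rfl⟩
  exact plk_shuffleRel _ i j r

/-- Vanishing on a nonempty family of bands is the ideal of the union. -/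
theorem iInf_ker_psi [IsDomain K] (hd : 0 < d) {lo : Fin d → ℕ} (hlo : Monotone lo) {ι : Type*} (w : ι → Idx d n)
    (hw : ∀ i, w i ∈ band lo (w i)) [Nonempty ι] :
    ⨅ i, RingHom.ker (psi K lo (w i)).toRingHom = idealOn K (⋃ i, band lo (w i)) := by
  have hle : ∀ i, idealOn K (⋃ i, band lo (w i)) ≤ RingHom.ker (psi K lo (w i)).toRingHom := by
    intro i
    refine _root_.sup_le (fun p hp => psi_plIdealTop _ _ hp) ?_
    rw [Ideal.span_le]
    rintro _ ⟨θ, hθ, rfl⟩
    exact psi_X_eq_zero hlo fun h => hθ (Set.mem_iUnion.2 ⟨i, h⟩)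
  refine le_antisymm (fun p hp => ?_) (le_iInf hle)
  obtain ⟨q, hq, hpq⟩ := exists_std_sub_mem (⋃ i, band lo (w i)) p
  have hq0 : q = 0 := indep_union hd hlo w hw q hq fun i => by
    have h1 : psi K lo (w i) (p - q) = 0 := hle i hpq
    have h2 : psi K lo (w i) p = 0 := (Ideal.mem_iInf.1 hp) i
    rwa [map_sub, h2, zero_sub, neg_eq_zero] at h1
  rwa [hq0, sub_zero] at hpq

theorem ker_psi [IsDomain K] (hd : 0 < d) {lo : Fin d → ℕ} (hlo : Monotone lo) {w : Idx d n}
    (hw : w ∈ band lo w) : RingHom.ker (psi K lo w).toRingHom = idealOn K (band lo w) := by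
  have := iInf_ker_psi (K := K) hd hlo (fun _ : Unit => w) (fun _ => hw)
  rwa [iInf_const, Set.iUnion_const] at this

theorem isPrime_idealOn_band [IsDomain K] (hd : 0 < d) {lo : Fin d → ℕ} (hlo : Monotone lo) {w : Idx d n}
    (hw : w ∈ band lo w) : (idealOn K (band lo w)).IsPrime := by
  rw [← ker_psi hd hlo hw]
  exact RingHom.ker_isPrime _

theorem idealOn_inter (D E : Set (Idx d n)) : idealOn K (D ∩ E) = idealOn K D ⊔ idealOn K E := by
  rw [idealOn, idealOn, idealOn, Set.compl_inter, Set.image_union, Ideal.span_union, sup_sup_sup_comm,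
    sup_idem]

theorem idealOn_anti {D E : Set (Idx d n)} (h : D ⊆ E) : idealOn K E ≤ idealOn K D :=
  sup_le_sup le_rfl (Ideal.span_mono (Set.image_mono (Set.compl_subset_compl.2 h)))

theorem mem_idealOn_of_notMem {D : Set (Idx d n)} {θ : Idx d n} (h : θ ∉ D) :
    (X θ : PlRing K d n) ∈ idealOn K D := Ideal.mem_sup_right (Ideal.subset_span ⟨θ, h, rfl⟩)

theorem eq_zero_of_std [IsDomain K] (hd : 0 < d) {lo : Fin d → ℕ} (hlo : Monotone lo) {w : Idx d n}
    (hw : w ∈ band lo w) {q : PlRing K d n} (hq : q ∈ restrictSupport K (stdIn (band lo w)))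
    (h : q ∈ idealOn K (band lo w)) : q = 0 := by
  rw [← ker_psi hd hlo hw] at h
  exact indep hd hlo w hw q hq h

end Groth.Agent.SMT
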