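import Groth.Agent.SMT.Indep
import Mathlib.Algebra.MvPolynomial.Funext
import Mathlib.FieldTheory.IsAlgClosed.Basic
import Mathlib.Order.Preorder.Finite

/-! Vanishing on points = kernels of the band parametrisations. -/

noncomputable section

namespace Groth.Agent.SMT

open MvPolynomial W4bk4grassmannian

universe u

variable {d n : ℕ} {K : Type u} [Field K]

/-- The matrix of a point of the band. -/
def bandPoint (lo : Fin d → ℕ) (w : Idx d n) (b : Fin n × Fin d → K) : Matrix (Fin n) (Fin d) K :=
  (genB K lo w).map (aeval b)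

theorem eval_psi (lo : Fin d → ℕ) (w : Idx d n) (b : Fin n × Fin d → K) (p : PlRing K d n) :
    aeval b (psi K lo w p) = evalMinors K d n (bandPoint lo w b) p := by
  rw [evalMinors_eq, ← AlgHom.comp_apply, psi, plk_comp]
  rfl

theorem eq_zero_iff_psi [Infinite K] (lo : Fin d → ℕ) (w : Idx d n) (p : PlRing K d n) :
    psi K lo w p = 0 ↔ ∀ b, evalMinors K d n (bandPoint lo w b) p = 0 := by
  refine ⟨fun h b => by rw [← eval_psi, h, map_zero], fun h => MvPolynomial.funext fun b => ?_⟩
  rw [map_zero]
  have := h b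
  rw [← eval_psi] at this
  rwa [← aeval_eq_eval]

theorem bandPoint_minor_eq_zero {lo : Fin d → ℕ} (hlo : Monotone lo) {w φ : Idx d n} (h : φ ∉ band lo w)
    (b : Fin n × Fin d → K) : ((bandPoint lo w b).submatrix φ.1 id).det = 0 := by
  have := eval_psi lo w b (X φ)
  rw [psi_X_eq_zero hlo h, map_zero, evalMinors_eq, plk_X] at this
  exact this.symm

theorem det_update_row {R : Type*} [CommRing R] (B : Matrix (Fin n) (Fin d) R) (θ : Idx d n)
    (h : B.submatrix θ.1 id = 1) (t : Fin d) (i : Fin n) :
    (B.submatrix (Function.update θ.1 t i) id).det = B i t := by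
  have e : B.submatrix (Function.update θ.1 t i) id = (1 : Matrix (Fin d) (Fin d) R).updateRow t (B i) := by
    ext s u
    by_cases hs : s = t
    · subst hs; simp [Matrix.updateRow_self]
    · rw [Matrix.updateRow_ne hs, ← h]; simp [Function.update_of_ne hs]
  have e2 : ((1 : Matrix (Fin d) (Fin d) R).updateRow t (B i)).transpose =
      (1 : Matrix (Fin d) (Fin d) R).updateCol t (B i) := by
    rw [← Matrix.updateCol_transpose, Matrix.transpose_one]
  rw [e, ← Matrix.det_transpose, e2, ← Matrix.cramer_apply, Matrix.cramer_one]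
  rfl

theorem sort_update_gt {θ : Idx d n} {t : Fin d} {i : Fin n} (hi : θ.1 t < i)
    (h : (Finset.univ.image (Function.update θ.1 t i)).card = d) :
    θ < sortIdx d n (Function.update θ.1 t i) h := by
  have hle : θ ≤ sortIdx d n _ h := le_sortIdx h fun s => by
    by_cases hs : s = t
    · subst hs; rw [Function.update_self]; exact hi.le
    · rw [Function.update_of_ne hs]
  refine lt_of_le_of_ne hle fun he => ?_
  have h1 : rowSum θ < ∑ s, (Function.update θ.1 t i s).val := by
    refine Finset.sum_lt_sum (fun s _ => ?_) ⟨t, Finset.mem_univ _, by rw [Function.update_self]; exact hi⟩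
    by_cases hs : s = t
    · subst hs; rw [Function.update_self]; exact Fin.le_def.1 hi.le
    · rw [Function.update_of_ne hs]
  rw [← rowSum_sortIdx _ h, ← he] at h1
  exact lt_irrefl _ h1

/-- A matrix with a nonzero minor has its minors proportional to those of a band matrix. -/
theorem exists_band_point {τ : Idx d n} (hd : 0 < d) (A : Matrix (Fin n) (Fin d) K)
    (hA : ∀ φ : Idx d n, ¬ φ ≤ τ → (A.submatrix φ.1 id).det = 0)
    (hne : ∃ φ : Idx d n, (A.submatrix φ.1 id).det ≠ 0) :
    ∃ b, ∀ φ : Idx d n, (A.submatrix φ.1 id).det = ((bandPoint (fun _ => 0) τ b).submatrix φ.1 id).det := by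
  classical
  obtain ⟨θ, hθ, hmax⟩ := (Finset.univ.filter fun φ : Idx d n => (A.submatrix φ.1 id).det ≠ 0).exists_maximal
    (by obtain ⟨φ, hφ⟩ := hne; exact ⟨φ, by simpa using hφ⟩)
  have hθ0 : (A.submatrix θ.1 id).det ≠ 0 := (Finset.mem_filter.1 hθ).2
  have hθτ : θ ≤ τ := not_not.1 fun h => hθ0 (hA θ h)
  set c := (A.submatrix θ.1 id).det
  set B := A * (A.submatrix θ.1 id)⁻¹
  have hB : ∀ a : Fin d → Fin n, (B.submatrix a id).det = (A.submatrix a id).det * c⁻¹ := fun a => by
    rw [show B.submatrix a id = A.submatrix a id * (A.submatrix θ.1 id)⁻¹ by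
      ext; simp [B, Matrix.mul_apply], Matrix.det_mul, Matrix.det_nonsing_inv, Ring.inverse_eq_inv']
  have hBθ : B.submatrix θ.1 id = 1 := by
    rw [show B.submatrix θ.1 id = A.submatrix θ.1 id * (A.submatrix θ.1 id)⁻¹ by
      ext; simp [B, Matrix.mul_apply], Matrix.mul_nonsing_inv _ (isUnit_iff_ne_zero.2 hθ0)]
  have hzero : ∀ i t, τ.1 t < i → B i t = 0 := by
    intro i t hit
    have hi : θ.1 t < i := lt_of_le_of_lt (hθτ t) hit
    rw [← det_update_row B θ hBθ t i]
    by_cases h : (Finset.univ.image (Function.update θ.1 t i)).card = d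
    · rw [hB, det_submatrix_sort A _ h]
      have : (A.submatrix (sortIdx d n _ h).1 id).det = 0 := by
        by_contra h0
        exact (sort_update_gt hi h).not_ge (hmax (by simpa using h0) (sort_update_gt hi h).le)
      rw [this, mul_zero, zero_mul]
    · exact det_submatrix_of_repeat B _ h
  refine ⟨fun p => B p.1 p.2 * (if p.2.val = 0 then c else 1), fun φ => ?_⟩
  have hbp : bandPoint (fun _ => 0) τ (fun p => B p.1 p.2 * (if p.2.val = 0 then c else 1)) =
      B * Matrix.diagonal (fun u : Fin d => if u.val = 0 then c else 1) := by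
    ext i t
    rw [Matrix.mul_diagonal]
    simp only [bandPoint, Matrix.map_apply, genB, Matrix.of_apply, Nat.zero_le, true_and]
    split_ifs with h h' h' <;> simp_all
  have hprod : (Matrix.diagonal (fun u : Fin d => if u.val = 0 then c else 1)).det = c := by
    rw [Matrix.det_diagonal, Finset.prod_eq_single ⟨0, hd⟩ (fun b _ hb => if_neg fun h => hb (Fin.ext h))
      (fun h => absurd (Finset.mem_univ _) h), if_pos rfl]
  rw [hbp, show (B * Matrix.diagonal (fun u : Fin d => if u.val = 0 then c else 1)).submatrix φ.1 id =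
      B.submatrix φ.1 id * Matrix.diagonal (fun u : Fin d => if u.val = 0 then c else 1) by
    ext; simp [Matrix.mul_diagonal], Matrix.det_mul, hprod, hB, inv_mul_cancel_right₀ hθ0]

theorem schubertVanishing_eq_ker [Infinite K] (hd : 0 < d) (τ : Idx d n) :
    schubertVanishing K d n τ = RingHom.ker (psi K (fun _ => 0) τ).toRingHom := by
  refine le_antisymm (fun p hp => ?_) (fun p hp => ?_)
  · rw [RingHom.mem_ker]
    refine (eq_zero_iff_psi _ τ p).2 fun b => ?_
    simp only [schubertVanishing, Ideal.mem_iInf] at hp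
    exact hp _ fun φ hφ => bandPoint_minor_eq_zero (monotone_const) (by rw [band_zero]; exact hφ) b
  · simp only [schubertVanishing, Ideal.mem_iInf]
    intro A hA
    rw [RingHom.mem_ker] at hp ⊢
    have h0 := (eq_zero_iff_psi _ τ p).1 hp
    by_cases hne : ∃ φ : Idx d n, (A.submatrix φ.1 id).det ≠ 0
    · obtain ⟨b, hb⟩ := exists_band_point hd A hA hne
      rw [← h0 b]
      show evalMinors K d n A p = _
      unfold evalMinors
      rw [funext hb]
    · push Not at hne
      show evalMinors K d n A p = 0
      unfold evalMinors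
      rw [funext hne]
      exact (aeval_zero' p).trans ((constantCoeff_psi hd (fun _ => 0) τ p).symm.trans (by rw [show psi K _ τ p = 0 from hp, map_zero]))

theorem schubertVanishing_eq [Infinite K] (hd : 0 < d) (τ : Idx d n) :
    schubertVanishing K d n τ = idealOn K {φ | φ ≤ τ} := by
  rw [schubertVanishing_eq_ker hd, ker_psi hd monotone_const ⟨le_rfl, fun _ => Nat.zero_le _⟩, band_zero]

theorem iInf_schubertVanishing [Infinite K] (hd : 0 < d) {ι : Type*} [Nonempty ι] (τ : ι → Idx d n) :
    ⨅ i, schubertVanishing K d n (τ i) = idealOn K (⋃ i, {φ | φ ≤ τ i}) := by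
  simp only [schubertVanishing_eq_ker hd, iInf_ker_psi hd monotone_const τ (fun i => ⟨le_rfl, fun _ => Nat.zero_le _⟩),
    band_zero]

/-- The largest index. -/
def topIdx (h : d ≤ n) : Idx d n :=
  ⟨fun t => ⟨n - d + t.val, by have := t.isLt; omega⟩, fun a b h' => by
    rw [Fin.lt_def] at h' ⊢; simp only; omega⟩

theorem le_topIdx (h : d ≤ n) (θ : Idx d n) : θ ≤ topIdx h := fun t => by
  rw [Fin.le_def]
  have := val_le θ t
  simp only [topIdx]
  omega

theorem vanishing_eq [Infinite K] (hd : 0 < d) (h : d ≤ n) :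
    vanishing K d n = schubertVanishing K d n (topIdx h) := by
  rw [vanishing, schubertVanishing]
  refine iInf_congr fun A => ?_
  rw [iInf_pos (fun φ hφ => absurd (le_topIdx h φ) hφ)]

theorem idealOn_univ_eq [Infinite K] (hd : 0 < d) (h : d ≤ n) :
    idealOn K (Set.univ : Set (Idx d n)) = vanishing K d n := by
  rw [vanishing_eq hd h, schubertVanishing_eq hd]
  congr 1
  exact (Set.eq_univ_of_forall fun φ => le_topIdx h φ).symm

theorem ker_pluckerMap [Infinite K] :
    RingHom.ker (pluckerMap K d n).toRingHom = vanishing K d n := by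
  ext p
  rw [vanishing, Ideal.mem_iInf, RingHom.mem_ker]
  have key : ∀ A : Matrix (Fin n) (Fin d) K, evalMinors K d n A p =
      aeval (fun q => A q.1 q.2) (pluckerMap K d n p) := fun A => by
    rw [evalMinors_eq, ← AlgHom.comp_apply, pluckerMap_eq, plk_comp]
    congr 2
    ext i t
    simp
  refine ⟨fun h A => ?_, fun h => MvPolynomial.funext fun b => ?_⟩
  · rw [RingHom.mem_ker]
    show evalMinors K d n A p = 0
    rw [key, show pluckerMap K d n p = 0 from h, map_zero]
  · have := h (Matrix.of fun i t => b (i, t))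
    rw [RingHom.mem_ker] at this
    change evalMinors K d n _ p = 0 at this
    rw [key] at this
    rw [map_zero, ← aeval_eq_eval]
    exact this

end Groth.Agent.SMT
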