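import Groth.Agent.SMT.Basic
import Mathlib.LinearAlgebra.Alternating.DomCoprod
import Mathlib.LinearAlgebra.StdBasis
import Mathlib.GroupTheory.Perm.Finite

/-! The shuffle relations vanish on the minors of any matrix. -/

noncomputable section

namespace Groth.Agent.SMT

open MvPolynomial W4bk4grassmannian Equiv

universe u v

variable {d n : ℕ} {K : Type u} [CommRing K] {R : Type v} [CommRing R] [Algebra K R]

theorem alternating_eq_zero_of_card_lt {ι : Type*} [Fintype ι] {N : Type*} [AddCommGroup N] [Module R N]
    (h : d < Fintype.card ι) (f : (Fin d → R) [⋀^ι]→ₗ[R] N) : f = 0 :=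
  (Pi.basisFun R (Fin d)).ext_alternating fun v hv => absurd (Fintype.card_le_of_injective v hv)
    (by rw [Fintype.card_fin]; omega)

theorem extend_update {ι κ X : Type*} [DecidableEq ι] [DecidableEq κ] {e : ι → κ}
    (he : Function.Injective e) (M₀ : κ → X) (w : ι → X) (k : ι) (x : X) :
    Function.extend e (Function.update w k x) M₀ = Function.update (Function.extend e w M₀) (e k) x := by
  funext t
  by_cases ht : ∃ i, e i = t
  · obtain ⟨i, rfl⟩ := ht
    rw [he.extend_apply]
    by_cases hik : i = k
    · subst hik; rw [Function.update_self, Function.update_self]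
    · rw [Function.update_of_ne hik, Function.update_of_ne (he.ne hik), he.extend_apply]
  · rw [Function.extend_apply' _ _ _ ht, Function.update_of_ne (fun h => ht ⟨k, h.symm⟩),
      Function.extend_apply' _ _ _ ht]

/-- The determinant with some rows fixed, as an alternating map in the others. -/
def detFix {ι : Type*} (e : ι → Fin d) (he : Function.Injective e) (M₀ : Fin d → Fin d → R) :
    (Fin d → R) [⋀^ι]→ₗ[R] R where
  toFun w := Matrix.detRowAlternating (Function.extend e w M₀)
  map_update_add' w i x y := by
    classical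
    simp only [extend_update he, AlternatingMap.map_update_add]
  map_update_smul' w i c x := by
    classical
    simp only [extend_update he, AlternatingMap.map_update_smul]
  map_eq_zero_of_eq' w i j h hij :=
    Matrix.detRowAlternating.map_eq_zero_of_eq _ (by rw [he.extend_apply, he.extend_apply]; exact h) (he.ne hij)

section shuffle

variable (r : Fin d)

/-- The base identification of the two blocks with `Fin (d + 1)`. -/
def baseEquiv : Fin (r.val + 1) ⊕ Fin (d - r.val) ≃ Fin (d + 1) :=
  finSumFinEquiv.trans (finCongr (by have := r.isLt; omega))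

theorem card_compl_of_card {A : Finset (Fin (d + 1))} (hA : A.card = r.val + 1) : Aᶜ.card = d - r.val := by
  rw [Finset.card_compl, hA, Fintype.card_fin]; omega

/-- The permutation of the blocks attached to a set of positions. -/
def shufflePerm (A : Finset (Fin (d + 1))) (hA : A.card = r.val + 1) :
    Perm (Fin (r.val + 1) ⊕ Fin (d - r.val)) :=
  (finSumEquivOfFinset hA (card_compl_of_card r hA)).trans (baseEquiv r).symm

theorem sum_range_id_eq : ∑ p : Fin (r.val + 1), p.val = r.val * (r.val + 1) / 2 := by
  rw [Fin.sum_univ_eq_sum_range (fun i => i), Finset.sum_range_id, Nat.add_sub_cancel, mul_comm]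

theorem sign_shufflePerm (A : Finset (Fin (d + 1))) (hA : A.card = r.val + 1) :
    ((Perm.sign (shufflePerm r A hA) : ℤˣ) : ℤ) = (-1) ^ shuffleSign r A := by
  classical
  set e := finSumEquivOfFinset hA (card_compl_of_card r hA)
  rw [← Perm.sign_permCongr (baseEquiv r) (shufflePerm r A hA), sign_eq_invCount]
  congr 1
  set π := (baseEquiv r).permCongr (shufflePerm r A hA)
  have hπ : ∀ x, π (baseEquiv r x) = e x := fun x => by simp [π, shufflePerm, e]
  set ι₁ : Fin (r.val + 1) → Fin (d + 1) := fun p => baseEquiv r (Sum.inl p)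
  set ι₂ : Fin (d - r.val) → Fin (d + 1) := fun q => baseEquiv r (Sum.inr q)
  have hv1 : ∀ p, (ι₁ p).val = p.val := fun p => by simp [ι₁, baseEquiv]
  have hv2 : ∀ q, (ι₂ q).val = r.val + 1 + q.val := fun q => by simp [ι₂, baseEquiv]
  let emb := A.orderEmbOfFin hA
  let emb' := Aᶜ.orderEmbOfFin (card_compl_of_card r hA)
  have e1 : ∀ p, π (ι₁ p) = emb p := fun p => hπ _
  have e2 : ∀ q, π (ι₂ q) = emb' q := fun q => hπ _
  have hinv : invCount (d + 1) (d + 1) π =
      (Finset.univ.sigma fun p : Fin (r.val + 1) => (Aᶜ.filter fun b => b < emb p)).card := by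
    rw [invCount]
    symm
    refine Finset.card_bij
      (fun x _ => (ι₁ x.1, π.symm x.2)) ?_ ?_ ?_
    · rintro ⟨p, b⟩ hx
      simp only [Finset.mem_sigma, Finset.mem_univ, true_and, Finset.mem_filter, Finset.mem_compl] at hx
      simp only [Finset.mem_filter, Finset.mem_univ, true_and, Equiv.apply_symm_apply, e1]
      refine ⟨?_, hx.2⟩
      obtain ⟨q, hq⟩ : ∃ q, emb' q = b := by
        have : b ∈ Set.range emb' := by
          rw [Finset.range_orderEmbOfFin]; exact Finset.mem_compl.2 hx.1
        exact this
      rw [← hq, ← e2, Equiv.symm_apply_apply, Fin.lt_def, hv1, hv2]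
      omega
    · rintro ⟨p, b⟩ _ ⟨p', b'⟩ _ h
      simp only [Prod.mk.injEq] at h
      obtain rfl : p = p' := Fin.ext (by rw [← hv1, ← hv1, h.1])
      obtain rfl := π.symm.injective h.2
      rfl
    · rintro ⟨x, y⟩ hx
      simp only [Finset.mem_filter, Finset.mem_univ, true_and] at hx
      obtain ⟨xs, rfl⟩ := (baseEquiv r).surjective x
      obtain ⟨ys, rfl⟩ := (baseEquiv r).surjective y
      rw [hπ, hπ] at hx
      rcases xs with p | p <;> rcases ys with q | q
      · exact absurd hx.2 (not_lt.2 (emb.monotone (Fin.le_def.2 (by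
          have := Fin.lt_def.1 hx.1; rw [hv1, hv1] at this; omega))))
      · refine ⟨⟨p, emb' q⟩, ?_, ?_⟩
        · simp only [Finset.mem_sigma, Finset.mem_univ, true_and, Finset.mem_filter]
          exact ⟨Finset.orderEmbOfFin_mem _ _ q, hx.2⟩
        · simp only [Prod.mk.injEq, true_and]
          exact ⟨rfl, by rw [Equiv.symm_apply_eq]; exact (hπ (Sum.inr q)).symm⟩
      · exfalso
        have := Fin.lt_def.1 hx.1
        rw [hv1, hv2] at this
        omega
      · exact absurd hx.2 (not_lt.2 (emb'.monotone (Fin.le_def.2 (by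
          have := Fin.lt_def.1 hx.1; rw [hv2, hv2] at this; omega))))
  rw [hinv, Finset.card_sigma, shuffleSign]
  have hsum : ∀ p : Fin (r.val + 1), (Aᶜ.filter fun b => b < emb p).card + p.val = (emb p).val := by
    intro p
    have h1 : (A.filter fun b => b < emb p) = (Finset.Iio p).image emb := by
      ext b
      simp only [Finset.mem_filter, Finset.mem_image, Finset.mem_Iio]
      constructor
      · rintro ⟨hb, hlt⟩
        obtain ⟨q, rfl⟩ : b ∈ Set.range emb := by rw [Finset.range_orderEmbOfFin]; exact hb
        exact ⟨q, emb.lt_iff_lt.1 hlt, rfl⟩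
      · rintro ⟨q, hq, rfl⟩
        exact ⟨Finset.orderEmbOfFin_mem _ _ q, emb.lt_iff_lt.2 hq⟩
    have h2 : (A.filter fun b => b < emb p).card = p.val := by
      rw [h1, Finset.card_image_of_injective _ emb.injective, Fin.card_Iio]
    have h3 : (Finset.Iio (emb p)).card = (A.filter fun b => b < emb p).card + (Aᶜ.filter fun b => b < emb p).card := by
      rw [← Finset.card_union_of_disjoint (Finset.disjoint_filter_filter disjoint_compl_right),
        ← Finset.filter_union, Finset.union_compl]
      congr 1
      ext b; simp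
    rw [Fin.card_Iio, h2] at h3
    omega
  have hA' : (A.sum fun a => a.val) = ∑ p, (emb p).val := by
    conv_lhs => rw [← Finset.image_orderEmbOfFin_univ A hA]
    rw [Finset.sum_image fun x _ y _ e => emb.injective e]
  rw [hA', ← Finset.sum_congr rfl fun p _ => hsum p, Finset.sum_add_distrib, sum_range_id_eq,
    Nat.add_sub_cancel]

theorem shufflePerm_bijective :
    Function.Bijective fun A : {A : Finset (Fin (d + 1)) // A.card = r.val + 1} =>
      (Quotient.mk'' (shufflePerm r A.1 A.2) : Perm.ModSumCongr (Fin (r.val + 1)) (Fin (d - r.val))) := by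
  classical
  have hmem : ∀ (A : Finset (Fin (d + 1))) (hA : A.card = r.val + 1) (x),
      (baseEquiv r (shufflePerm r A hA x) ∈ A ↔ x ∈ Set.range Sum.inl) := by
    intro A hA x
    simp only [shufflePerm, Equiv.trans_apply, Equiv.apply_symm_apply]
    rcases x with p | q
    · simpa using Finset.orderEmbOfFin_mem _ hA p
    · simpa using Finset.mem_compl.1 (Finset.orderEmbOfFin_mem _ (card_compl_of_card r hA) q)
  constructor
  · rintro ⟨A, hA⟩ ⟨B, hB⟩ h
    obtain ⟨⟨sl, sr⟩, hs⟩ := QuotientGroup.leftRel_apply.1 (Quotient.exact' h)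
    have hs' : shufflePerm r B hB = shufflePerm r A hA * Perm.sumCongrHom _ _ (sl, sr) := by
      rw [hs, mul_inv_cancel_left]
    refine Subtype.ext (Finset.eq_of_subset_of_card_le (fun x hx => ?_) (by rw [hA, hB]))
    obtain ⟨y, rfl⟩ := ((shufflePerm r A hA).trans (baseEquiv r)).surjective x
    simp only [Equiv.trans_apply] at hx ⊢
    obtain ⟨p, rfl⟩ := (hmem A hA y).1 hx
    have h2 := (hmem B hB (Sum.inl (sl.symm p))).2 ⟨_, rfl⟩
    rw [hs'] at h2
    simpa using h2
  · intro q
    induction q using Quotient.inductionOn' with | _ σ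
    set A := Finset.univ.image fun p => baseEquiv r (σ (Sum.inl p))
    have hA : A.card = r.val + 1 := by
      refine (Finset.card_image_of_injective _ (((baseEquiv r).injective.comp σ.injective).comp Sum.inl_injective)).trans ?_
      rw [Finset.card_univ, Fintype.card_fin]
    refine ⟨⟨A, hA⟩, Quotient.sound' (QuotientGroup.leftRel_apply.2
      (Perm.mem_sumCongrHom_range_of_perm_mapsTo_inl ?_))⟩
    rintro _ ⟨p, rfl⟩
    apply (hmem A hA _).1
    rw [Perm.mul_apply, ← Perm.mul_apply (shufflePerm r A hA), mul_inv_cancel, Perm.one_apply]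
    exact Finset.mem_image.2 ⟨p, Finset.mem_univ _, rfl⟩

end shuffle

theorem plk_shuffleRel (M : Matrix (Fin n) (Fin d) R) (i j : Idx d n) (r : Fin d) :
    plk (K := K) M (shuffleRel K i j r) = 0 := by
  classical
  let ea : Fin (r.val + 1) → Fin d := fun p => ⟨p.val, by have := p.isLt; omega⟩
  let eb : Fin (d - r.val) → Fin d := fun q => ⟨r.val + q.val, by have := q.isLt; omega⟩
  have hea : Function.Injective ea := fun x y h => Fin.ext (by simpa [ea] using congrArg Fin.val h)
  have heb : Function.Injective eb := fun x y h => Fin.ext (by have := congrArg Fin.val h; simp [eb] at this; exact this)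
  let a := detFix ea hea (fun t => M (i.1 t))
  let b := detFix eb heb (fun t => M (j.1 t))
  let F := (LinearMap.mul' R R).compAlternatingMap (a.domCoprod b)
  have hF : F = 0 := alternating_eq_zero_of_card_lt (by simp only [Fintype.card_sum, Fintype.card_fin]; omega) F
  let v : Fin (r.val + 1) ⊕ Fin (d - r.val) → Fin d → R := fun x => M (movingRows i j r (baseEquiv r x))
  have key : F v = plk (K := K) M (shuffleRel K i j r) := by
    rw [shuffleRel, map_sum]
    show LinearMap.mul' R R ((∑ σ, AlternatingMap.domCoprod.summand a b σ) v) = _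
    rw [_root_.sum_apply, map_sum]
    refine (Fintype.sum_bijective _ (shufflePerm_bijective r) _ _ (fun A => rfl)).symm.trans ?_
    conv_rhs => rw [← Finset.sum_filter_of_ne (p := fun A : Finset (Fin (d + 1)) => A.card = r.val + 1) (by
      intro A _ hne
      by_contra hc
      exact hne (by rw [shuffleTerm, dif_neg hc, map_zero])), Finset.sum_subtype (p := fun A : Finset (Fin (d + 1)) => A.card = r.val + 1) _ (by simp)]
    refine Finset.sum_congr rfl fun A _ => ?_
    rw [AlternatingMap.domCoprod.summand_mk'', shuffleTerm, dif_pos A.2, _root_.smul_apply,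
      MultilinearMap.domDomCongr_apply, MultilinearMap.domCoprod_apply, Units.smul_def, map_zsmul,
      LinearMap.mul'_apply, map_mul, map_mul, map_pow, map_neg, map_one, plk_coord, plk_coord,
      sign_shufflePerm, zsmul_eq_mul, mul_assoc]
    push_cast
    congr 2
    · show Matrix.det (Function.extend ea _ _) = _
      congr 1
      funext t u
      by_cases ht : t.val ≤ r.val
      · rw [show t = ea ⟨t.val, by omega⟩ from rfl, hea.extend_apply]
        simp [v, shufflePerm, shuffleI, ea, ht, -Fin.val_fin_le, -Fin.val_fin_lt, Matrix.submatrix]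
      · rw [Function.extend_apply' _ _ _ (by rintro ⟨p, rfl⟩; exact ht (by simp [ea]; omega))]
        simp [shuffleI, ht, -Fin.val_fin_le, -Fin.val_fin_lt, Matrix.submatrix]
    · show Matrix.det (Function.extend eb _ _) = _
      congr 1
      funext t u
      by_cases ht : t.val < r.val
      · rw [Function.extend_apply' _ _ _ (by rintro ⟨p, rfl⟩; simp [eb] at ht)]
        simp [shuffleJ, ht, -Fin.val_fin_le, -Fin.val_fin_lt, Matrix.submatrix]
      · obtain ⟨q, rfl⟩ : ∃ q, eb q = t := ⟨⟨t.val - r.val, by have := t.isLt; omega⟩, Fin.ext (by simp [eb]; omega)⟩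
        rw [heb.extend_apply]
        simp [v, shufflePerm, shuffleJ, eb, -Fin.val_fin_le, -Fin.val_fin_lt, Matrix.submatrix]
  rw [← key, hF]
  rfl

end Groth.Agent.SMT
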