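import Groth.Agent.SMT.Prime

/-! A lexicographic shelling of the maximal chains below an index. -/

noncomputable section

namespace Groth.Agent.SMT

open W4bk4grassmannian

attribute [-simp] Fin.val_fin_le Fin.val_fin_lt

variable {d n : ℕ}

theorem eq_bot_of_codeg {θ φ : Idx d n} (hθ : codeg θ = 0) (hφ : codeg φ = 0) : θ = φ := by
  have h1 : ∀ {θ : Idx d n}, codeg θ = 0 → ∀ t, (θ.1 t).val = t.val := by
    intro θ h t
    have := (Finset.sum_eq_zero_iff.1 h) t (Finset.mem_univ t)
    have := val_ge θ t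
    omega
  exact Subtype.ext (funext fun t => Fin.ext ((h1 hθ t).trans (h1 hφ t).symm))

theorem mem_divisors_of_lt {φ ψ : Idx d n} (h : φ < ψ) (hc : codeg φ + 1 = codeg ψ) : φ ∈ divisors ψ := ⟨h, hc⟩

/-- Saturated chains from the bottom to `τ`. -/
@[ext]
structure MChain (τ : Idx d n) where
  at' : ℕ → Idx d n
  codeg_at : ∀ i ≤ codeg τ, codeg (at' i) = i
  lt_succ : ∀ i < codeg τ, at' i < at' (i + 1)
  top : ∀ i, codeg τ ≤ i → at' i = τ

namespace MChain

variable {τ : Idx d n} (c : MChain τ)

theorem step_mem {i : ℕ} (hi : i < codeg τ) : c.at' i ∈ divisors (c.at' (i + 1)) :=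
  mem_divisors_of_lt (c.lt_succ i hi) (by rw [c.codeg_at i hi.le, c.codeg_at (i + 1) hi])

theorem mono : Monotone c.at' := by
  refine monotone_nat_of_le_succ fun i => ?_
  by_cases hi : i < codeg τ
  · exact (c.lt_succ i hi).le
  · rw [c.top i (by omega), c.top (i + 1) (by omega)]

theorem le_top (i : ℕ) : c.at' i ≤ τ := by
  by_cases hi : i ≤ codeg τ
  · exact (c.mono hi).trans (le_of_eq (c.top _ le_rfl))
  · exact le_of_eq (c.top i (by omega))

instance finite : Finite (MChain τ) := by
  refine Finite.of_injective (fun c (i : Fin (codeg τ + 1)) => c.at' i) fun c c' h => ?_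
  ext1
  funext i
  by_cases hi : i ≤ codeg τ
  · exact congrFun h ⟨i, by omega⟩
  · rw [c.top i (by omega), c'.top i (by omega)]

end MChain

open Classical in
/-- The priority boxes. -/
def Pri (τ : Idx d n) (U : Set (Idx d n)) (t : Fin d) (v : Fin n) : Prop :=
  v = τ.1 t ∧ ∃ φ ∈ U, φ.1 t < τ.1 t

open Classical in
/-- The label of a box. -/
def lab (τ : Idx d n) (U : Set (Idx d n)) (t : Fin d) (v : Fin n) : ℕ :=
  if Pri τ U t v then t.val else d + t.val * (n + 1) + (n - v.val)

theorem lab_inj {τ : Idx d n} {U : Set (Idx d n)} {t t' : Fin d} {v v' : Fin n}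
    (h : lab τ U t v = lab τ U t' v') : t = t' ∧ v = v' := by
  unfold lab at h
  have := v.isLt
  have := v'.isLt
  split_ifs at h with h1 h2 h2
  · obtain rfl : t = t' := Fin.ext h
    exact ⟨rfl, h1.1.trans h2.1.symm⟩
  · have := t.isLt; omega
  · have := t'.isLt; omega
  · have key : t.val = t'.val := by
      rcases lt_trichotomy t.val t'.val with hlt | he | hlt
      · have : (t.val + 1) * (n + 1) ≤ t'.val * (n + 1) := Nat.mul_le_mul_right _ hlt
        rw [add_mul, one_mul] at this
        omega
      · exact he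
      · have : (t'.val + 1) * (n + 1) ≤ t.val * (n + 1) := Nat.mul_le_mul_right _ hlt
        rw [add_mul, one_mul] at this
        omega
    rw [key] at h
    exact ⟨Fin.ext key, Fin.ext (by omega)⟩

/-- The label of a step. -/
def stepLab (τ : Idx d n) (U : Set (Idx d n)) (φ ψ : Idx d n) : ℕ :=
  ∑ t ∈ Finset.univ.filter (fun t => φ.1 t < ψ.1 t), lab τ U t (ψ.1 t)

theorem exists_box {φ ψ : Idx d n} (h : φ ∈ divisors ψ) :
    ∃ t, CanDrop ψ t ∧ (φ.1 t).val + 1 = (ψ.1 t).val ∧ (∀ s, s ≠ t → φ.1 s = ψ.1 s) ∧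
      ∀ τ U, stepLab τ U φ ψ = lab τ U t (ψ.1 t) := by
  classical
  obtain ⟨t, h1, h2, h3⟩ := canDrop_of_divisor h
  refine ⟨t, h1, h2, h3, fun τ U => ?_⟩
  rw [stepLab, show (Finset.univ.filter fun s => φ.1 s < ψ.1 s) = {t} from ?_, Finset.sum_singleton]
  ext s
  simp only [Finset.mem_filter, Finset.mem_univ, true_and, Finset.mem_singleton]
  constructor
  · intro hs
    by_contra hne
    rw [h3 s hne] at hs
    exact lt_irrefl _ hs
  · rintro rfl
    exact Fin.lt_def.2 (by omega)

variable {τ : Idx d n} (U : Set (Idx d n))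

/-- The label word of a chain, from the top. -/
def word (c : MChain τ) : Lex (Fin (codeg τ) → ℕ) :=
  toLex fun j => stepLab τ U (c.at' (codeg τ - 1 - j.val)) (c.at' (codeg τ - j.val))

/-- Descents of a chain. -/
def desc (c : MChain τ) : Finset ℕ :=
  (Finset.range (codeg τ)).filter fun i => 0 < i ∧
    stepLab τ U (c.at' (i - 1)) (c.at' i) < stepLab τ U (c.at' i) (c.at' (i + 1))

/-- Chains starting with a step into `U`. -/
def Allowed (c : MChain τ) : Prop := 0 < codeg τ → c.at' (codeg τ - 1) ∈ U

variable {U}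

theorem word_lt_of_desc {c c' : MChain τ} (hne : c ≠ c') (h : ∀ i ∈ desc U c, c'.at' i = c.at' i) :
    word U c < word U c' := by
  classical
  have hex : ∃ i, i < codeg τ ∧ c.at' i ≠ c'.at' i := by
    by_contra hc
    push Not at hc
    refine hne (MChain.ext (funext fun i => ?_))
    by_cases hi : i < codeg τ
    · exact hc i hi
    · rw [c.top i (by omega), c'.top i (by omega)]
  set P := (Finset.range (codeg τ)).filter fun i => c.at' i ≠ c'.at' i
  have hP : P.Nonempty := let ⟨i, h1, h2⟩ := hex; ⟨i, Finset.mem_filter.2 ⟨Finset.mem_range.2 h1, h2⟩⟩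
  set i := P.max' hP
  obtain ⟨hi, hine⟩ := Finset.mem_filter.1 (P.max'_mem hP)
  rw [Finset.mem_range] at hi
  change i < codeg τ at hi
  change c.at' i ≠ c'.at' i at hine
  have habove : ∀ j, i < j → c.at' j = c'.at' j := by
    intro j hj
    by_cases hjτ : j < codeg τ
    · by_contra hc
      exact (P.le_max' j (Finset.mem_filter.2 ⟨Finset.mem_range.2 hjτ, hc⟩)).not_gt hj
    · rw [c.top j (by omega), c'.top j (by omega)]
  set Q := (Finset.range (i + 1)).filter fun j => c.at' j = c'.at' j
  have hQ : Q.Nonempty := ⟨0, Finset.mem_filter.2 ⟨Finset.mem_range.2 (by omega),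
    eq_bot_of_codeg (c.codeg_at 0 (Nat.zero_le _)) (c'.codeg_at 0 (Nat.zero_le _))⟩⟩
  set b := Q.max' hQ
  obtain ⟨hb1, hb2⟩ := Finset.mem_filter.1 (Q.max'_mem hQ)
  rw [Finset.mem_range] at hb1
  change b < i + 1 at hb1
  change c.at' b = c'.at' b at hb2
  have hbi : b < i := lt_of_le_of_ne (by omega) fun e => hine (e ▸ hb2)
  have hinc : ∀ k, b ≤ k → k ≤ i →
      stepLab τ U (c.at' i) (c.at' (i + 1)) ≤ stepLab τ U (c.at' k) (c.at' (k + 1)) := by
    intro k hbk
    induction hm : i - k generalizing k with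
    | zero => intro hk; rw [show k = i by omega]
    | succ m ih =>
      intro hk
      refine le_trans (ih (k + 1) (by omega) (by omega) (by omega)) ?_
      by_contra hc
      have hd : k + 1 ∈ desc U c := Finset.mem_filter.2 ⟨Finset.mem_range.2 (by omega), by omega, by
        rw [Nat.add_sub_cancel]; exact not_le.1 hc⟩
      have : k + 1 ∈ Q := Finset.mem_filter.2 ⟨Finset.mem_range.2 (by omega), (h _ hd).symm⟩
      have := Q.le_max' _ this
      omega
  obtain ⟨t0, -, e1, r1, l1⟩ := exists_box (c.step_mem hi)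
  obtain ⟨t, -, e2, r2, l2⟩ := exists_box (c'.step_mem hi)
  have hA := habove (i + 1) (by omega)
  have hle : stepLab τ U (c.at' i) (c.at' (i + 1)) ≤ lab τ U t ((c.at' (i + 1)).1 t) := by
    have hB : (c.at' b).1 t < (c.at' (i + 1)).1 t := by
      rw [hb2, hA]
      exact lt_of_le_of_lt (c'.mono hbi.le t) (Fin.lt_def.2 (by omega))
    set R := (Finset.range (i + 1)).filter fun k => (c.at' k).1 t < (c.at' (i + 1)).1 t
    have hR : R.Nonempty := ⟨b, Finset.mem_filter.2 ⟨Finset.mem_range.2 (by omega), hB⟩⟩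
    set k := R.max' hR
    obtain ⟨hk1, hk2⟩ := Finset.mem_filter.1 (R.max'_mem hR)
    rw [Finset.mem_range] at hk1
    change k < i + 1 at hk1
    change (c.at' k).1 t < (c.at' (i + 1)).1 t at hk2
    have hbk : b ≤ k := R.le_max' b (Finset.mem_filter.2 ⟨Finset.mem_range.2 (by omega), hB⟩)
    have hk3 : (c.at' (k + 1)).1 t = (c.at' (i + 1)).1 t := by
      refine le_antisymm (c.mono (by omega) t) (not_lt.1 fun hc => ?_)
      have hki : k + 1 < i + 1 := by
        rcases Nat.lt_or_ge (k + 1) (i + 1) with h' | h'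
        · exact h'
        · rw [show k + 1 = i + 1 by omega] at hc; exact absurd hc (lt_irrefl _)
      have := R.le_max' (k + 1) (Finset.mem_filter.2 ⟨Finset.mem_range.2 hki, hc⟩)
      omega
    obtain ⟨t', -, -, r', l'⟩ := exists_box (c.step_mem (show k < codeg τ by omega))
    have ht' : t = t' := by
      by_contra hne'
      rw [r' t hne'] at hk2
      rw [hk3] at hk2
      exact lt_irrefl _ hk2
    refine (hinc k hbk (by omega)).trans (le_of_eq ?_)
    rw [l', ← ht', hk3]
  have hlt : stepLab τ U (c.at' i) (c.at' (i + 1)) < stepLab τ U (c'.at' i) (c'.at' (i + 1)) := by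
    rw [l2, ← hA]
    refine lt_of_le_of_ne hle fun he => hine ?_
    rw [l1] at he
    obtain ⟨ht, -⟩ := lab_inj he
    subst ht
    refine Subtype.ext (funext fun s => ?_)
    by_cases hs : s = t0
    · subst hs; exact Fin.ext (by rw [← hA] at e2; omega)
    · rw [r1 s hs, r2 s hs, hA]
  refine ⟨⟨codeg τ - 1 - i, by omega⟩, fun j hj => ?_, ?_⟩
  · have hj' : j.val < codeg τ - 1 - i := hj
    show stepLab τ U _ _ = stepLab τ U _ _
    rw [habove _ (by omega), habove _ (by omega)]
  · show stepLab τ U _ _ < stepLab τ U _ _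
    simp only
    rw [show codeg τ - 1 - (codeg τ - 1 - i) = i by omega, show codeg τ - (codeg τ - 1 - i) = i + 1 by omega]
    exact hlt

theorem exists_swap (hU : U ⊆ divisors τ) {c : MChain τ} (hc : Allowed U c) {i : ℕ} (hi : i ∈ desc U c) :
    ∃ c' : MChain τ, (∀ j, j ≠ i → c'.at' j = c.at' j) ∧ word U c' < word U c ∧ Allowed U c' := by
  classical
  obtain ⟨hie, hi0, hdesc⟩ := Finset.mem_filter.1 hi
  rw [Finset.mem_range] at hie
  obtain ⟨u, -, eu, ru, lu⟩ := exists_box (c.step_mem hie)
  obtain ⟨v, hv, ev, rv, lv⟩ := exists_box (c.step_mem (show i - 1 < codeg τ by omega))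
  rw [show i - 1 + 1 = i by omega] at hv ev rv lv
  set A := c.at' (i + 1)
  set M := c.at' i
  set B := c.at' (i - 1)
  rw [lu, lv] at hdesc
  have hAτ : ∀ s, (A.1 s).val ≤ (τ.1 s).val := fun s => c.le_top (i + 1) s
  have htri : ∀ a b : Fin d, a.val < b.val → ∀ va vb : Fin n, ¬ Pri τ U b vb →
      lab τ U a va < lab τ U b vb := by
    intro a b hab va vb hb
    have h1 : (a.val + 1) * (n + 1) ≤ b.val * (n + 1) := Nat.mul_le_mul_right _ hab
    rw [add_mul, one_mul] at h1
    unfold lab
    rw [if_neg hb]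
    split_ifs
    · have := a.isLt; omega
    · omega
  have huv : v ≠ u := by
    intro he
    subst he
    have hnp : ¬ Pri τ U v (M.1 v) := fun hp => by
      have := hAτ v
      have h1 := congrArg Fin.val hp.1
      omega
    have h2 : lab τ U v (A.1 v) < lab τ U v (M.1 v) := by
      unfold lab
      rw [if_neg hnp]
      have := (A.1 v).isLt
      have := v.isLt
      split_ifs <;> omega
    omega
  have hMv : M.1 v = A.1 v := ru v huv
  have hdrop : CanDrop A v := by
    refine ⟨by rw [← hMv]; exact hv.1, fun w hw => ?_⟩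
    rw [← hMv]
    by_cases hwu : w = u
    · subst hwu
      have h1 := hv.2 w hw
      by_contra hcon
      rw [not_lt] at hcon
      by_cases hp : Pri τ U v (M.1 v)
      · obtain ⟨hp1, φ, hφ, hφv⟩ := hp
        obtain ⟨s, hs, -, hrest⟩ := canDrop_of_divisor (hU hφ)
        have hsv : s = v := by
          by_contra hne
          rw [hrest v (Ne.symm hne)] at hφv
          exact lt_irrefl _ hφv
        have h3 := hs.2 w (by rw [hsv]; exact hw)
        have h4 := hAτ w
        have h5 := congrArg Fin.val hp1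
        rw [hsv] at h3
        omega
      · have := htri w v (by omega) (A.1 w) (M.1 v) hp
        omega
    · rw [← ru w hwu]; exact hv.2 w hw
  obtain ⟨M', hM', hM'v, hM's⟩ := exists_divisor_of_canDrop hdrop
  have hM'val : (M'.1 v).val + 1 = (A.1 v).val := by
    obtain ⟨s, -, hs1, hs2⟩ := canDrop_of_divisor hM'
    by_cases hsv : s = v
    · rw [← hsv]; exact hs1
    · rw [hs2 v (Ne.symm hsv)] at hM'v; omega
  have hcodM' : codeg M' = i := by
    have := hM'.2
    rw [c.codeg_at (i + 1) hie] at this
    omega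
  have hBM' : B ≤ M' := fun s => by
    rw [Fin.le_def]
    by_cases hs : s = v
    · subst hs
      have := congrArg Fin.val hMv
      omega
    · rw [hM's s hs, rv s hs]
      exact c.mono (Nat.le_succ i) s
  have hB' : B < M' := lt_of_le_of_ne hBM' fun he => by
    have h0 := c.codeg_at (i - 1) (by omega)
    rw [show c.at' (i - 1) = M' from he, hcodM'] at h0
    omega
  let c' : MChain τ :=
    { at' := Function.update c.at' i M'
      codeg_at := fun j hj => by
        by_cases h : j = i
        · subst h; rw [Function.update_self, hcodM']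
        · rw [Function.update_of_ne h]; exact c.codeg_at j hj
      lt_succ := fun j hj => by
        by_cases h : j = i
        · subst h
          rw [Function.update_self, Function.update_of_ne (by omega)]
          exact hM'.1
        · rw [Function.update_of_ne h]
          by_cases h' : j + 1 = i
          · rw [h', Function.update_self, show j = i - 1 by omega]
            exact hB'
          · rw [Function.update_of_ne h']
            exact c.lt_succ j hj
      top := fun j hj => by rw [Function.update_of_ne (by omega)]; exact c.top j hj }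
  have hne : ∀ j, j ≠ i → c'.at' j = c.at' j := fun j hj => Function.update_of_ne hj _ _
  have hci : c'.at' i = M' := Function.update_self _ _ _
  have hlab : stepLab τ U M' A = lab τ U v (A.1 v) := by
    obtain ⟨s, -, es, rs, ls⟩ := exists_box hM'
    rw [ls]
    by_cases hsv : s = v
    · rw [hsv]
    · rw [rs v (Ne.symm hsv)] at hM'v; omega
  refine ⟨c', hne, ⟨⟨codeg τ - 1 - i, by omega⟩, fun j hj => ?_, ?_⟩, ?_⟩
  · have hj' : j.val < codeg τ - 1 - i := hj
    show stepLab τ U _ _ = stepLab τ U _ _
    rw [hne _ (by omega), hne _ (by omega)]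
  · show stepLab τ U _ _ < stepLab τ U _ _
    simp only
    rw [show codeg τ - 1 - (codeg τ - 1 - i) = i by omega, show codeg τ - (codeg τ - 1 - i) = i + 1 by omega,
      hci, hne _ (by omega), hlab, lu, ← hMv]
    exact hdesc
  · intro he
    by_cases htop : codeg τ - 1 = i
    · rw [htop, hci]
      have hA : A = τ := c.top _ (by omega)
      have hMU : M ∈ U := by
        have h0 := hc he
        rw [htop] at h0
        exact h0
      have hpu : Pri τ U u (A.1 u) := ⟨by rw [hA], M, hMU, by rw [← hA]; exact Fin.lt_def.2 (by omega)⟩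
      have hpv : Pri τ U v (M.1 v) := by
        by_contra hp
        unfold lab at hdesc
        rw [if_neg hp, if_pos hpu] at hdesc
        have := u.isLt
        omega
      obtain ⟨-, φ, hφ, hφv⟩ := hpv
      obtain ⟨s, -, hs1, hs2⟩ := canDrop_of_divisor (hU hφ)
      have hsv : s = v := by
        by_contra hne'
        rw [hs2 v (Ne.symm hne')] at hφv
        exact lt_irrefl _ hφv
      suffices M' = φ from this ▸ hφ
      refine Subtype.ext (funext fun r => ?_)
      by_cases hr : r = v
      · subst hr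
        rw [hsv] at hs1
        exact Fin.ext (by rw [hA] at hM'val; omega)
      · rw [hM's r hr, hs2 r (by rw [hsv]; exact hr), hA]
    · rw [hne _ htop]; exact hc he

theorem exists_mchain (τ : Idx d n) : ∀ (S : Finset (Idx d n)), IsChain (· ≤ ·) (S : Set (Idx d n)) →
    (∀ θ ∈ S, θ ≤ τ) → ∃ c : MChain τ, ∀ θ ∈ S, θ = c.at' (codeg θ) := by
  classical
  induction hk : codeg τ using Nat.strong_induction_on generalizing τ with
  | _ k ih =>
    intro S hS hle
    rcases Nat.eq_zero_or_pos k with rfl | hpos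
    · exact ⟨⟨fun _ => τ, fun i hi => by omega, fun i hi => absurd hi (by omega), fun _ _ => rfl⟩,
        fun θ hθ => eq_bot_of_codeg (by
          rcases eq_or_lt_of_le (hle θ hθ) with h | h
          · rw [h]; exact hk
          · have := codeg_lt h; omega) hk⟩
    obtain ⟨φ, hφ, hφS⟩ : ∃ φ ∈ divisors τ, ∀ θ ∈ S.erase τ, θ ≤ φ := by
      rcases (S.erase τ).eq_empty_or_nonempty with h | h
      · have hbot : ∃ ψ, ψ < τ := by
          refine ⟨botIdx (by simpa using Fintype.card_le_of_injective τ.1 τ.2.injective), lt_of_le_of_ne (botIdx_le _ τ) ?_⟩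
          intro he
          rw [← he] at hk
          simp [codeg, botIdx] at hk
          omega
        obtain ⟨ψ, hψ⟩ := hbot
        obtain ⟨φ, hφ, -⟩ := exists_divisor hψ
        exact ⟨φ, hφ, by simp [h]⟩
      · obtain ⟨θ, hθ, hmax⟩ := (S.erase τ).exists_maximal h
        have hmax' : ∀ x ∈ S.erase τ, x ≤ θ := fun x hx => by
          rcases hS.total (Finset.mem_of_mem_erase hx) (Finset.mem_of_mem_erase hθ) with h' | h'
          · exact h'
          · exact hmax hx h'
        obtain ⟨φ, hφ, hθφ⟩ := exists_divisor (lt_of_le_of_ne (hle θ (Finset.mem_of_mem_erase hθ)) (Finset.ne_of_mem_erase hθ))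
        exact ⟨φ, hφ, fun x hx => (hmax' x hx).trans hθφ⟩
    have hcφ := hφ.2
    obtain ⟨c, hc⟩ := ih (codeg φ) (by omega) φ rfl (S.erase τ) (hS.mono (by simp)) hφS
    refine ⟨⟨fun i => if i < k then c.at' i else τ, fun i hi => ?_, fun i hi => ?_, fun i hi => if_neg (by omega)⟩,
      fun θ hθ => ?_⟩
    · by_cases h : i < k
      · rw [if_pos h]; exact c.codeg_at i (by omega)
      · rw [if_neg h]; omega
    · rw [if_pos (by omega : i < k)]
      by_cases h : i + 1 < k
      · rw [if_pos h]; exact c.lt_succ i (by omega)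
      · rw [if_neg h, c.top i (by omega)]; exact hφ.1
    · by_cases h : θ = τ
      · subst h; simp only [hk, lt_irrefl, if_false]
      · have := hc θ (Finset.mem_erase.2 ⟨h, hθ⟩)
        have hlt := codeg_lt (lt_of_le_of_ne (hle θ hθ) h)
        simp only
        rw [if_pos (by omega)]
        exact this

/-- A chain is below an admissible top. -/
def Adm (τ : Idx d n) (U : Set (Idx d n)) (S : Finset (Idx d n)) : Prop :=
  IsChain (· ≤ ·) (S : Set (Idx d n)) ∧ (∀ θ ∈ S, θ ≤ τ) ∧
    (0 < codeg τ → ∃ φ ∈ U, ∀ θ ∈ S, θ ≠ τ → θ ≤ φ)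

/-- The canonical chain through `S`. -/
theorem exists_canonical (hU : U ⊆ divisors τ) {S : Finset (Idx d n)} (hS : Adm τ U S) :
    ∃ c : MChain τ, Allowed U c ∧ (∀ θ ∈ S, θ = c.at' (codeg θ)) ∧ (∀ i ∈ desc U c, c.at' i ∈ S) := by
  classical
  haveI := Fintype.ofFinite (MChain τ)
  set C := Finset.univ.filter fun c : MChain τ => Allowed U c ∧ ∀ θ ∈ S, θ = c.at' (codeg θ)
  have hne : C.Nonempty := by
    rcases Nat.eq_zero_or_pos (codeg τ) with h0 | hpos
    · obtain ⟨c, hc⟩ := exists_mchain τ S hS.1 hS.2.1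
      exact ⟨c, Finset.mem_filter.2 ⟨Finset.mem_univ _, fun h => absurd h (by omega), hc⟩⟩
    · obtain ⟨φ, hφ, hφS⟩ := hS.2.2 hpos
      obtain ⟨c, hc⟩ := exists_mchain φ (S.erase τ) (hS.1.mono (by simp))
        (fun θ hθ => hφS θ (Finset.mem_of_mem_erase hθ) (Finset.ne_of_mem_erase hθ))
      have hcφ := (hU hφ).2
      refine ⟨⟨fun i => if i < codeg τ then c.at' i else τ, fun i hi => ?_, fun i hi => ?_, fun i hi => if_neg (by omega)⟩,
        Finset.mem_filter.2 ⟨Finset.mem_univ _, fun _ => ?_, fun θ hθ => ?_⟩⟩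
      · by_cases h : i < codeg τ
        · rw [if_pos h]; exact c.codeg_at i (by omega)
        · rw [if_neg h]; omega
      · rw [if_pos hi]
        by_cases h : i + 1 < codeg τ
        · rw [if_pos h]; exact c.lt_succ i (by omega)
        · rw [if_neg h, c.top i (by omega)]; exact (hU hφ).1
      · simp only
        rw [if_pos (by omega), c.top _ (by omega)]
        exact hφ
      · by_cases h : θ = τ
        · subst h; simp only [lt_irrefl, if_false]
        · have h1 := hc θ (Finset.mem_erase.2 ⟨h, hθ⟩)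
          have hlt := codeg_lt (lt_of_le_of_ne (hS.2.1 θ hθ) h)
          simp only
          rw [if_pos hlt]
          exact h1
  obtain ⟨c, hc, hmin⟩ := C.exists_min_image (word U) hne
  obtain ⟨-, hca, hcS⟩ := Finset.mem_filter.1 hc
  refine ⟨c, hca, hcS, fun i hi => ?_⟩
  by_contra hiS
  obtain ⟨c', hne', hlt, hall⟩ := exists_swap hU hca hi
  refine (hmin c' (Finset.mem_filter.2 ⟨Finset.mem_univ _, hall, fun θ hθ => ?_⟩)).not_gt hlt
  rw [hne' _ fun e => hiS (by rw [← e, ← hcS θ hθ]; exact hθ)]
  exact hcS θ hθ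

end Groth.Agent.SMT
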