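import Groth.Agent.SMT.Rel

/-! Straightening: standard monomials span modulo the shuffle relations. -/

noncomputable section

namespace Groth.Agent.SMT

open MvPolynomial W4bk4grassmannian

universe u

variable {d n : ℕ} {K : Type u} [CommRing K]

attribute [-simp] Fin.val_fin_le Fin.val_fin_lt

theorem val_le (θ : Idx d n) (t : Fin d) : (θ.1 t).val + d ≤ n + t.val := by
  let θ' : Idx d n := ⟨fun s => Fin.rev (θ.1 (Fin.rev s)), fun a b h => Fin.rev_lt_rev.2 (θ.2 (Fin.rev_lt_rev.2 h))⟩
  have h := val_ge θ' (Fin.rev t)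
  simp only [θ', Fin.rev_rev, Fin.val_rev] at h
  have := t.isLt; have := (θ.1 t).isLt
  omega

theorem le_sortIdx {a : Fin d → Fin n} (h : (Finset.univ.image a).card = d) {i : Idx d n}
    (ha : ∀ t, i.1 t ≤ a t) : i ≤ sortIdx d n a h := by
  obtain ⟨π, hπ, -⟩ := exists_perm a h
  intro k
  obtain ⟨t, ht, htk⟩ : ∃ t, k ≤ t ∧ π t ≤ k := by
    by_contra hc
    push Not at hc
    have : ((Finset.Iic k).image π.symm).card ≤ (Finset.Iio k).card := Finset.card_le_card fun x hx => by
      obtain ⟨y, hy, rfl⟩ := Finset.mem_image.1 hx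
      rw [Finset.mem_Iio]
      by_contra hk
      have := hc _ (not_lt.1 hk)
      rw [Equiv.apply_symm_apply] at this
      exact this.not_ge (Finset.mem_Iic.1 hy)
    rw [Finset.card_image_of_injective _ π.symm.injective, Fin.card_Iic, Fin.card_Iio] at this
    omega
  exact ((i.2.monotone ht).trans (ha t)).trans ((hπ t).le.trans ((sortIdx d n a h).2.monotone htk))

theorem sortIdx_le {a : Fin d → Fin n} (h : (Finset.univ.image a).card = d) {j : Idx d n}
    (ha : ∀ t, a t ≤ j.1 t) : sortIdx d n a h ≤ j := by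
  obtain ⟨π, hπ, -⟩ := exists_perm a h
  intro k
  obtain ⟨t, ht, htk⟩ : ∃ t, t ≤ k ∧ k ≤ π t := by
    by_contra hc
    push Not at hc
    have : ((Finset.Ici k).image π.symm).card ≤ (Finset.Ioi k).card := Finset.card_le_card fun x hx => by
      obtain ⟨y, hy, rfl⟩ := Finset.mem_image.1 hx
      rw [Finset.mem_Ioi]
      by_contra hk
      have := hc _ (not_lt.1 hk)
      rw [Equiv.apply_symm_apply] at this
      exact this.not_ge (Finset.mem_Ici.1 hy)
    rw [Finset.card_image_of_injective _ π.symm.injective, Fin.card_Ici, Fin.card_Ioi] at this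
    omega
  exact (((sortIdx d n a h).2.monotone htk).trans (hπ t).ge).trans ((ha t).trans (j.2.monotone ht))

theorem movingRows_strictMono {i j : Idx d n} {r : Fin d} (h : i.1 r < j.1 r) :
    StrictMono (movingRows i j r) := by
  intro a b hab
  have hab' : a.val < b.val := hab
  unfold movingRows
  by_cases ha : a.val ≤ r.val <;> by_cases hb : b.val ≤ r.val
  · rw [dif_pos ha, dif_pos hb]; exact i.2 hab'
  · rw [dif_pos ha, dif_neg hb]
    exact (i.2.monotone (b := r) ha).trans_lt (h.trans_le (j.2.monotone (Fin.le_def.2 (by simp; omega))))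
  · omega
  · rw [dif_neg ha, dif_neg hb]; exact j.2 (Fin.lt_def.2 (by simp; omega))

/-- The squared weight used for termination of straightening. -/
def phi (e : Idx d n →₀ ℕ) : ℕ := e.sum fun θ k => k * rowSum θ ^ 2

theorem phi_add (e e' : Idx d n →₀ ℕ) : phi (e + e') = phi e + phi e' :=
  Finsupp.sum_add_index' (fun _ => zero_mul _) (fun _ _ _ => add_mul _ _ _)

theorem phi_single (θ : Idx d n) : phi (Finsupp.single θ 1) = rowSum θ ^ 2 := by simp [phi]

theorem rowSum_le (θ : Idx d n) : rowSum θ ≤ d * n := by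
  refine (Finset.sum_le_card_nsmul _ _ n fun t _ => (θ.1 t).isLt.le).trans ?_
  simp

theorem phi_le (e : Idx d n →₀ ℕ) : phi e ≤ e.degree * (d * n) ^ 2 := by
  rw [Finsupp.degree_apply, Finset.sum_mul]
  exact Finset.sum_le_sum fun θ _ => Nat.mul_le_mul_left _ (Nat.pow_le_pow_left (rowSum_le θ) 2)

/-- An exponent is standard if its support is a chain. -/
def IsStd (e : Idx d n →₀ ℕ) : Prop := IsChain (· ≤ ·) (e.support : Set (Idx d n))

theorem shuffle_id_term {i j : Idx d n} {r : Fin d} (hp : IsPivot i j r)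
    (A : Finset (Fin (d + 1))) (hA : A = Finset.univ.filter fun k => k.val ≤ r.val) :
    shuffleTerm K i j r A = X i * X j := by
  have hcard : A.card = r.val + 1 := by
    rw [hA, show (Finset.univ.filter fun k : Fin (d + 1) => k.val ≤ r.val) = Finset.Iic ⟨r.val, by omega⟩ from by
      ext; simp [Fin.le_def], Fin.card_Iic]
  have hC : Aᶜ.card = d - r.val := card_compl_of_card r hcard
  have e1 : (fun p : Fin (r.val + 1) => (⟨p.val, by omega⟩ : Fin (d + 1))) = A.orderEmbOfFin hcard :=
    Finset.orderEmbOfFin_unique hcard (fun p => by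
      simp only [hA, Finset.mem_filter, Finset.mem_univ, true_and]; omega) fun a b h => h
  have e2 : (fun q : Fin (d - r.val) => (⟨r.val + 1 + q.val, by have := q.isLt; omega⟩ : Fin (d + 1))) =
      Aᶜ.orderEmbOfFin hC :=
    Finset.orderEmbOfFin_unique hC (fun q => by
      simp only [hA, Finset.mem_compl, Finset.mem_filter, Finset.mem_univ, true_and, not_le]; omega)
      fun a b h => by have : a.val < b.val := h; exact Fin.lt_def.2 (by simp; omega)
  have hI : shuffleI i j r A hcard = i.1 := by
    funext t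
    unfold shuffleI
    split_ifs with ht
    · rw [← e1, movingRows, dif_pos (by exact ht)]
    · rfl
  have hJ : shuffleJ i j r A hcard = j.1 := by
    funext t
    unfold shuffleJ
    split_ifs with ht
    · rfl
    · rw [← e2, movingRows, dif_neg (by simp; omega)]
      exact congrArg j.1 (Fin.ext (by simp; omega))
  have hsgn : shuffleSign r A = 0 := by
    rw [shuffleSign, ← Finset.image_orderEmbOfFin_univ A hcard,
      Finset.sum_image fun x _ y _ e => (A.orderEmbOfFin hcard).injective e, ← e1]
    simp only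
    rw [sum_range_id_eq, Nat.sub_self]
  have hcoord : ∀ θ : Idx d n, coord K d n θ.1 = X θ := by
    intro θ
    have h : (Finset.univ.image θ.1).card = d := card_image_iff.2 θ.2.injective
    rw [coord, dif_pos h, sortIdx_self]
    have : invCount d n θ.1 = 0 := by
      rw [invCount, Finset.card_eq_zero, Finset.filter_eq_empty_iff]
      rintro p - ⟨h1, h2⟩
      exact (θ.2 h1).not_gt h2
    rw [this, pow_zero, one_mul]
  rw [shuffleTerm, dif_pos hcard, hI, hJ, hcoord, hcoord, hsgn, pow_zero, one_mul]

/-- The pairs occurring when a product `X i * X j` is straightened once. -/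
def stepSet (i j : Idx d n) : Set (PlRing K d n) :=
  {f | ∃ α β : Idx d n, i < α ∧ β < j ∧ rowSum α + rowSum β = rowSum i + rowSum j ∧ f = X α * X β}

theorem step {i j : Idx d n} {r : Fin d} (hp : IsPivot i j r) :
    (X i * X j : PlRing K d n) ∈
      Submodule.restrictScalars K (plIdealTop K) ⊔ Submodule.span K (stepSet i j) := by
  classical
  set A₀ := Finset.univ.filter fun k : Fin (d + 1) => k.val ≤ r.val
  have hrel : shuffleRel K i j r ∈ plIdealTop (d := d) (n := n) K := Ideal.subset_span ⟨i, j, r, hp, rfl⟩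
  have hsum : shuffleRel K i j r = X i * X j + ∑ A ∈ Finset.univ.erase A₀, shuffleTerm K i j r A := by
    rw [shuffleRel, ← Finset.add_sum_erase _ _ (Finset.mem_univ A₀), shuffle_id_term hp A₀ rfl]
  rw [show (X i * X j : PlRing K d n) =
    shuffleRel K i j r - ∑ A ∈ Finset.univ.erase A₀, shuffleTerm K i j r A by rw [hsum]; ring]
  refine sub_mem (Submodule.mem_sup_left hrel) (Submodule.mem_sup_right (sum_mem fun A hA => ?_))
  unfold shuffleTerm
  split_ifs with hcard
  swap
  · exact zero_mem _
  by_cases hI : (Finset.univ.image (shuffleI i j r A hcard)).card = d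
  swap
  · simp [coord, hI]
  by_cases hJ : (Finset.univ.image (shuffleJ i j r A hcard)).card = d
  swap
  · simp [coord, hJ]
  simp only [coord, dif_pos hI, dif_pos hJ]
  have hC : Aᶜ.card = d - r.val := card_compl_of_card r hcard
  have hm := (movingRows_strictMono hp.2).monotone
  let emb : Idx (r.val + 1) (d + 1) := ⟨A.orderEmbOfFin hcard, (A.orderEmbOfFin hcard).strictMono⟩
  let emb' : Idx (d - r.val) (d + 1) := ⟨Aᶜ.orderEmbOfFin hC, (Aᶜ.orderEmbOfFin hC).strictMono⟩
  have hIle : ∀ t, i.1 t ≤ shuffleI i j r A hcard t := by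
    intro t
    unfold shuffleI
    split_ifs with ht
    · refine le_trans (le_of_eq ?_) (hm (a := ⟨t.val, by omega⟩) (b := A.orderEmbOfFin hcard ⟨t.val, by omega⟩) (val_ge emb ⟨t.val, by omega⟩))
      rw [movingRows, dif_pos (by exact ht)]
    · exact le_rfl
  have hJle : ∀ t, shuffleJ i j r A hcard t ≤ j.1 t := by
    intro t
    unfold shuffleJ
    split_ifs with ht
    · exact le_rfl
    · have hv := val_le emb' ⟨t.val - r.val, by have := t.isLt; omega⟩
      refine le_trans (hm (b := ⟨t.val + 1, by have := t.isLt; omega⟩) ?_) (le_of_eq ?_)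
      · rw [Fin.le_def]
        simp only [emb'] at hv ⊢
        have := t.isLt
        omega
      · rw [movingRows, dif_neg (by simp; omega)]
        congr 1
  have hsums : ∑ t, (shuffleI i j r A hcard t).val + ∑ t, (shuffleJ i j r A hcard t).val =
      rowSum i + rowSum j := by
    have hIs : ∑ t, (shuffleI i j r A hcard t).val =
        ∑ p : Fin (r.val + 1), (movingRows i j r (A.orderEmbOfFin hcard p)).val +
          ∑ t ∈ Finset.univ.filter (fun t : Fin d => ¬ t.val ≤ r.val), (i.1 t).val := by
      rw [← Finset.sum_filter_add_sum_filter_not Finset.univ (fun t : Fin d => t.val ≤ r.val)]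
      refine congrArg₂ (· + ·) ?_ (Finset.sum_congr rfl fun t ht => ?_)
      · refine (Finset.sum_bij' (fun p _ => (⟨p.val, by omega⟩ : Fin d))
          (fun t ht => (⟨t.val, by simp at ht; omega⟩ : Fin (r.val + 1))) ?_ ?_ ?_ ?_ ?_).symm
        · intro p _; simp; omega
        · intros; simp
        · intros; rfl
        · intros; rfl
        · intro p _
          rw [shuffleI, dif_pos (by simp; omega)]
      · rw [shuffleI, dif_neg (Finset.mem_filter.1 ht).2]
    have hJs : ∑ t, (shuffleJ i j r A hcard t).val =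
        ∑ q : Fin (d - r.val), (movingRows i j r (Aᶜ.orderEmbOfFin hC q)).val +
          ∑ t ∈ Finset.univ.filter (fun t : Fin d => t.val < r.val), (j.1 t).val := by
      rw [← Finset.sum_filter_add_sum_filter_not Finset.univ (fun t : Fin d => t.val < r.val), add_comm]
      refine congrArg₂ (· + ·) ?_ (Finset.sum_congr rfl fun t ht => ?_)
      · refine (Finset.sum_bij' (fun q _ => (⟨r.val + q.val, by have := q.isLt; omega⟩ : Fin d))
          (fun t ht => (⟨t.val - r.val, by simp at ht; have := t.isLt; omega⟩ : Fin (d - r.val))) ?_ ?_ ?_ ?_ ?_).symm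
        · intro p _; simp
        · intros; simp
        · intros; exact Fin.ext (by simp)
        · intro t ht; simp at ht; exact Fin.ext (by simp; omega)
        · intro q _
          rw [shuffleJ]
          simp [-Fin.val_fin_lt, -Fin.val_fin_le]
      · rw [shuffleJ]; simp only; rw [dif_pos (Finset.mem_filter.1 ht).2]
    have hsplit : ∀ f : Fin (d + 1) → ℕ, ∑ p, f (A.orderEmbOfFin hcard p) + ∑ q, f (Aᶜ.orderEmbOfFin hC q) = ∑ k, f k := by
      intro f
      rw [← (finSumEquivOfFinset hcard hC).sum_comp f, Fintype.sum_sum_type]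
      rfl
    rw [hIs, hJs, add_add_add_comm, hsplit fun k => (movingRows i j r k).val, rowSum, rowSum,
      ← Finset.sum_filter_add_sum_filter_not Finset.univ (fun t : Fin d => t.val ≤ r.val) (fun t => (i.1 t).val),
      ← Finset.sum_filter_add_sum_filter_not Finset.univ (fun t : Fin d => t.val < r.val) (fun t => (j.1 t).val)]
    have hmov : ∑ k, (movingRows i j r k).val =
        ∑ t ∈ Finset.univ.filter (fun t : Fin d => t.val ≤ r.val), (i.1 t).val +
        ∑ t ∈ Finset.univ.filter (fun t : Fin d => ¬ t.val < r.val), (j.1 t).val := by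
      rw [← Finset.sum_filter_add_sum_filter_not Finset.univ (fun k : Fin (d + 1) => k.val ≤ r.val)]
      refine congrArg₂ (· + ·) ?_ ?_
      · refine Finset.sum_bij' (fun k hk => (⟨k.val, by simp at hk; omega⟩ : Fin d))
          (fun t _ => (⟨t.val, by omega⟩ : Fin (d + 1))) ?_ ?_ ?_ ?_ ?_
        · intro k hk; simpa using hk
        · intro t ht; simpa using ht
        · intros; rfl
        · intros; rfl
        · intro k hk; rw [movingRows, dif_pos (Finset.mem_filter.1 hk).2]
      · refine Finset.sum_bij' (fun k hk => (⟨k.val - 1, by simp at hk; have := k.isLt; omega⟩ : Fin d))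
          (fun t _ => (⟨t.val + 1, by omega⟩ : Fin (d + 1))) ?_ ?_ ?_ ?_ ?_
        · intro k hk; simp at hk ⊢; omega
        · intro t ht; simp at ht ⊢; omega
        · intro k hk; simp at hk; exact Fin.ext (by simp; omega)
        · intros; exact Fin.ext (by simp)
        · intro k hk; rw [movingRows, dif_neg (Finset.mem_filter.1 hk).2]
    rw [hmov]; ring
  set α := sortIdx d n _ hI
  set β := sortIdx d n _ hJ
  have hα : i ≤ α := le_sortIdx hI hIle
  have hβ : β ≤ j := sortIdx_le hJ hJle
  have hs : rowSum α + rowSum β = rowSum i + rowSum j := by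
    rw [rowSum_sortIdx, rowSum_sortIdx]; exact hsums
  have hne : i ≠ α := by
    intro heq
    apply Finset.ne_of_mem_erase hA
    obtain ⟨p, hp'⟩ | hall := em (∃ p : Fin (r.val + 1), p.val < (A.orderEmbOfFin hcard p).val)
    · exfalso
      have h1 : rowSum i < ∑ t, (shuffleI i j r A hcard t).val := by
        refine Finset.sum_lt_sum (fun t _ => hIle t) ⟨⟨p.val, by omega⟩, Finset.mem_univ _, ?_⟩
        show i.1 _ < shuffleI i j r A hcard _
        rw [shuffleI, dif_pos (by simp; omega)]
        refine lt_of_eq_of_lt ?_ (movingRows_strictMono hp.2 (a := ⟨p.val, by omega⟩) hp')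
        rw [movingRows, dif_pos (by simp; omega)]
      rw [← rowSum_sortIdx _ hI, show sortIdx d n _ hI = i from heq.symm] at h1
      exact lt_irrefl _ h1
    · push Not at hall
      have he : ∀ p : Fin (r.val + 1), (A.orderEmbOfFin hcard p).val = p.val := fun p =>
        le_antisymm (hall p) (val_ge emb p)
      ext k
      simp only [A₀, Finset.mem_filter, Finset.mem_univ, true_and]
      rw [← Finset.mem_coe, ← Finset.range_orderEmbOfFin A hcard, Set.mem_range]
      constructor
      · rintro ⟨p, rfl⟩; rw [he]; omega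
      · intro hk; exact ⟨⟨k.val, by omega⟩, Fin.ext (he _)⟩
  have hαl : i < α := lt_of_le_of_ne hα hne
  have hβl : β < j := lt_of_le_of_ne hβ fun h => by
    have := rowSum_lt hαl; rw [h] at hs; omega
  have hmem : ((-1 : PlRing K d n) ^ shuffleSign r A * ((-1) ^ invCount d n (shuffleI i j r A hcard) * X α) *
      ((-1) ^ invCount d n (shuffleJ i j r A hcard) * X β)) =
      ((-1 : K) ^ (shuffleSign r A + invCount d n (shuffleI i j r A hcard) +
        invCount d n (shuffleJ i j r A hcard))) • (X α * X β) := by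
    rw [smul_eq_C_mul, map_pow, map_neg, map_one, pow_add, pow_add]; ring
  rw [hmem]
  exact Submodule.smul_mem _ _ (Submodule.subset_span ⟨α, β, hαl, hβl, hs, rfl⟩)

theorem exists_pivot {i j : Idx d n} (h : ¬ j ≤ i) : ∃ r, IsPivot i j r := by
  classical
  have hne : (Finset.univ.filter fun t => i.1 t < j.1 t).Nonempty := by
    by_contra hc
    refine h fun t => not_lt.1 fun ht => hc ⟨t, ?_⟩
    simpa using ht
  refine ⟨_, fun t ht => not_lt.1 fun hc => ?_, (Finset.mem_filter.1 (Finset.min'_mem _ hne)).2⟩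
  exact ht.not_ge (Finset.min'_le _ t (by simpa using hc))

theorem skew_of_not_isStd {e : Idx d n →₀ ℕ} (h : ¬ IsStd e) :
    ∃ i j e', e = Finsupp.single i 1 + Finsupp.single j 1 + e' ∧ rowSum j ≤ rowSum i ∧ ¬ j ≤ i ∧ ¬ i ≤ j := by
  classical
  simp only [IsStd, IsChain, Set.Pairwise, not_forall, not_or, Finset.mem_coe] at h
  obtain ⟨a, ha, b, hb, hab, h1, h2⟩ := h
  wlog hle : rowSum b ≤ rowSum a generalizing a b
  · exact this b hb a ha hab.symm h2 h1 (le_of_not_ge hle)
  refine ⟨a, b, e - (Finsupp.single a 1 + Finsupp.single b 1), ?_, hle, h2, h1⟩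
  rw [add_tsub_cancel_of_le]
  intro c
  rw [Finsupp.mem_support_iff] at ha hb
  rw [Finsupp.add_apply, Finsupp.single_apply, Finsupp.single_apply]
  split_ifs with hca hcb hcb <;> subst_vars
  · exact absurd rfl hab
  · omega
  · omega
  · omega

theorem monomial_pair (i j : Idx d n) (e' : Idx d n →₀ ℕ) :
    monomial (Finsupp.single i 1 + Finsupp.single j 1 + e') (1 : K) = X i * X j * monomial e' 1 := by
  simp only [MvPolynomial.X, MvPolynomial.monomial_mul, one_mul]

theorem sq_add_sq_lt {a b x y : ℕ} (hxy : x + y = a + b) (hax : a < x) (hba : b ≤ a) :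
    a ^ 2 + b ^ 2 < x ^ 2 + y ^ 2 := by
  obtain ⟨k, rfl⟩ : ∃ k, x = a + k := ⟨x - a, by omega⟩
  obtain ⟨c, rfl⟩ : ∃ c, a = b + c := ⟨a - b, by omega⟩
  have hk : k ≤ b := by omega
  obtain ⟨m, rfl⟩ : ∃ m, b = y + m := ⟨k, by omega⟩
  have : k = m := by omega
  subst this
  nlinarith

/-- One rewriting step for a non-standard monomial. -/
theorem step_monomial {e : Idx d n →₀ ℕ} (he : ¬ IsStd e) :
    monomial e (1 : K) ∈ Submodule.restrictScalars K (plIdealTop K) ⊔
      restrictSupport K {g : Idx d n →₀ ℕ | g.degree = e.degree ∧ phi e < phi g} := by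
  classical
  obtain ⟨i, j, e', rfl, hs, hji, hij⟩ := skew_of_not_isStd he
  obtain ⟨r, hr⟩ := exists_pivot hji
  rw [monomial_pair]
  have h := step (K := K) hr
  rw [Submodule.mem_sup] at h
  obtain ⟨y, hy, z, hz, hyz⟩ := h
  rw [← hyz, add_mul]
  refine Submodule.add_mem_sup (Ideal.mul_mem_right _ _ hy) ?_
  have : Submodule.span K (stepSet i j) ≤
      (restrictSupport K {g : Idx d n →₀ ℕ | g.degree = (Finsupp.single i 1 + Finsupp.single j 1 + e').degree ∧
        phi (Finsupp.single i 1 + Finsupp.single j 1 + e') < phi g}).comap (LinearMap.mulRight K (monomial e' (1 : K))) := by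
    rw [Submodule.span_le]
    rintro _ ⟨α, β, hα, hβ, hsum, rfl⟩
    rw [SetLike.mem_coe, Submodule.mem_comap, LinearMap.mulRight_apply, ← monomial_pair, monomial_mem_restrictSupport]
    left
    refine ⟨by simp, ?_⟩
    simp only [phi_add, phi_single]
    have := sq_add_sq_lt hsum (rowSum_lt hα) hs
    omega
  exact this hz

theorem monomial_mem_std (e : Idx d n →₀ ℕ) :
    monomial e (1 : K) ∈ Submodule.restrictScalars K (plIdealTop K) ⊔
      restrictSupport K {g : Idx d n →₀ ℕ | IsStd g ∧ g.degree = e.degree ∧ phi e ≤ phi g} := by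
  induction hk : e.degree * (d * n) ^ 2 - phi e using Nat.strong_induction_on generalizing e with
  | _ k ih =>
    by_cases he : IsStd e
    · exact Submodule.mem_sup_right ((monomial_mem_restrictSupport K).2 (.inl ⟨he, rfl, le_rfl⟩))
    refine SetLike.le_def.1 (_root_.sup_le _root_.le_sup_left ?_) (step_monomial (K := K) he)
    rw [restrictSupport_eq_span, Submodule.span_le]
    rintro _ ⟨g, ⟨hdeg, hphi⟩, rfl⟩
    refine SetLike.le_def.1 (sup_le_sup le_rfl (restrictSupport_mono K fun h hh => ?_))
      (ih _ ?_ g rfl)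
    · exact ⟨hh.1, hh.2.1.trans hdeg, hphi.le.trans hh.2.2⟩
    · have := phi_le g; rw [hdeg] at this ⊢
      omega

theorem pair_mem_std : ∀ (i j : Idx d n), ¬ j ≤ i →
    (X i * X j : PlRing K d n) ∈ Submodule.restrictScalars K (plIdealTop K) ⊔
      Submodule.span K {f | ∃ α β : Idx d n, i < α ∧ β < j ∧ β ≤ α ∧
        rowSum α + rowSum β = rowSum i + rowSum j ∧ f = X α * X β} := by
  intro i
  induction hk : d * n - rowSum i using Nat.strong_induction_on generalizing i with
  | _ k ih =>
    intro j hji
    obtain ⟨r, hr⟩ := exists_pivot hji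
    refine SetLike.le_def.1 (_root_.sup_le _root_.le_sup_left ?_) (step (K := K) hr)
    rw [Submodule.span_le]
    rintro _ ⟨α, β, hα, hβ, hs, rfl⟩
    by_cases hle : β ≤ α
    · exact Submodule.mem_sup_right (Submodule.subset_span ⟨α, β, hα, hβ, hle, hs, rfl⟩)
    · refine SetLike.le_def.1 (sup_le_sup le_rfl (Submodule.span_mono ?_))
        (ih _ (by have := rowSum_le α; have := rowSum_lt hα; omega) α rfl β hle)
      rintro _ ⟨α', β', h1, h2, h3, h4, rfl⟩
      exact ⟨α', β', hα.trans h1, h2.trans hβ, h3, h4.trans hs, rfl⟩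

/-- The ideal of shuffle relations and of the coordinates outside `D`. -/
def idealOn (K : Type u) [CommRing K] (D : Set (Idx d n)) : Ideal (PlRing K d n) :=
  plIdealTop K ⊔ Ideal.span (X '' Dᶜ)

/-- Standard exponents supported in `D`. -/
def stdIn (D : Set (Idx d n)) : Set (Idx d n →₀ ℕ) := {e | IsStd e ∧ ↑e.support ⊆ D}

theorem exists_std_sub_mem (D : Set (Idx d n)) (p : PlRing K d n) :
    ∃ q ∈ restrictSupport K (stdIn D), p - q ∈ idealOn K D := by
  classical
  have h : (⊤ : Submodule K (PlRing K d n)) ≤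
      Submodule.restrictScalars K (idealOn K D) ⊔ restrictSupport K (stdIn D) := by
    rw [← (basisMonomials (Idx d n) K).span_eq, Submodule.span_le]
    rintro _ ⟨e, rfl⟩
    rw [coe_basisMonomials]
    refine SetLike.le_def.1 (_root_.sup_le ?_ ?_) (monomial_mem_std (K := K) e)
    · exact le_trans (fun x hx => Ideal.mem_sup_left hx) _root_.le_sup_left
    · rw [restrictSupport_eq_span, Submodule.span_le]
      rintro _ ⟨g, hg, rfl⟩
      by_cases hgD : ↑g.support ⊆ D
      · exact Submodule.mem_sup_right ((monomial_mem_restrictSupport K).2 (.inl ⟨hg.1, hgD⟩))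
      · obtain ⟨θ, hθ, hθD⟩ := Set.not_subset.1 hgD
        refine Submodule.mem_sup_left (Ideal.mem_sup_right ?_)
        obtain ⟨g', rfl⟩ : ∃ g', g = Finsupp.single θ 1 + g' :=
          ⟨g - Finsupp.single θ 1, (add_tsub_cancel_of_le (by
            intro c; rw [Finsupp.single_apply]; split_ifs with hc
            · subst hc; simp at hθ; omega
            · exact Nat.zero_le _)).symm⟩
        show monomial (Finsupp.single θ 1 + g') (1 : K) ∈ _
        rw [show monomial (Finsupp.single θ 1 + g') (1 : K) = X θ * monomial g' 1 by simp [X, monomial_mul]]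
        exact Ideal.mul_mem_right _ _ (Ideal.subset_span ⟨θ, hθD, rfl⟩)
  obtain ⟨a, ha, q, hq, rfl⟩ := Submodule.mem_sup.1 (h (Submodule.mem_top (x := p)))
  exact ⟨q, hq, by rwa [add_sub_cancel_right]⟩

theorem plIdeal_eq (τ : Idx d n) : plIdeal K τ = idealOn K {φ | φ ≤ τ} := by
  rw [plIdeal, Ideal.span_union, idealOn, plIdealTop]
  congr 2
  ext f
  simp only [Set.mem_ofPred_eq, Set.mem_image, Set.mem_compl_iff]
  exact ⟨fun ⟨φ, h, e⟩ => ⟨φ, h, e.symm⟩, fun ⟨φ, h, e⟩ => ⟨φ, h, e.symm⟩⟩

end Groth.Agent.SMT
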